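/-
helper903: framework for S5762 (Sylow intersections in almost simple groups, p ≥ 5).

`Meet p T`: every `p`-subgroup `P` of `Aut T` meets some conjugate of itself under an *inner* automorphism of `T`
trivially.
-/
import Mathlib
import Cfsg.Agent.S0060

set_option autoImplicit false

open scoped Pointwise

namespace Cfsg.Agent.H903.SylMeet

/-- Every `p`-subgroup `P` of `Aut T` meets `P ^ x` trivially for some `x` in `T`. -/
def Meet (p : ℕ) (T : Type*) [Group T] : Prop :=
  ∀ P : Subgroup (MulAut T), IsPGroup p P →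
    ∃ x : T, ∀ y ∈ P, MulAut.conj x * y * (MulAut.conj x)⁻¹ ∈ P → y = 1

section basic

variable {p : ℕ} {T : Type*} [Group T]

theorem conj_apply_aut (a : MulAut T) (x : T) :
    a * MulAut.conj x * a⁻¹ = MulAut.conj (a x) := by
  ext t
  simp [MulAut.mul_apply, MulAut.conj_apply]

theorem conj_mul_mul_inv (x : T) (y : MulAut T) :
    MulAut.conj x * y * (MulAut.conj x)⁻¹ = MulAut.conj (x * (y x)⁻¹) * y := by
  ext t
  simp [MulAut.mul_apply, MulAut.conj_apply, ← map_inv, mul_assoc]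

/-- Invariance under isomorphism. -/
theorem Meet.congr {T' : Type*} [Group T'] (e : T ≃* T') (h : Meet p T) : Meet p T' := by
  intro P hP
  have hP' : IsPGroup p (P.comap (MulAut.congr e).toMonoidHom) :=
    hP.comap_of_injective _ (MulAut.congr e).injective
  obtain ⟨x, hx⟩ := h _ hP'
  refine ⟨e x, fun y hy hxy => ?_⟩
  have key : ∀ t : T, (MulAut.congr e) (MulAut.conj t) = MulAut.conj (e t) := by
    intro t
    ext s
    simp [MulAut.congr]
  have hs : (MulAut.congr e) ((MulAut.congr e).symm y) = y := MulEquiv.apply_symm_apply _ _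
  have h1 : (MulAut.congr e).symm y ∈ P.comap (MulAut.congr e).toMonoidHom := by
    rw [Subgroup.mem_comap]
    change (MulAut.congr e) ((MulAut.congr e).symm y) ∈ P
    rw [hs]; exact hy
  have h2 : (MulAut.congr e).symm y = 1 := by
    apply hx _ h1
    rw [Subgroup.mem_comap]
    change (MulAut.congr e) (MulAut.conj x * (MulAut.congr e).symm y * (MulAut.conj x)⁻¹) ∈ P
    rw [map_mul, map_mul, map_inv, key, hs]
    exact hxy
  rw [← hs, h2, map_one]

theorem meet_congr {T' : Type*} [Group T'] (e : T ≃* T') : Meet p T ↔ Meet p T' :=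
  ⟨Meet.congr e, Meet.congr e.symm⟩

/-- If the property holds for one subgroup of `Aut T`, it holds for all subgroups of its conjugates. -/
theorem good_of_le_conj {P Q : Subgroup (MulAut T)} (a : MulAut T)
    (hQ : ∀ y ∈ Q, a⁻¹ * y * a ∈ P)
    (h : ∃ x : T, ∀ y ∈ P, MulAut.conj x * y * (MulAut.conj x)⁻¹ ∈ P → y = 1) :
    ∃ x : T, ∀ y ∈ Q, MulAut.conj x * y * (MulAut.conj x)⁻¹ ∈ Q → y = 1 := by
  obtain ⟨x, hx⟩ := h
  refine ⟨a x, fun y hy hxy => ?_⟩
  have h1 := hx (a⁻¹ * y * a) (hQ y hy) (by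
    have := hQ _ hxy
    rw [← conj_apply_aut] at this
    simpa [mul_assoc] using this)
  have : y = a * (a⁻¹ * y * a) * a⁻¹ := by group
  rw [this, h1]; simp

/-- It is enough to treat one `p`-subgroup of `Aut T` of index prime to `p`. -/
theorem meet_of_index [Finite T] [Fact p.Prime] (P : Subgroup (MulAut T)) (hP : IsPGroup p P)
    (hi : ¬ p ∣ P.index)
    (h : ∃ x : T, ∀ y ∈ P, MulAut.conj x * y * (MulAut.conj x)⁻¹ ∈ P → y = 1) : Meet p T := by
  intro Q hQ
  obtain ⟨S, hS⟩ := hQ.exists_le_sylow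
  let P' : Sylow p (MulAut T) := hP.toSylow hi
  obtain ⟨g, hg⟩ := MulAction.exists_smul_eq (MulAut T) P' S
  refine good_of_le_conj g (fun y hy => ?_) h
  have h1 : y ∈ (S : Subgroup (MulAut T)) := hS hy
  rw [← hg, Sylow.smul_def] at h1
  have h2 := (Subgroup.mem_smul_pointwise_iff_exists _ _ _).1 h1
  obtain ⟨s, hs, rfl⟩ := h2
  have hs' : s ∈ P := hs
  simpa [MulAut.smul_def, MulAut.conj_apply, mul_assoc] using hs'

/-- It is enough to treat one Sylow `p`-subgroup of `Aut T`. -/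
theorem meet_of_sylow [Finite T] [Fact p.Prime] (P : Sylow p (MulAut T))
    (h : ∃ x : T, ∀ y ∈ P, MulAut.conj x * y * (MulAut.conj x)⁻¹ ∈ P → y = 1) : Meet p T :=
  meet_of_index (P : Subgroup (MulAut T)) P.isPGroup' P.not_dvd_index h

/-- The reduction of the almost simple case to `Meet`. -/
theorem almost_simple {G : Type*} [Group G] (T : Subgroup G) [T.Normal]
    (hC : Subgroup.centralizer (T : Set G) = ⊥) (h : Meet p T) (H : Subgroup G)
    (hH : IsPGroup p H) :
    ∃ x : G, H ⊓ H.map (MulAut.conj x).toMonoidHom = ⊥ := by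
  have hinj : Function.Injective (MulAut.conjNormal : G →* MulAut T) := by
    rw [injective_iff_map_eq_one]
    intro g hg
    have : g ∈ Subgroup.centralizer (T : Set G) := by
      rw [Subgroup.mem_centralizer_iff]
      intro t ht
      have h1 := congrArg (fun f : MulAut T => ((f ⟨t, ht⟩ : T) : G)) hg
      simp only [MulAut.conjNormal_apply, MulAut.one_apply] at h1
      exact (mul_inv_eq_iff_eq_mul.1 h1).symm
    rw [hC] at this
    simpa using this
  obtain ⟨x, hx⟩ := h (H.map MulAut.conjNormal) (hH.map _)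
  refine ⟨(x : G), ?_⟩
  rw [eq_bot_iff]
  rintro y ⟨hy, hy'⟩
  obtain ⟨z, hz, rfl⟩ := hy'
  simp only [MulEquiv.toMonoidHom_eq_coe, MonoidHom.coe_coe, MulAut.conj_apply] at hy ⊢
  have hxc : (MulAut.conjNormal (x : G) : MulAut T) = MulAut.conj x := by
    ext t
    simp [MulAut.conjNormal_apply]
  have h1 : (MulAut.conjNormal z : MulAut T) = 1 := by
    apply hx _ (Subgroup.mem_map_of_mem _ hz)
    rw [← hxc, ← map_inv, ← map_mul, ← map_mul]
    exact Subgroup.mem_map_of_mem _ hy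
  have h2 : z = 1 := hinj (by rw [h1, map_one])
  subst h2
  simp

/-- The form used in proofs by contradiction: `P` meets all its conjugates non-trivially, so an element of
order `p` can be found. -/
theorem exists_orderOf_of_not_good [Finite T] [Fact p.Prime] {P : Subgroup (MulAut T)}
    (hP : IsPGroup p P)
    (h : ¬ ∃ x : T, ∀ y ∈ P, MulAut.conj x * y * (MulAut.conj x)⁻¹ ∈ P → y = 1) (x : T) :
    ∃ y ∈ P, MulAut.conj x * y * (MulAut.conj x)⁻¹ ∈ P ∧ orderOf y = p := by
  push Not at h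
  obtain ⟨y, hy, hxy, hy1⟩ := h x
  let Q : Subgroup (MulAut T) := P ⊓ P.comap (MulAut.conj (MulAut.conj x)).toMonoidHom
  have hyQ : y ∈ Q := by
    refine Subgroup.mem_inf.2 ⟨hy, ?_⟩
    rw [Subgroup.mem_comap]
    simpa [MulAut.conj_apply] using hxy
  have hQp : IsPGroup p Q := hP.to_le inf_le_left
  have hQn : Nontrivial Q := ⟨⟨y, hyQ⟩, 1, fun h => hy1 (congrArg Subtype.val h)⟩
  have hdvd : p ∣ Nat.card Q := by
    obtain ⟨n, hn⟩ := hQp.exists_card_eq
    rw [hn]
    rcases Nat.eq_zero_or_pos n with h0 | h0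
    · subst h0
      have := Finite.one_lt_card_iff_nontrivial.2 hQn
      rw [hn, pow_zero] at this
      exact absurd this (lt_irrefl 1)
    · exact dvd_pow_self p h0.ne'
  obtain ⟨z, hz⟩ := exists_prime_orderOf_dvd_card' p hdvd
  have hz2 := (Subgroup.mem_inf.1 z.2).2
  rw [Subgroup.mem_comap] at hz2
  refine ⟨z, (Subgroup.mem_inf.1 z.2).1, by simpa [MulAut.conj_apply] using hz2, ?_⟩
  rw [← hz]
  exact Subgroup.orderOf_coe z

end basic

section simple

variable {p : ℕ} [Fact p.Prime] {T : Type*} [Group T] [Finite T] [IsSimpleGroup T]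

omit [Fact p.Prime] [Finite T] in
theorem center_eq_bot (hT : ¬ IsMulCommutative T) : Subgroup.center T = ⊥ := by
  rcases (inferInstance : (Subgroup.center T).Normal).eq_bot_or_eq_top with h | h
  · exact h
  · exfalso
    apply hT
    refine ⟨⟨fun a b => ?_⟩⟩
    have : b ∈ Subgroup.center T := h ▸ Subgroup.mem_top b
    exact (Subgroup.mem_center_iff.1 this) a

omit [Fact p.Prime] [Finite T] in
theorem conj_injective (hT : ¬ IsMulCommutative T) :
    Function.Injective (MulAut.conj : T →* MulAut T) := by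
  rw [injective_iff_map_eq_one]
  intro t ht
  have : t ∈ Subgroup.center T := by
    rw [Subgroup.mem_center_iff]
    intro s
    have h1 := DFunLike.congr_fun ht s
    simp only [MulAut.conj_apply, MulAut.one_apply] at h1
    exact (mul_inv_eq_iff_eq_mul.1 h1).symm
  rw [center_eq_bot hT] at this
  simpa using this

/-- A `p`-subgroup of `Aut T` normalised by `Inn T` is trivial. -/
theorem normalised_trivial (hT : ¬ IsMulCommutative T) (Y : Subgroup (MulAut T))
    (hY : IsPGroup p Y)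
    (hn : ∀ t : T, ∀ y ∈ Y, MulAut.conj t * y * (MulAut.conj t)⁻¹ ∈ Y) : Y = ⊥ := by
  let N : Subgroup T := Y.comap MulAut.conj
  have hN : N.Normal := ⟨fun n hn' g => by
    rw [Subgroup.mem_comap] at hn' ⊢
    rw [map_mul, map_mul, map_inv]
    exact hn g _ hn'⟩
  rcases hN.eq_bot_or_eq_top with h | h
  · rw [eq_bot_iff]
    intro y hy
    rw [Subgroup.mem_bot]
    ext t
    have h1 : MulAut.conj (t * (y t)⁻¹) ∈ Y := by
      have h2 := hn t y hy
      rw [conj_mul_mul_inv] at h2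
      exact (Subgroup.mul_mem_cancel_right _ hy).1 h2
    have h2 : t * (y t)⁻¹ ∈ N := h1
    rw [h, Subgroup.mem_bot] at h2
    rw [MulAut.one_apply]
    exact (mul_inv_eq_one.1 h2).symm
  · exfalso
    have hTp : IsPGroup p T := by
      have h1 : IsPGroup p N := hY.comap_of_injective _ (conj_injective hT)
      rw [h] at h1
      exact h1.of_equiv Subgroup.topEquiv
    have hnt : Nontrivial (Subgroup.center T) := hTp.center_nontrivial
    rw [center_eq_bot hT] at hnt
    exact (not_nontrivial_iff_subsingleton.2 inferInstance) hnt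

/-- **Brodkey**: an abelian Sylow `p`-subgroup of `Aut T` meets some conjugate trivially. -/
theorem meet_of_comm (hT : ¬ IsMulCommutative T) (P : Sylow p (MulAut T))
    (hc : ∀ a ∈ P, ∀ b ∈ P, a * b = b * a) : Meet p T := by
  apply meet_of_sylow P
  let G₀ : Subgroup (MulAut T) := (MulAut.conj : T →* MulAut T).range ⊔ (P : Subgroup (MulAut T))
  have hPG : (P : Subgroup (MulAut T)) ≤ G₀ := le_sup_right
  have hnorm : ((MulAut.conj : T →* MulAut T).range).Normal := ⟨by
    rintro _ ⟨t, rfl⟩ g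
    exact ⟨g t, (conj_apply_aut g t).symm⟩⟩
  have hS : ¬ p ∣ ((P : Subgroup (MulAut T)).subgroupOf G₀).index := by
    intro h
    apply P.not_dvd_index
    exact h.trans (Subgroup.relIndex_dvd_index_of_le hPG)
  have hSp : IsPGroup p ((P : Subgroup (MulAut T)).subgroupOf G₀) :=
    P.isPGroup'.comap_of_injective _ (Subgroup.subtype_injective _)
  let S : Sylow p G₀ := hSp.toSylow hS
  have hmemS : ∀ g : G₀, g ∈ (S : Subgroup G₀) ↔ (g : MulAut T) ∈ P := fun g => Iff.rfl
  have hScomm : IsMulCommutative S := ⟨⟨fun a b => by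
    apply Subtype.ext
    apply Subtype.ext
    exact hc _ ((hmemS _).1 a.2) _ ((hmemS _).1 b.2)⟩⟩
  have hOp : Cfsg.pCore p G₀ = ⊥ := by
    unfold Cfsg.pCore
    rw [sSup_eq_bot]
    rintro N ⟨hNn, hNp⟩
    have h1 : N.map G₀.subtype = ⊥ := by
      apply normalised_trivial (p := p) hT _ (hNp.map _)
      rintro t _ ⟨n, hn, rfl⟩
      have ht : MulAut.conj t ∈ G₀ := (le_sup_left : _ ≤ G₀) ⟨t, rfl⟩
      exact ⟨⟨_, ht⟩ * n * ⟨_, ht⟩⁻¹, hNn.conj_mem n hn ⟨_, ht⟩, rfl⟩
    exact (Subgroup.map_eq_bot_iff_of_injective _ G₀.subtype_injective).1 h1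
  obtain ⟨g, hg⟩ := Cfsg.Agent.S0060.result p S hScomm hOp
  obtain ⟨a, ⟨t, rfl⟩, b, hb, hab⟩ := (Subgroup.mem_sup_of_normal_left
    (s := (MulAut.conj : T →* MulAut T).range) (t := (P : Subgroup (MulAut T)))).1 g.2
  refine ⟨t⁻¹, fun y hy hxy => ?_⟩
  have hyG : y ∈ G₀ := hPG hy
  have h2 : (⟨y, hyG⟩ : G₀) ∈ (S : Subgroup G₀) ⊓ MulAut.conj g • (S : Subgroup G₀) := by
    refine ⟨(hmemS _).2 hy, ?_⟩
    refine ⟨g⁻¹ * ⟨y, hyG⟩ * g, ?_, by simp [MulAut.conj_apply, mul_assoc]⟩
    refine (hmemS _).2 ?_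
    have h3 : ((g⁻¹ * ⟨y, hyG⟩ * g : G₀) : MulAut T)
        = b⁻¹ * (MulAut.conj t⁻¹ * y * (MulAut.conj t⁻¹)⁻¹) * b := by
      simp only [Subgroup.coe_mul, Subgroup.coe_inv, ← hab, map_inv]
      group
    rw [h3]
    exact P.mul_mem (P.mul_mem (P.inv_mem hb) hxy) hb
  rw [hg, Subgroup.mem_bot] at h2
  exact congrArg Subtype.val h2

omit [IsSimpleGroup T] in
/-- **Counting lemma.** `𝒴` contains all subgroups of order `p` of `P`, and for `Y ∈ 𝒴` the stabiliser of `Y` in `T`
has at most `b Y` elements. If `|𝒴| · Σ b Y < |T|` then `P` meets some conjugate trivially. -/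
theorem good_of_count {P : Subgroup (MulAut T)} (hP : IsPGroup p P)
    (𝒴 : Finset (Subgroup (MulAut T))) (h𝒴 : ∀ Y ≤ P, Nat.card Y = p → Y ∈ 𝒴)
    (b : Subgroup (MulAut T) → ℕ)
    (hb : ∀ Y ∈ 𝒴, Nat.card {x : T // ∀ y, MulAut.conj x * y * (MulAut.conj x)⁻¹ ∈ Y ↔ y ∈ Y} ≤ b Y)
    (hsum : 𝒴.card * ∑ Y ∈ 𝒴, b Y < Nat.card T) :
    ∃ x : T, ∀ y ∈ P, MulAut.conj x * y * (MulAut.conj x)⁻¹ ∈ P → y = 1 := by
  classical
  by_contra hcon
  have hfin : Fintype T := Fintype.ofFinite T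
  -- the set of x carrying Y to Y'
  let A : Subgroup (MulAut T) → Subgroup (MulAut T) → Finset T := fun Y Y' =>
    Finset.univ.filter fun x => ∀ y, MulAut.conj x * y * (MulAut.conj x)⁻¹ ∈ Y' ↔ y ∈ Y
  have hA : ∀ Y ∈ 𝒴, ∀ Y', (A Y Y').card ≤ b Y := by
    intro Y hY Y'
    rcases (A Y Y').eq_empty_or_nonempty with h0 | ⟨x₀, hx₀⟩
    · rw [h0]; simp
    refine le_trans ?_ (hb Y hY)
    rw [Nat.card_eq_fintype_card, Fintype.card_subtype]
    refine Finset.card_le_card_of_injOn (fun x => x₀⁻¹ * x) (fun x hx => ?_)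
      (fun a _ b _ hab => by simpa using hab)
    simp only [A, Finset.coe_filter, Finset.mem_univ, true_and, Set.mem_ofPred_eq,
      Finset.mem_filter] at hx hx₀ ⊢
    intro y
    rw [← hx y, ← hx₀]
    simp [mul_assoc]
  have hcover : (Finset.univ : Finset T) ⊆ 𝒴.biUnion fun Y => 𝒴.biUnion fun Y' => A Y Y' := by
    intro x _
    obtain ⟨y, hy, hxy, hyp⟩ := exists_orderOf_of_not_good hP hcon x
    simp only [Finset.mem_biUnion]
    have hy' : orderOf (MulAut.conj x * y * (MulAut.conj x)⁻¹) = p := by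
      rw [← hyp]
      exact (MulAut.conj (MulAut.conj x)).orderOf_eq y
    refine ⟨Subgroup.zpowers y, h𝒴 _ (by simpa using hy) (by rw [Nat.card_zpowers, hyp]),
      Subgroup.zpowers (MulAut.conj x * y * (MulAut.conj x)⁻¹),
      h𝒴 _ (by simpa using hxy) (by rw [Nat.card_zpowers, hy']), ?_⟩
    simp only [A, Finset.mem_filter, Finset.mem_univ, true_and]
    intro z
    simp only [Subgroup.mem_zpowers_iff]
    constructor
    · rintro ⟨k, hk⟩
      refine ⟨k, ?_⟩
      rw [conj_zpow] at hk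
      simpa using hk
    · rintro ⟨k, rfl⟩
      exact ⟨k, by rw [conj_zpow]⟩
  have h1 := Finset.card_le_card hcover
  have h2 : (𝒴.biUnion fun Y => 𝒴.biUnion fun Y' => A Y Y').card ≤ ∑ Y ∈ 𝒴, 𝒴.card * b Y := by
    refine Finset.card_biUnion_le.trans (Finset.sum_le_sum fun Y hY => ?_)
    refine Finset.card_biUnion_le.trans ?_
    rw [← smul_eq_mul, ← Finset.sum_const]
    exact Finset.sum_le_sum fun Y' _ => hA Y hY Y'
  rw [← Finset.mul_sum] at h2
  rw [Finset.card_univ, ← Nat.card_eq_fintype_card] at h1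
  omega

/-- The stabiliser in `T` of a non-trivial `p`-subgroup of `Aut T` is a proper subgroup. -/
theorem card_stab_le (hT : ¬ IsMulCommutative T) {m : ℕ}
    (hm : ∀ H : Subgroup T, H ≠ ⊤ → m ≤ H.index) (Y : Subgroup (MulAut T)) (hY : Nat.card Y = p) :
    m * Nat.card {x : T // ∀ y, MulAut.conj x * y * (MulAut.conj x)⁻¹ ∈ Y ↔ y ∈ Y} ≤ Nat.card T := by
  let N : Subgroup T := (Subgroup.normalizer (Y : Set (MulAut T))).comap MulAut.conj
  have hmem : ∀ x, x ∈ N ↔ ∀ y, MulAut.conj x * y * (MulAut.conj x)⁻¹ ∈ Y ↔ y ∈ Y := by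
    intro x
    rw [Subgroup.mem_comap, Subgroup.mem_normalizer_iff]
    exact ⟨fun h y => (h y).symm, fun h y => (h y).symm⟩
  have hNtop : N ≠ ⊤ := by
    intro h
    have hYp : IsPGroup p Y := IsPGroup.of_card (n := 1) (by rw [hY, pow_one])
    have h1 : Y = ⊥ := normalised_trivial (p := p) hT Y hYp fun t y hy => by
      have : t ∈ N := h ▸ Subgroup.mem_top t
      exact ((hmem t).1 this y).2 hy
    rw [h1, Subgroup.card_bot] at hY
    exact (Fact.out : p.Prime).one_lt.ne hY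
  have h2 : Nat.card {x : T // ∀ y, MulAut.conj x * y * (MulAut.conj x)⁻¹ ∈ Y ↔ y ∈ Y}
      = Nat.card N := Nat.card_congr (Equiv.subtypeEquivRight fun x => (hmem x).symm)
  rw [h2, ← N.index_mul_card]
  exact Nat.mul_le_mul_right _ (hm N hNtop)

/-- **Crude counting.** If every proper subgroup of `T` has index at least `m` and `P` has at most `s` subgroups of
order `p` with `s ^ 2 < m`, then `P` meets some conjugate trivially. -/
theorem good_of_minIndex (hT : ¬ IsMulCommutative T) {m s : ℕ}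
    (hm : ∀ H : Subgroup T, H ≠ ⊤ → m ≤ H.index) {P : Subgroup (MulAut T)} (hP : IsPGroup p P)
    (𝒴 : Finset (Subgroup (MulAut T))) (h𝒴 : ∀ Y ≤ P, Nat.card Y = p → Y ∈ 𝒴)
    (hs : 𝒴.card ≤ s) (hsm : s ^ 2 < m) :
    ∃ x : T, ∀ y ∈ P, MulAut.conj x * y * (MulAut.conj x)⁻¹ ∈ P → y = 1 := by
  classical
  let 𝒴' : Finset (Subgroup (MulAut T)) := 𝒴.filter fun Y : Subgroup (MulAut T) => Nat.card Y = p
  have hle : 𝒴'.card ≤ s := (Finset.card_filter_le _ _).trans hs
  refine good_of_count hP 𝒴' (fun Y hY hc => Finset.mem_filter.2 ⟨h𝒴 Y hY hc, hc⟩)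
    (fun _ => Nat.card T / m) (fun Y hY => ?_) ?_
  · rw [Nat.le_div_iff_mul_le (by omega : 0 < m), mul_comm]
    exact card_stab_le hT hm Y (Finset.mem_filter.1 hY).2
  · rw [Finset.sum_const, smul_eq_mul]
    have h1 : Nat.card T / m * m ≤ Nat.card T := Nat.div_mul_le_self _ _
    have h2 : 𝒴'.card * (𝒴'.card * (Nat.card T / m)) ≤ s ^ 2 * (Nat.card T / m) := by
      rw [← mul_assoc, sq]
      exact Nat.mul_le_mul_right _ (Nat.mul_le_mul hle hle)
    rcases Nat.eq_zero_or_pos (Nat.card T / m) with h0 | h0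
    · rw [h0]; simpa using Nat.card_pos
    · calc _ ≤ s ^ 2 * (Nat.card T / m) := h2
        _ < m * (Nat.card T / m) := Nat.mul_lt_mul_of_pos_right hsm h0
        _ ≤ Nat.card T := by rw [mul_comm]; exact h1

omit [IsSimpleGroup T] in
/-- The number of subgroups of order `p` of a group `P` is at most `(|P| - 1) / (p - 1)`. -/
theorem card_order_p_mul_le {P : Subgroup (MulAut T)} (𝒴 : Finset (Subgroup (MulAut T)))
    (h𝒴 : ∀ Y ∈ 𝒴, Y ≤ P ∧ Nat.card Y = p) : 𝒴.card * (p - 1) ≤ Nat.card P - 1 := by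
  classical
  have hfin : Fintype (MulAut T) := Fintype.ofFinite _
  let E : Subgroup (MulAut T) → Finset (MulAut T) := fun Y => Finset.univ.filter fun y => y ∈ Y ∧ y ≠ 1
  have hE : ∀ Y ∈ 𝒴, (E Y).card = p - 1 := by
    intro Y hY
    have h1 : insert 1 (E Y) = Finset.univ.filter fun y => y ∈ Y := by
      ext y
      simp only [E, Finset.mem_insert, Finset.mem_filter, Finset.mem_univ, true_and]
      constructor
      · rintro (rfl | h)
        · exact Y.one_mem
        · exact h.1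
      · intro h
        by_cases h' : y = 1
        · exact Or.inl h'
        · exact Or.inr ⟨h, h'⟩
    have h2 : (insert 1 (E Y)).card = p := by
      rw [h1, ← (h𝒴 Y hY).2, Nat.card_eq_fintype_card, Fintype.card_subtype]
    rw [Finset.card_insert_of_notMem (by simp [E])] at h2
    omega
  have hdisj : ∀ Y ∈ 𝒴, ∀ Y' ∈ 𝒴, Y ≠ Y' → Disjoint (E Y) (E Y') := by
    intro Y hY Y' hY' hne
    rw [Finset.disjoint_left]
    intro y hy hy'
    simp only [E, Finset.mem_filter, Finset.mem_univ, true_and] at hy hy'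
    apply hne
    have key : ∀ Z ∈ 𝒴, y ∈ Z → Subgroup.zpowers y = Z := by
      intro Z hZ hyZ
      apply Subgroup.eq_of_le_of_card_ge (by simpa using hyZ)
      rw [(h𝒴 Z hZ).2, Nat.card_zpowers]
      have h3 : orderOf y ∣ p := by
        rw [← (h𝒴 Z hZ).2]
        exact Subgroup.orderOf_dvd_natCard Z hyZ
      rcases ((Fact.out : p.Prime).eq_one_or_self_of_dvd _ h3) with h4 | h4
      · exact absurd (orderOf_eq_one_iff.1 h4) hy.2
      · exact h4.ge
    rw [← key Y hY hy.1, ← key Y' hY' hy'.1]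
  have hsub : (𝒴.biUnion E) ⊆ (Finset.univ.filter fun y : MulAut T => y ∈ P).erase 1 := by
    intro y hy
    simp only [Finset.mem_biUnion, E, Finset.mem_filter, Finset.mem_univ, true_and,
      Finset.mem_erase] at hy ⊢
    obtain ⟨Y, hY, h1, h2⟩ := hy
    exact ⟨h2, (h𝒴 Y hY).1 h1⟩
  have h1 := Finset.card_le_card hsub
  rw [Finset.card_biUnion hdisj, Finset.sum_congr rfl hE, Finset.sum_const, smul_eq_mul,
    Finset.card_erase_of_mem (by simp), ← Fintype.card_subtype, ← Nat.card_eq_fintype_card] at h1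
  exact h1

/-- **Crude counting, orders only.** -/
theorem meet_of_card_lt (hT : ¬ IsMulCommutative T) {m : ℕ}
    (hm : ∀ H : Subgroup T, H ≠ ⊤ → m ≤ H.index) (P : Sylow p (MulAut T))
    (h : (Nat.card P - 1) ^ 2 < (p - 1) ^ 2 * m) : Meet p T := by
  classical
  apply meet_of_sylow P
  have hfin : Fintype (Subgroup (MulAut T)) := Fintype.ofFinite _
  let 𝒴 : Finset (Subgroup (MulAut T)) :=
    Finset.univ.filter fun Y => Y ≤ (P : Subgroup (MulAut T)) ∧ Nat.card Y = p
  have h1 : 𝒴.card * (p - 1) ≤ Nat.card P - 1 :=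
    card_order_p_mul_le (P := (P : Subgroup (MulAut T))) 𝒴 (fun Y hY => by simpa [𝒴] using hY)
  refine good_of_minIndex (m := m) (s := 𝒴.card) hT hm P.isPGroup' 𝒴
    (fun Y hY hc => Finset.mem_filter.2 ⟨Finset.mem_univ _, hY, hc⟩) le_rfl ?_
  have hp : 0 < p - 1 := by have := (Fact.out : p.Prime).two_le; omega
  by_contra hcon
  push Not at hcon
  have h2 : (p - 1) ^ 2 * m ≤ (Nat.card P - 1) ^ 2 := by
    calc (p - 1) ^ 2 * m ≤ (p - 1) ^ 2 * 𝒴.card ^ 2 := Nat.mul_le_mul_left _ hcon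
      _ = (𝒴.card * (p - 1)) ^ 2 := by ring
      _ ≤ _ := Nat.pow_le_pow_left h1 2
  omega

end simple

section fk

variable {p : ℕ} [Fact p.Prime] {T : Type*} [Group T] [Finite T]

/-- A `p`-element normalising a Sylow `p`-subgroup lies in it. -/
theorem mem_of_normalises (R : Subgroup T) (hR : IsPGroup p R) (hi : ¬ p ∣ R.index) (ρ : T)
    (hρ : ∃ k : ℕ, ρ ^ p ^ k = 1) (hn : ∀ r ∈ R, ρ * r * ρ⁻¹ ∈ R) : ρ ∈ R := by
  let S : Sylow p T := hR.toSylow hi
  have hz : IsPGroup p (Subgroup.zpowers ρ) := by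
    obtain ⟨k, hk⟩ := hρ
    apply IsPGroup.of_card (n := (orderOf ρ).factorization p)
    obtain ⟨j, -, hj⟩ := (Nat.dvd_prime_pow Fact.out).1 (orderOf_dvd_of_pow_eq_one hk)
    rw [Nat.card_zpowers, hj, Nat.factorization_pow, (Fact.out : p.Prime).factorization]
    simp
  have hle : Subgroup.zpowers ρ ≤ Subgroup.normalizer (R : Set T) := by
    rw [Subgroup.zpowers_le, Subgroup.mem_normalizer_iff]
    intro h
    refine ⟨hn h, fun hh => ?_⟩
    -- conjugation by `ρ` is an injective self-map of the finite set `R`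
    have hinj : Function.Injective (fun r : R => (⟨ρ * r * ρ⁻¹, hn r r.2⟩ : R)) := by
      intro a b hab
      have := congrArg Subtype.val hab
      simpa using this
    obtain ⟨r, hr⟩ := (Finite.injective_iff_surjective.1 hinj) ⟨_, hh⟩
    have := congrArg Subtype.val hr
    simp only [mul_left_inj, mul_right_inj] at this
    rw [← this]; exact r.2
  have hsup : IsPGroup p (Subgroup.zpowers ρ ⊔ R : Subgroup T) := hz.to_sup_of_normal_right' hR hle
  have h1 : (Subgroup.zpowers ρ ⊔ R : Subgroup T) = S := S.3 hsup le_sup_right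
  have h2 : ρ ∈ (Subgroup.zpowers ρ ⊔ R : Subgroup T) :=
    Subgroup.mem_sup_left (Subgroup.mem_zpowers ρ)
  rw [h1] at h2
  exact h2

omit [Finite T] in
theorem mem_zpowers_of_cyclic {C : Type*} [Group C] [Finite C] [IsCyclic C] (α β : C)
    (hα : α ^ p = 1) (hα1 : α ≠ 1) (hβ : β ^ p = 1) : ∃ k : ℤ, α ^ k = β := by
  classical
  have := Fintype.ofFinite C
  have ho : orderOf α = p := orderOf_eq_prime hα hα1
  have h1 : (Finset.univ.filter fun c : C => c ^ p = 1).card ≤ p :=
    IsCyclic.card_pow_eq_one_le (Fact.out : p.Prime).pos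
  have h2 : (Finset.univ.filter fun c : C => c ∈ Subgroup.zpowers α) =
      Finset.univ.filter fun c : C => c ^ p = 1 := by
    apply Finset.eq_of_subset_of_card_le
    · intro c hc
      simp only [Finset.mem_filter, Finset.mem_univ, true_and] at hc ⊢
      obtain ⟨k, rfl⟩ := hc
      rw [← zpow_natCast, ← zpow_mul, mul_comm, zpow_mul, zpow_natCast, hα, one_zpow]
    · have : (Finset.univ.filter fun c : C => c ∈ Subgroup.zpowers α).card = p := by
        rw [← Fintype.card_subtype, ← Nat.card_eq_fintype_card, ← ho]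
        exact Nat.card_zpowers α
      rw [this]; exact h1
  have h3 : β ∈ (Finset.univ.filter fun c : C => c ^ p = 1) := by simp [hβ]
  rw [← h2] at h3
  simp only [Finset.mem_filter, Finset.mem_univ, true_and] at h3
  exact Subgroup.mem_zpowers_iff.1 h3

/-- **Field-kill lemma.** `P` a `p`-subgroup of `Aut T` such that `R = P ∩ T` is a Sylow `p`-subgroup of `T` which meets
some `T`-conjugate of itself trivially, with `P / R` cyclic. If every `y ∈ P` of order `p` outside `Inn T` moves some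
`p'`-element of `C_T(R)`, then `P` meets some `T`-conjugate of itself trivially. -/
theorem good_of_fk (hinj : Function.Injective (MulAut.conj : T →* MulAut T))
    (P : Subgroup (MulAut T)) (hP : IsPGroup p P)
    (R : Subgroup T) (hR : ∀ t, t ∈ R ↔ MulAut.conj t ∈ P) (hi : ¬ p ∣ R.index)
    {C : Type*} [Group C] [Finite C] [IsCyclic C] (χ : P →* C)
    (hχ : ∀ y : P, χ y = 1 → ∃ t : T, MulAut.conj t = (y : MulAut T))
    (hx : ∃ x : T, ∀ t ∈ R, x * t * x⁻¹ ∈ R → t = 1)
    (hfk : ∀ y ∈ P, orderOf y = p → (∀ t : T, MulAut.conj t ≠ y) →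
      ∃ a : T, (∀ r ∈ R, a * r = r * a) ∧ ¬ p ∣ orderOf a ∧ y a ≠ a) :
    ∃ x : T, ∀ y ∈ P, MulAut.conj x * y * (MulAut.conj x)⁻¹ ∈ P → y = 1 := by
  by_contra hcon
  obtain ⟨x, hx⟩ := hx
  have hRp : IsPGroup p R := by
    have h1 : IsPGroup p (P.comap (MulAut.conj : T →* MulAut T)) := hP.comap_of_injective _ hinj
    have h2 : P.comap (MulAut.conj : T →* MulAut T) = R := by
      ext t; rw [Subgroup.mem_comap, hR]
    rwa [h2] at h1
  -- elements of `P` normalise `R`
  have hPR : ∀ y ∈ P, ∀ r ∈ R, y r ∈ R := by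
    intro y hy r hr
    rw [hR, ← conj_apply_aut]
    exact P.mul_mem (P.mul_mem hy ((hR r).1 hr)) (P.inv_mem hy)
  let Cn : Subgroup T := Subgroup.centralizer (R : Set T)
  have hCn : ∀ c : T, c ∈ Cn ↔ ∀ r ∈ R, c * r = r * c := by
    intro c
    rw [Subgroup.mem_centralizer_iff]
    exact ⟨fun h r hr => (h r hr).symm, fun h r hr => (h r hr).symm⟩
  have hPC : ∀ y ∈ P, ∀ c ∈ Cn, y c ∈ Cn := by
    intro y hy c hc
    rw [hCn] at hc ⊢
    intro r hr
    have h1 : y⁻¹ r ∈ R := hPR _ (P.inv_mem hy) r hr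
    have h2 := congrArg y (hc _ h1)
    rw [map_mul, map_mul] at h2
    simpa using h2
  -- the basic step
  have hRcap : ∀ t ∈ R, x⁻¹ * t * x ∈ R → t = 1 := by
    intro t ht ht'
    have := hx _ ht' (by simpa [mul_assoc] using ht)
    have h2 : t = x * (x⁻¹ * t * x) * x⁻¹ := by group
    rw [h2, this]; group
  have key : ∀ c ∈ Cn, ∃ u ∈ P, orderOf u = p ∧ (∀ t : T, MulAut.conj t ≠ u) ∧
      (MulAut.conj x)⁻¹ * (MulAut.conj c * u * (MulAut.conj c)⁻¹) * MulAut.conj x ∈ P := by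
    intro c hc
    obtain ⟨u, hu, hxu, hup⟩ := exists_orderOf_of_not_good hP hcon (x⁻¹ * c)
    have h1 : (MulAut.conj x)⁻¹ * (MulAut.conj c * u * (MulAut.conj c)⁻¹) * MulAut.conj x ∈ P := by
      simpa [mul_assoc] using hxu
    refine ⟨u, hu, hup, ?_, h1⟩
    rintro t rfl
    have ht : t ∈ R := (hR t).2 hu
    have h2 : t = 1 := by
      apply hRcap t ht
      rw [hR]
      have h3 : c * t * c⁻¹ = t := by rw [(hCn c).1 hc t ht]; group
      have h4 : (MulAut.conj x)⁻¹ * (MulAut.conj c * MulAut.conj t * (MulAut.conj c)⁻¹) * MulAut.conj x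
          = MulAut.conj (x⁻¹ * (c * t * c⁻¹) * x) := by simp [mul_assoc]
      rw [h4, h3] at h1
      exact h1
    rw [h2] at hup
    simp only [map_one, orderOf_one] at hup
    exact (Fact.out : p.Prime).one_lt.ne hup
  obtain ⟨u, hu, hup, huI, hxu⟩ := key 1 Cn.one_mem
  rw [map_one, one_mul, inv_one, mul_one] at hxu
  -- all conjugates of `u` under `Cn` lie in `P`
  have step : ∀ c ∈ Cn, (MulAut.conj c)⁻¹ * u * MulAut.conj c ∈ P := by
    intro c hc
    obtain ⟨w, hw, hwp, hwI, hxw⟩ := key c hc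
    -- a power of `w` is congruent to `u`
    have hcyc : ∃ k : ℤ, χ ⟨_, hxw⟩ ^ k = χ ⟨_, hxu⟩ := by
      apply mem_zpowers_of_cyclic (p := p)
      · rw [← map_pow]
        convert map_one χ
        apply Subtype.ext
        have : ((MulAut.conj x)⁻¹ * (MulAut.conj c * w * (MulAut.conj c)⁻¹) * MulAut.conj x) ^ p
            = (MulAut.conj x)⁻¹ * (MulAut.conj c * w ^ p * (MulAut.conj c)⁻¹) * MulAut.conj x := by
          have h := conj_pow (i := p) (a := (MulAut.conj x)⁻¹) (b := MulAut.conj c * w * (MulAut.conj c)⁻¹)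
          rw [inv_inv, conj_pow] at h
          exact h
        rw [SubmonoidClass.coe_pow, this, ← hwp, pow_orderOf_eq_one]
        simp
      · intro h
        obtain ⟨t, ht⟩ := hχ _ h
        simp only at ht
        apply hwI (c⁻¹ * (x * t * x⁻¹) * c)
        simp only [map_mul, map_inv]
        rw [ht]; group
      · rw [← map_pow]
        convert map_one χ
        apply Subtype.ext
        have h := conj_pow (i := p) (a := (MulAut.conj x)⁻¹) (b := u)
        rw [inv_inv] at h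
        rw [SubmonoidClass.coe_pow, h, ← hup, pow_orderOf_eq_one]
        simp
    obtain ⟨k, hk⟩ := hcyc
    have hs : w ^ k ∈ P := P.zpow_mem hw k
    -- `x⁻¹ (u w_c^{-k}) x` is inner
    have h1 : ∃ r ∈ R, u * (MulAut.conj c * w ^ k * (MulAut.conj c)⁻¹)⁻¹
        = MulAut.conj (x * r * x⁻¹) := by
      have h2 : χ (⟨_, hxu⟩ * (⟨_, hxw⟩ ^ k)⁻¹) = 1 := by
        rw [map_mul, map_inv, map_zpow, hk, mul_inv_cancel]
      obtain ⟨r, hr⟩ := hχ _ h2
      refine ⟨r, (hR r).2 (hr ▸ Subtype.property _), ?_⟩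
      rw [map_mul, map_mul, map_inv, hr]
      simp only [Subgroup.coe_mul, Subgroup.coe_inv, Subgroup.coe_zpow]
      have h := conj_zpow (i := k) (a := (MulAut.conj x)⁻¹) (b := MulAut.conj c * w * (MulAut.conj c)⁻¹)
      rw [inv_inv, conj_zpow] at h
      rw [h]; group
    obtain ⟨r, hr, hrx⟩ := h1
    -- `u s⁻¹` is inner
    have h2 : u * (w ^ k)⁻¹ = MulAut.conj (x * r * x⁻¹ * (c * (w ^ k) c⁻¹)) := by
      have h3 : MulAut.conj (x * r * x⁻¹ * (c * (w ^ k) c⁻¹))
          = MulAut.conj (x * r * x⁻¹) * (MulAut.conj c * (w ^ k * MulAut.conj c⁻¹ * (w ^ k)⁻¹)) := by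
        rw [conj_apply_aut, map_mul (MulAut.conj : T →* MulAut T) (x * r * x⁻¹),
          map_mul (MulAut.conj : T →* MulAut T) c]
      rw [h3, ← hrx, map_inv]; group
    set r₁ : T := x * r * x⁻¹ * (c * (w ^ k) c⁻¹) with hr₁
    have hr₁R : r₁ ∈ R := (hR _).2 (h2 ▸ P.mul_mem hu (P.inv_mem hs))
    set m : T := (w ^ k) c * c⁻¹ with hm
    have hmC : m ∈ Cn := Cn.mul_mem (hPC _ hs _ hc) (Cn.inv_mem hc)
    have hρ : x * r * x⁻¹ = r₁ * m := by
      rw [hr₁, hm, map_inv]; group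
    have hρR : x * r * x⁻¹ ∈ R := by
      apply mem_of_normalises R hRp hi
      · obtain ⟨j, hj⟩ := hRp ⟨r, hr⟩
        refine ⟨j, ?_⟩
        have : r ^ p ^ j = 1 := congrArg Subtype.val hj
        rw [conj_pow, this]; group
      · intro s hs'
        rw [hρ]
        have h3 : r₁ * m * s * (r₁ * m)⁻¹ = r₁ * s * r₁⁻¹ := by
          have h4 := (hCn m).1 hmC s hs'
          calc r₁ * m * s * (r₁ * m)⁻¹ = r₁ * (m * s) * (r₁ * m)⁻¹ := by group
            _ = _ := by rw [h4]; group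
        rw [h3]
        exact R.mul_mem (R.mul_mem hr₁R hs') (R.inv_mem hr₁R)
    have hr1 : r = 1 := hx r hr hρR
    have h5 : u = MulAut.conj c * w ^ k * (MulAut.conj c)⁻¹ := by
      rw [hr1] at hrx
      simp only [mul_one, mul_inv_cancel, map_one] at hrx
      exact mul_inv_eq_one.1 hrx
    rw [h5]
    have h6 : (MulAut.conj c)⁻¹ * (MulAut.conj c * w ^ k * (MulAut.conj c)⁻¹) * MulAut.conj c = w ^ k := by
      group
    rw [h6]; exact hs
  obtain ⟨a, haR, hap, hua⟩ := hfk u hu hup huI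
  have haC : a ∈ Cn := (hCn a).2 haR
  apply hua
  have h1 : MulAut.conj (u⁻¹ a⁻¹ * a) ∈ P := by
    have h2 := P.mul_mem (P.inv_mem hu) (step a haC)
    have h3 : u⁻¹ * ((MulAut.conj a)⁻¹ * u * MulAut.conj a) = MulAut.conj (u⁻¹ a⁻¹ * a) := by
      rw [map_mul, ← conj_apply_aut, map_inv]; group
    rwa [h3] at h2
  have h2 : u⁻¹ a⁻¹ * a ∈ R := (hR _).2 h1
  set z : T := u⁻¹ a⁻¹ * a with hz
  have h4 : u⁻¹ a⁻¹ = z * a⁻¹ := by rw [hz]; group
  have hcomm : Commute z a⁻¹ := ((show Commute a z from haR z h2).inv_left).symm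
  have h5 : z ^ orderOf a = 1 := by
    have h6 : (u⁻¹ a⁻¹) ^ orderOf a = 1 := by
      rw [← map_pow, inv_pow, pow_orderOf_eq_one, inv_one, map_one]
    rw [h4, hcomm.mul_pow, inv_pow, pow_orderOf_eq_one, inv_one, mul_one] at h6
    exact h6
  have h7 : z = 1 := by
    obtain ⟨j, hj⟩ := hRp ⟨z, h2⟩
    have hj' : z ^ p ^ j = 1 := congrArg Subtype.val hj
    have h8 : orderOf z ∣ Nat.gcd (orderOf a) (p ^ j) :=
      Nat.dvd_gcd (orderOf_dvd_of_pow_eq_one h5) (orderOf_dvd_of_pow_eq_one hj')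
    have h9 : Nat.gcd (orderOf a) (p ^ j) = 1 :=
      Nat.Coprime.pow_right _ (((Fact.out : p.Prime).coprime_iff_not_dvd.2 hap).symm)
    rw [h9, Nat.dvd_one, orderOf_eq_one_iff] at h8
    exact h8
  rw [h7, one_mul, map_inv, inv_inj] at h4
  have h10 := congrArg u h4
  simpa using h10.symm

end fk

end Cfsg.Agent.H903.SylMeet
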