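/-
helper903: regular vectors for p-groups of isometries (S5762), second part: recursion and the two-label lemmas.
-/
import Mathlib
import Cfsg.Agent.H903.SylReg
import Cfsg.Agent.H903.SylRegStmt

set_option autoImplicit false

namespace Cfsg.Agent.H903.SylReg

open Finset

variable {F : Type*} [Field F] {E : Type*} [AddCommGroup E] [Module F E] [Finite E]

section tri

variable {p : ℕ} [Fact p.Prime] {G : Subgroup (E ≃ₗ[F] E)} {PS : Set (E →ₗ[F] E)}
  {β : E → E → F} {N : E → F} {H : Subgroup (E ≃ₗ[F] E)} {W : Submodule F E}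

/-- **Recursion principle.** -/
theorem recursion (C : Ctx p G PS β N) (Qc : Subgroup (E ≃ₗ[F] E) → Submodule F E → Prop)
    (hbase : ∀ (H : Subgroup (E ≃ₗ[F] E)) (W : Submodule F E), Base G PS β H W → Qc H W)
    (hred : ∀ (H : Subgroup (E ≃ₗ[F] E)) (W : Submodule F E) (A : E →ₗ[F] E), Red G PS β H W A →
      Qc H (spl A W true) → Qc H (spl A W false) → Qc H W)
    (himp : ∀ (H : Subgroup (E ≃ₗ[F] E)) (W : Submodule F E) (z a r : E ≃ₗ[F] E) (κ : H → ZMod p)
      (I : Imp p G PS β H W z a r κ), Qc I.H₀ (fx a W) → Qc H W) :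
    ∀ (H : Subgroup (E ≃ₗ[F] E)) (W : Submodule F E), Adm G PS β H W → Qc H W := by
  have key : ∀ n : ℕ, ∀ (H : Subgroup (E ≃ₗ[F] E)) (W : Submodule F E),
      Module.finrank F W = n → Adm G PS β H W → Qc H W := by
    intro n
    induction n using Nat.strong_induction_on with
    | _ n ih =>
      intro H W hn A0
      rcases trichotomy C A0 with hB | ⟨A, hR⟩ | ⟨z, a, r, κ, hI⟩
      · exact hbase H W hB
      · have hlt : ∀ b, spl A W b < W := by
          intro b
          refine lt_of_le_of_ne (hR.dec.le b) fun he => ?_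
          apply (hR.adm' (!b)).ne
          rw [Submodule.eq_bot_iff]
          intro w hw
          have hw' : w ∈ spl A W b := by rw [he]; exact hR.dec.le _ hw
          cases b
          · rw [← (mem_spl_true.1 hw).2, (mem_spl_false.1 hw').2]
          · rw [← (mem_spl_true.1 hw').2, (mem_spl_false.1 hw).2]
        refine hred H W A hR ?_ ?_
        · exact ih _ (hn ▸ Submodule.finrank_lt_finrank_of_lt (hlt true)) H _ rfl (hR.adm' true)
        · exact ih _ (hn ▸ Submodule.finrank_lt_finrank_of_lt (hlt false)) H _ rfl (hR.adm' false)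
      · have hlt : fx a W < W := lt_of_le_of_ne inf_le_left hI.block_ne
        exact himp H W z a r κ hI
          (ih _ (hn ▸ Submodule.finrank_lt_finrank_of_lt hlt) _ _ rfl (hI.adm₀ C))
  exact fun H W hA => key _ H W rfl hA

omit [Fact p.Prime] in
/-- In the base case a vector with all projections non-zero is good. -/
theorem base_good (C : Ctx p G PS β N) (B : Base G PS β H W) {x : E} (hx : x ∈ W) (hx0 : x ≠ 0)
    (hJ : ∀ J ∈ PS, J x ≠ 0) : Good PS H W x where
  mem := hx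
  reg h hh hfix := B.fpf h hh x hx hx0 hfix
  ss J hJP z hz hmem := by
    left
    obtain ⟨w, hw, hwx⟩ := mem_cm.1 hmem
    have hzJ : ∀ u, z (J u) = J (z u) := fun u => (C.comm J hJP z (B.le hz) u).symm
    have hfix : ∀ u ∈ W, z u = u → u = 0 := by
      intro u hu hzu
      by_contra hu0
      have h1 := B.fpf z hz u hu hu0 hzu _ (B.ps J hJP w hw)
      rw [h1, sub_self] at hwx
      exact hJ J hJP hwx.symm
    -- `z - 1` is injective on the finite space `J W`
    let M : Submodule F E := W.map J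
    have hMW : ∀ u ∈ M, u ∈ W := by
      rintro _ ⟨u, hu, rfl⟩
      exact B.ps J hJP u hu
    have hMz : ∀ u ∈ M, z u - u ∈ M := by
      rintro _ ⟨u, hu, rfl⟩
      rw [hzJ]
      exact M.sub_mem ⟨z u, B.inv z hz u hu, rfl⟩ ⟨u, hu, rfl⟩
    have hinj : Function.Injective (fun u : M => (⟨z u - u, hMz u u.2⟩ : M)) := by
      intro u v huv
      have h1 := congrArg Subtype.val huv
      simp only at h1
      apply Subtype.ext
      rw [← sub_eq_zero]
      apply hfix _ (hMW _ (M.sub_mem u.2 v.2))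
      rw [map_sub]
      rw [sub_eq_sub_iff_add_eq_add] at h1 ⊢
      rw [h1, add_comm]
    intro y hy
    obtain ⟨⟨u, hu⟩, hu'⟩ := (Finite.injective_iff_surjective.1 hinj) ⟨y, hy⟩
    have h1 := congrArg Subtype.val hu'
    obtain ⟨w', hw', rfl⟩ := hu
    exact mem_cm.2 ⟨w', hw', h1⟩

/-- Two-label version: isotropic good vectors. -/
theorem two_labels (C : Ctx p G PS β N)
    (hbase : ∀ (H : Subgroup (E ≃ₗ[F] E)) (W : Submodule F E), Base G PS β H W → ∃ x y, x ∈ W ∧ y ∈ W ∧ x ≠ 0 ∧ y ≠ 0 ∧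
      (∀ J ∈ PS, J x ≠ 0 ∧ J y ≠ 0) ∧ N x = 0 ∧ N y = 0 ∧ ∀ h ∈ H, h x ≠ y) :
    ∀ (H : Subgroup (E ≃ₗ[F] E)) (W : Submodule F E), Adm G PS β H W → ∃ x y, Good PS H W x ∧ Good PS H W y ∧ N x = 0 ∧ N y = 0 ∧
      ∀ h ∈ H, h x ≠ y := by
  classical
  refine recursion C _ (fun H W B => ?_) (fun H W A R h1 h2 => ?_)
    (fun H W z a r κ I h1 => ?_)
  · obtain ⟨x, y, hx, hy, hx0, hy0, hJ, hN, hN', hc⟩ := hbase H W B
    exact ⟨x, y, base_good C B hx hx0 fun J hJ' => (hJ J hJ').1,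
      base_good C B hy hy0 fun J hJ' => (hJ J hJ').2, hN, hN', hc⟩
  · obtain ⟨x, y, hx, hy, hN, hN', hc⟩ := h1
    obtain ⟨x', -, hx', -, hN'', -, -⟩ := h2
    refine ⟨x + x', y + x', R.step hx hx', R.step hy hx', ?_, ?_, fun h hh he => ?_⟩
    · rw [R.N_add C hx.mem hx'.mem, hN, hN'', add_zero]
    · rw [R.N_add C hy.mem hx'.mem, hN', hN'', add_zero]
    · exact hc h hh (R.conj_iff hx.mem hy.mem hx'.mem hx'.mem hh he).1
  · obtain ⟨x, y, hx, hy, hN, hN', hc⟩ := h1
    let X : Bool → E := fun b => if b then x else y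
    have hX : ∀ l, Good PS I.H₀ (fx a W) (X l) := by
      intro l; cases l
      · exact hy
      · exact hx
    have hXm : ∀ l, X l ∈ fx a W := fun l => (hX l).mem
    have hn : ∀ l l', l ≠ l' → ∀ h ∈ I.H₀, h (X l) ≠ X l' := by
      intro l l' hl h hh
      cases l <;> cases l'
      · exact absurd rfl hl
      · intro he
        refine hc h⁻¹ (I.H₀.inv_mem hh) ?_
        have he' : h y = x := he
        rw [← he']
        change (h⁻¹ * h) y = y
        rw [inv_mul_cancel]; rfl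
      · exact hc h hh
      · exact absurd rfl hl
    have h10 : (1 : ZMod p) ≠ 0 := one_ne_zero
    have h20 : (2 : ZMod p) ≠ 0 := by
      have : ((2 : ℕ) : ZMod p) ≠ 0 := by
        rw [Ne, ZMod.natCast_eq_zero_iff]
        intro hd
        have := Nat.le_of_dvd (by norm_num) hd
        have := C.five
        omega
      simpa using this
    have h21 : (2 : ZMod p) ≠ 1 := by
      intro h
      apply h10
      have : (2 : ZMod p) = 1 + 1 := by norm_num
      rw [this] at h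
      exact left_eq_add.1 h.symm
    let c₁ : ZMod p → Bool := fun i => decide (i = 0)
    let c₂ : ZMod p → Bool := fun i => decide (i = 0 ∨ i = 1)
    have hc₁ : ∃ i j, c₁ i ≠ c₁ j := ⟨0, 1, by simp [c₁, h10]⟩
    have hc₂ : ∃ i j, c₂ i ≠ c₂ j := ⟨0, 2, by simp [c₂, h20, h21]⟩
    have hNX : ∀ l, N (X l) = 0 := by
      intro l; cases l
      · exact hN'
      · exact hN
    refine ⟨I.vec X c₁, I.vec X c₂, I.step C hX hn c₁ hc₁, I.step C hX hn c₂ hc₂, ?_, ?_,
      fun h hh he => ?_⟩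
    · rw [I.N_vec C hXm]; exact Finset.sum_eq_zero fun i _ => hNX _
    · rw [I.N_vec C hXm]; exact Finset.sum_eq_zero fun i _ => hNX _
    · obtain ⟨s, hs⟩ := I.shift C hXm hn c₁ c₂ hh he
      have e1 := hs (-s)
      have e2 := hs (1 - s)
      simp only [c₁, c₂, neg_add_cancel, sub_add_cancel, true_or, or_true, decide_true] at e1 e2
      have e1' : -s = 0 := by simpa using e1.symm
      have e2' : 1 - s = 0 := by simpa using e2.symm
      rw [neg_eq_zero.1 e1', sub_zero] at e2'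
      exact h10 e2'

/-- Two-label version with different norms. -/
theorem two_norms (C : Ctx p G PS β N)
    (hbase : ∀ (H : Subgroup (E ≃ₗ[F] E)) (W : Submodule F E), Base G PS β H W → ∃ x y, x ∈ W ∧ y ∈ W ∧ x ≠ 0 ∧ y ≠ 0 ∧
      (∀ J ∈ PS, J x ≠ 0 ∧ J y ≠ 0) ∧ N x ≠ N y) :
    ∀ (H : Subgroup (E ≃ₗ[F] E)) (W : Submodule F E), Adm G PS β H W → ∃ x y, Good PS H W x ∧ Good PS H W y ∧ N x ≠ N y := by
  classical
  refine recursion C _ (fun H W B => ?_) (fun H W A R h1 h2 => ?_)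
    (fun H W z a r κ I h1 => ?_)
  · obtain ⟨x, y, hx, hy, hx0, hy0, hJ, hN⟩ := hbase H W B
    exact ⟨x, y, base_good C B hx hx0 fun J hJ' => (hJ J hJ').1,
      base_good C B hy hy0 fun J hJ' => (hJ J hJ').2, hN⟩
  · obtain ⟨x, y, hx, hy, hN⟩ := h1
    obtain ⟨x', -, hx', -, -⟩ := h2
    refine ⟨x + x', y + x', R.step hx hx', R.step hy hx', ?_⟩
    rw [R.N_add C hx.mem hx'.mem, R.N_add C hy.mem hx'.mem]
    exact fun h => hN (add_right_cancel h)
  · obtain ⟨x, y, hx, hy, hN⟩ := h1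
    let X : Bool → E := fun b => if b then x else y
    have hX : ∀ l, Good PS I.H₀ (fx a W) (X l) := by
      intro l; cases l
      · exact hy
      · exact hx
    have hXm : ∀ l, X l ∈ fx a W := fun l => (hX l).mem
    have hn : ∀ l l', l ≠ l' → ∀ h ∈ I.H₀, h (X l) ≠ X l' := by
      intro l l' hl h hh he
      have h1 : N (X l) = N (X l') := by rw [← he, C.NG h ((I.adm₀ C).le hh)]
      cases l <;> cases l'
      · exact absurd rfl hl
      · exact hN h1.symm
      · exact hN h1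
      · exact absurd rfl hl
    have h10 : (1 : ZMod p) ≠ 0 := one_ne_zero
    have h20 : (2 : ZMod p) ≠ 0 := by
      have : ((2 : ℕ) : ZMod p) ≠ 0 := by
        rw [Ne, ZMod.natCast_eq_zero_iff]
        intro hd
        have := Nat.le_of_dvd (by norm_num) hd
        have := C.five
        omega
      simpa using this
    have h21 : (2 : ZMod p) ≠ 1 := by
      intro h
      apply h10
      have : (2 : ZMod p) = 1 + 1 := by norm_num
      rw [this] at h
      exact left_eq_add.1 h.symm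
    let c₁ : ZMod p → Bool := fun i => decide (i = 0)
    let c₂ : ZMod p → Bool := fun i => decide (i = 0 ∨ i = 1)
    have hc₁ : ∃ i j, c₁ i ≠ c₁ j := ⟨0, 1, by simp [c₁, h10]⟩
    have hc₂ : ∃ i j, c₂ i ≠ c₂ j := ⟨0, 2, by simp [c₂, h20, h21]⟩
    refine ⟨I.vec X c₁, I.vec X c₂, I.step C hX hn c₁ hc₁, I.step C hX hn c₂ hc₂, ?_⟩
    rw [I.N_vec C hXm, I.N_vec C hXm]
    intro he
    have h1 : ∑ i, (N (X (c₂ i)) - N (X (c₁ i))) = 0 := by
      rw [Finset.sum_sub_distrib, he, sub_self]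
    rw [Finset.sum_eq_single 1] at h1
    · simp only [c₁, c₂, h10, or_true, decide_true, decide_false, X, if_true,
        Bool.false_eq_true, if_false] at h1
      exact hN (sub_eq_zero.1 h1)
    · intro i _ hi
      by_cases hi0 : i = 0
      · simp [c₁, c₂, hi0]
      · simp [c₁, c₂, hi0, hi]
    · intro h; exact absurd (Finset.mem_univ _) h

omit [Field F] [AddCommGroup E] [Module F E] [Finite E] in
/-- Non-constant patterns with prescribed sum. -/
theorem pattern (h5 : 5 ≤ p) {K : Type*} [AddCommGroup K] [Finite K] (hK : 4 ≤ Nat.card K) (c₀ : K) :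
    ∃ f : ZMod p → {c : K // c ≠ 0}, (∃ i j, f i ≠ f j) ∧ ∑ i, (f i : K) = c₀ := by
  classical
  haveI := Fintype.ofFinite K
  rw [Nat.card_eq_fintype_card] at hK
  have hpick : ∀ S : Finset K, S.card ≤ 3 → ∃ x, x ∉ S := by
    intro S hS
    by_contra hcon
    push Not at hcon
    have : S = Finset.univ := Finset.eq_univ_of_forall hcon
    rw [this, Finset.card_univ] at hS
    omega
  obtain ⟨u, hu⟩ := hpick {0} (by simp)
  set d := c₀ - (p - 2) • u with hd
  obtain ⟨s, hs⟩ := hpick {0, d, u} Finset.card_le_three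
  simp only [Finset.mem_insert, Finset.mem_singleton, not_or] at hu hs
  have hds : d - s ≠ 0 := sub_ne_zero.2 (Ne.symm hs.2.1)
  haveI : Fact (1 < p) := ⟨by omega⟩
  have h10 : (1 : ZMod p) ≠ 0 := one_ne_zero
  have h20 : (2 : ZMod p) ≠ 0 := by
    have : ((2 : ℕ) : ZMod p) ≠ 0 := by
      rw [Ne, ZMod.natCast_eq_zero_iff]
      intro hd
      have := Nat.le_of_dvd (by norm_num) hd
      omega
    simpa using this
  have h21 : (2 : ZMod p) ≠ 1 := by
    intro h
    apply h10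
    have : (2 : ZMod p) = 1 + 1 := by norm_num
    rw [this] at h
    exact left_eq_add.1 h.symm
  let f : ZMod p → {c : K // c ≠ 0} := fun i =>
    if i = 0 then ⟨s, hs.1⟩ else if i = 1 then ⟨d - s, hds⟩ else ⟨u, hu⟩
  refine ⟨f, ⟨0, 2, fun h => ?_⟩, ?_⟩
  · simp only [f, if_true, h20, h21, if_false] at h
    exact hs.2.2 (congrArg Subtype.val h)
  · have h1 : ∀ i : ZMod p, (f i : K) = u + ((if i = 0 then s - u else 0) +
        (if i = 1 then d - s - u else 0)) := by
      intro i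
      simp only [f]
      by_cases hi : i = 0
      · subst hi
        simp [Ne.symm h10]
      · by_cases hi' : i = 1
        · subst hi'
          simp [h10]
        · simp [hi, hi']
    rw [Finset.sum_congr rfl fun i _ => h1 i, Finset.sum_add_distrib, Finset.sum_add_distrib,
      Finset.sum_ite_eq' , Finset.sum_ite_eq']
    simp only [Finset.mem_univ, if_true, Finset.sum_const, Finset.card_univ, ZMod.card]
    have h2 : p • u = (p - 2) • u + (u + u) := by
      conv_lhs => rw [show p = (p - 2) + 2 by omega, add_smul, two_nsmul]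
    rw [h2, hd]
    abel

/-- Prescribed non-zero norms. -/
theorem prescribed (C : Ctx p G PS β N) [Finite F] (K : AddSubgroup F) (hK : 4 ≤ Nat.card K)
    (hbase : ∀ (H : Subgroup (E ≃ₗ[F] E)) (W : Submodule F E), Base G PS β H W →
      ∀ c ∈ K, c ≠ 0 → ∃ x ∈ W, x ≠ 0 ∧ (∀ J ∈ PS, J x ≠ 0) ∧ N x = c) :
    ∀ (H : Subgroup (E ≃ₗ[F] E)) (W : Submodule F E), Adm G PS β H W →
      ∀ c ∈ K, c ≠ 0 → ∃ x, Good PS H W x ∧ N x = c := by
  classical
  refine recursion C _ (fun H W B => ?_) (fun H W A R h1 h2 => ?_)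
    (fun H W z a r κ I h1 => ?_)
  · intro c hc hc0
    obtain ⟨x, hx, hx0, hJ, hN⟩ := hbase H W B c hc hc0
    exact ⟨x, base_good C B hx hx0 hJ, hN⟩
  · intro c hc hc0
    haveI := Fintype.ofFinite K
    rw [Nat.card_eq_fintype_card] at hK
    obtain ⟨c', hc'⟩ : ∃ c' : K, c' ∉ ({0, ⟨c, hc⟩} : Finset K) := by
      by_contra hcon
      push Not at hcon
      have h3 : ({0, ⟨c, hc⟩} : Finset K) = Finset.univ := Finset.eq_univ_of_forall hcon
      have h4 : ({0, ⟨c, hc⟩} : Finset K).card ≤ 2 := Finset.card_le_two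
      rw [h3, Finset.card_univ] at h4
      omega
    simp only [Finset.mem_insert, Finset.mem_singleton, not_or] at hc'
    obtain ⟨x, hx, hNx⟩ := h1 c' c'.2 (fun h => hc'.1 (Subtype.ext h))
    obtain ⟨y, hy, hNy⟩ := h2 (c - c') (K.sub_mem hc c'.2)
      (fun h => hc'.2 (Subtype.ext (sub_eq_zero.1 h).symm))
    refine ⟨x + y, R.step hx hy, ?_⟩
    rw [R.N_add C hx.mem hy.mem, hNx, hNy]
    abel
  · intro c hc hc0
    obtain ⟨f, hf, hfs⟩ := pattern C.five hK (⟨c, hc⟩ : K)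
    have h2 : ∀ l : {c : K // c ≠ 0}, ∃ x, Good PS I.H₀ (fx a W) x ∧ N x = l.1 :=
      fun l => h1 l.1 l.1.2 (fun h => l.2 (Subtype.ext h))
    choose X hX hNX using h2
    have hn : ∀ l l', l ≠ l' → ∀ h ∈ I.H₀, h (X l) ≠ X l' := by
      intro l l' hl h hh he
      have h3 : N (X l) = N (X l') := by rw [← he, C.NG h ((I.adm₀ C).le hh)]
      rw [hNX, hNX] at h3
      exact hl (Subtype.ext (Subtype.ext h3))
    refine ⟨I.vec X f, I.step C hX hn f hf, ?_⟩
    rw [I.N_vec C (fun l => (hX l).mem)]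
    simp only [hNX]
    have h4 := congrArg Subtype.val hfs
    simpa using h4

/-- A good vector of norm zero. -/
theorem top_zero (C : Ctx p G PS β N) [Finite F] (K : AddSubgroup F) (hK : 4 ≤ Nat.card K)
    (hbase : ∀ (H : Subgroup (E ≃ₗ[F] E)) (W : Submodule F E), Base G PS β H W →
      ∀ c ∈ K, c ≠ 0 → ∃ x ∈ W, x ≠ 0 ∧ (∀ J ∈ PS, J x ≠ 0) ∧ N x = c)
    (A0 : Adm G PS β H W)
    (h0 : Base G PS β H W → ∃ x ∈ W, x ≠ 0 ∧ (∀ J ∈ PS, J x ≠ 0) ∧ N x = 0) :
    ∃ x, Good PS H W x ∧ N x = 0 := by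
  classical
  have hP := prescribed C K hK hbase
  rcases trichotomy C A0 with hB | ⟨A, R⟩ | ⟨z, a, r, κ, I⟩
  · obtain ⟨x, hx, hx0, hJ, hN⟩ := h0 hB
    exact ⟨x, base_good C hB hx hx0 hJ, hN⟩
  · haveI := Fintype.ofFinite K
    rw [Nat.card_eq_fintype_card] at hK
    obtain ⟨c', hc'⟩ : ∃ c' : K, c' ≠ 0 := by
      haveI : Nontrivial K := Fintype.one_lt_card_iff_nontrivial.1 (by omega)
      exact exists_ne 0
    obtain ⟨x, hx, hNx⟩ := hP H _ (R.adm' true) c' c'.2 (fun h => hc' (Subtype.ext h))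
    obtain ⟨y, hy, hNy⟩ := hP H _ (R.adm' false) (-c') (K.neg_mem c'.2)
      (fun h => hc' (Subtype.ext (neg_eq_zero.1 h)))
    refine ⟨x + y, R.step hx hy, ?_⟩
    rw [R.N_add C hx.mem hy.mem, hNx, hNy]
    abel
  · obtain ⟨f, hf, hfs⟩ := pattern C.five hK (0 : K)
    have h2 : ∀ l : {c : K // c ≠ 0}, ∃ x, Good PS I.H₀ (fx a W) x ∧ N x = l.1 :=
      fun l => hP _ _ (I.adm₀ C) l.1 l.1.2 (fun h => l.2 (Subtype.ext h))
    choose X hX hNX using h2
    have hn : ∀ l l', l ≠ l' → ∀ h ∈ I.H₀, h (X l) ≠ X l' := by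
      intro l l' hl h hh he
      have h3 : N (X l) = N (X l') := by rw [← he, C.NG h ((I.adm₀ C).le hh)]
      rw [hNX, hNX] at h3
      exact hl (Subtype.ext (Subtype.ext h3))
    refine ⟨I.vec X f, I.step C hX hn f hf, ?_⟩
    rw [I.N_vec C (fun l => (hX l).mem)]
    simp only [hNX]
    have h4 := congrArg Subtype.val hfs
    simpa using h4

/-- The orbits on `W` of a non-trivial `p`-group: a fixed point free vector has at least `p` images. -/
theorem card_ge' (C : Ctx p G PS β N) (A0 : Adm G PS β H W) {M : Submodule F E} (hMW : M ≤ W)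
    (hM : M ≠ ⊥) (hMi : ∀ h ∈ H, ∀ w ∈ M, h w ∈ M) : 6 ≤ Nat.card M := by
  classical
  obtain ⟨w, hw, hw0⟩ := (Submodule.ne_bot_iff _).1 hM
  have hex : ∃ h ∈ H, h w ≠ w := by
    by_contra hcon
    push Not at hcon
    exact hw0 (A0.fix w (hMW hw) hcon)
  obtain ⟨h, hh, hne⟩ := hex
  -- the powers of `h` give at least `p` distinct vectors
  obtain ⟨n, hn⟩ := C.pg ⟨h, A0.le hh⟩
  have hn' : h ^ p ^ n = 1 := by simpa using congrArg Subtype.val hn
  have key : ∀ k : ℕ, 0 < k → k < 5 → (h ^ k) w ≠ w := by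
    intro k hk hk5 hfix
    apply hne
    have hcop : Nat.Coprime k (p ^ n) := by
      apply Nat.Coprime.pow_right
      refine Nat.Coprime.symm ((Fact.out : p.Prime).coprime_iff_not_dvd.2 fun hd => ?_)
      have := Nat.le_of_dvd hk hd
      have := C.five
      omega
    have h1 : (h ^ (p ^ n)) w = w := by rw [hn']; rfl
    have hS : ∀ m : ℕ, (h ^ m) w = w ↔ h ^ m ∈ MulAction.stabilizer (E ≃ₗ[F] E) w := fun m => by
      rw [MulAction.mem_stabilizer_iff]; rfl
    have h2 := (hS k).1 hfix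
    have h3 := (hS (p ^ n)).1 h1
    have h4 : h ∈ MulAction.stabilizer (E ≃ₗ[F] E) w := by
      have h5 : (h : E ≃ₗ[F] E) ^ ((Nat.gcd k (p ^ n) : ℕ) : ℤ) ∈ MulAction.stabilizer (E ≃ₗ[F] E) w := by
        rw [Nat.gcd_eq_gcd_ab, zpow_add, zpow_mul, zpow_mul, zpow_natCast, zpow_natCast]
        exact Subgroup.mul_mem _ (Subgroup.zpow_mem _ h2 _) (Subgroup.zpow_mem _ h3 _)
      rw [hcop] at h5
      simpa using h5
    rw [MulAction.mem_stabilizer_iff] at h4
    exact h4
  have hW : ∀ k : ℕ, (h ^ k) w ∈ M := fun k => pow_mem (hMi h hh) k hw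
  let f : Option (Fin 5) → M := fun o => match o with
    | none => 0
    | some k => ⟨(h ^ (k : ℕ)) w, hW k⟩
  have hinj : Function.Injective f := by
    have hlt : ∀ i j : Fin 5, i < j → (h ^ (i : ℕ)) w ≠ (h ^ (j : ℕ)) w := by
      intro i j hij he
      refine key (j - i) (Nat.sub_pos_of_lt hij) (lt_of_le_of_lt (Nat.sub_le _ _) j.2) ?_
      have h1 : (h ^ (j : ℕ)) w = (h ^ (i : ℕ)) ((h ^ ((j : ℕ) - i)) w) := by
        rw [← LinearEquiv.mul_apply, ← pow_add]
        congr 2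
        have := Fin.lt_def.1 hij
        omega
      rw [h1] at he
      exact ((h ^ (i : ℕ)).injective he).symm
    rintro (_ | i) (_ | j) he
    · rfl
    · exfalso
      have h1 := congrArg Subtype.val he
      exact hw0 ((LinearEquiv.map_eq_zero_iff _).1 h1.symm)
    · exfalso
      have h1 := congrArg Subtype.val he
      exact hw0 ((LinearEquiv.map_eq_zero_iff _).1 h1)
    · have h1 := congrArg Subtype.val he
      rcases lt_trichotomy i j with hlt' | rfl | hlt'
      · exact absurd h1 (hlt i j hlt')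
      · rfl
      · exact absurd h1.symm (hlt j i hlt')
  haveI := Fintype.ofFinite M
  have := Fintype.card_le_of_injective f hinj
  simpa [Nat.card_eq_fintype_card] using this

theorem card_ge (C : Ctx p G PS β N) (A0 : Adm G PS β H W) : 6 ≤ Nat.card W :=
  card_ge' C A0 le_rfl A0.ne A0.inv

/-- The decomposition into fixed vectors and vectors with average zero. -/
structure Top (G : Subgroup (E ≃ₗ[F] E)) (PS : Set (E →ₗ[F] E)) (β : E → E → F)
    (V₀ W : Submodule F E) : Prop where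
  fixm : ∀ x, x ∈ V₀ ↔ ∀ h ∈ G, h x = x
  sum : ∀ x, ∃ v ∈ V₀, ∃ w ∈ W, v + w = x
  inv : ∀ h ∈ G, ∀ w ∈ W, h w ∈ W
  sb : ∀ h ∈ G, ∀ x, h x - x ∈ W
  dis : ∀ x ∈ V₀, x ∈ W → x = 0
  orth : ∀ x ∈ V₀, ∀ y ∈ W, β x y = 0 ∧ β y x = 0
  ps : ∀ J ∈ PS, ∀ w ∈ W, J w ∈ W
  psV : ∀ J ∈ PS, ∀ w ∈ V₀, J w ∈ V₀
  nd0 : ∀ x ∈ V₀, (∀ y ∈ V₀, β x y = 0) → x = 0
  ndW : ∀ x ∈ W, (∀ y ∈ W, β x y = 0) → x = 0

theorem Top.adm {V₀ : Submodule F E} (T : Top G PS β V₀ W) (hW : W ≠ ⊥) :
    Adm G PS β G W where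
  le := le_rfl
  inv := T.inv
  ps := T.ps
  ne := hW
  fix w hw h := T.dis w ((T.fixm w).2 h) hw
  nd := T.ndW

theorem exists_top (C : Ctx p G PS β N) (hnd : ∀ x, (∀ y, β x y = 0) → x = 0) :
    ∃ V₀ W : Submodule F E, Top G PS β V₀ W := by
  classical
  haveI : Finite (E ≃ₗ[F] E) := Finite.of_injective (fun f : E ≃ₗ[F] E => (f : E → E))
    DFunLike.coe_injective
  haveI := Fintype.ofFinite G
  let m : F := ((Fintype.card G : ℕ) : F)
  have hm : m ≠ 0 := by
    obtain ⟨n, hn⟩ := IsPGroup.iff_card.1 C.pg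
    rw [Nat.card_eq_fintype_card] at hn
    change ((Fintype.card G : ℕ) : F) ≠ 0
    rw [hn, Nat.cast_pow]
    exact pow_ne_zero _ C.pF
  let A : E →ₗ[F] E := m⁻¹ • ∑ h : G, (((h : E ≃ₗ[F] E)) : E →ₗ[F] E)
  have hA : ∀ x, A x = m⁻¹ • ∑ h : G, (h : E ≃ₗ[F] E) x := fun x => by
    simp [A, LinearMap.sum_apply]
  have hA1 : ∀ x, (∀ h ∈ G, h x = x) → A x = x := by
    intro x hx
    rw [hA, Finset.sum_congr rfl fun (h : G) _ => hx h h.2]
    rw [Finset.sum_const, Finset.card_univ, ← Nat.cast_smul_eq_nsmul F, smul_smul,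
      inv_mul_cancel₀ hm, one_smul]
  have hA2 : ∀ h ∈ G, ∀ x, h (A x) = A x := by
    intro h hh x
    rw [hA, map_smul, map_sum]
    congr 1
    exact Fintype.sum_equiv (Equiv.mulLeft (⟨h, hh⟩ : G)) _ _ (fun k => rfl)
  have hA3 : ∀ h ∈ G, ∀ x, A (h x) = A x := by
    intro h hh x
    rw [hA, hA]
    congr 1
    exact Fintype.sum_equiv (Equiv.mulRight (⟨h, hh⟩ : G)) _ _ (fun k => rfl)
  have hA4 : ∀ x, A (A x) = A x := fun x => hA1 _ fun h hh => hA2 h hh x
  have hAJ : ∀ J ∈ PS, ∀ x, J (A x) = A (J x) := by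
    intro J hJ x
    rw [hA, hA, map_smul, map_sum]
    congr 1
    exact Finset.sum_congr rfl fun h _ => C.comm J hJ h h.2 x
  have horth : ∀ x, A x = x → ∀ y, A y = 0 → β x y = 0 ∧ β y x = 0 := by
    intro x hx y hy
    have hy' : ∑ h : G, (h : E ≃ₗ[F] E) y = 0 := by
      rw [hA, smul_eq_zero] at hy
      exact hy.resolve_left (inv_ne_zero hm)
    have hfx : ∀ h : G, (h : E ≃ₗ[F] E) x = x := fun h => by
      rw [← hx]; exact hA2 h h.2 x
    constructor
    · have h3 := C.β_sum_right Finset.univ (fun h : G => (h : E ≃ₗ[F] E) y) x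
      rw [hy', C.β_zero_right] at h3
      have h4 : ∀ h : G, β x ((h : E ≃ₗ[F] E) y) = β x y := fun h => by
        conv_lhs => rw [← hfx h]
        exact C.βG h h.2 x y
      simp only [h4, Finset.sum_const, Finset.card_univ, nsmul_eq_mul] at h3
      exact (mul_eq_zero.1 h3.symm).resolve_left hm
    · have h3 := C.β_sum_left Finset.univ (fun h : G => (h : E ≃ₗ[F] E) y) x
      rw [hy', C.β_zero_left] at h3
      have h4 : ∀ h : G, β ((h : E ≃ₗ[F] E) y) x = β y x := fun h => by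
        conv_lhs => rw [← hfx h]
        exact C.βG h h.2 y x
      simp only [h4, Finset.sum_const, Finset.card_univ, nsmul_eq_mul] at h3
      exact (mul_eq_zero.1 h3.symm).resolve_left hm
  have hfixA : ∀ x, A x = x ↔ ∀ h ∈ G, h x = x := fun x =>
    ⟨fun hx h hh => by rw [← hx]; exact hA2 h hh x, hA1 x⟩
  let V₀ : Submodule F E := LinearMap.ker (A - LinearMap.id)
  have hV₀ : ∀ x, x ∈ V₀ ↔ A x = x := fun x => by
    simp [V₀, sub_eq_zero]
  let W : Submodule F E := LinearMap.ker A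
  have hWm : ∀ x, x ∈ W ↔ A x = 0 := fun x => LinearMap.mem_ker
  refine ⟨V₀, W, ?_, ?_, ?_, ?_, ?_, ?_, ?_, ?_, ?_, ?_⟩
  · intro x; rw [hV₀, hfixA]
  · intro x
    refine ⟨A x, (hV₀ _).2 (hA4 x), x - A x, (hWm _).2 ?_, by abel⟩
    rw [map_sub, hA4, sub_self]
  · intro h hh w hw
    rw [hWm] at hw ⊢
    rw [hA3 h hh, hw]
  · intro h hh x
    rw [hWm, map_sub, hA3 h hh, sub_self]
  · intro x hx hx'
    rw [hV₀] at hx
    rw [hWm] at hx'
    rw [← hx, hx']
  · intro x hx y hy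
    exact horth x ((hV₀ x).1 hx) y ((hWm y).1 hy)
  · intro J hJ w hw
    rw [hWm] at hw ⊢
    rw [← hAJ J hJ, hw, map_zero]
  · intro J hJ w hw
    rw [hV₀] at hw ⊢
    rw [← hAJ J hJ, hw]
  · intro x hx h
    apply hnd
    intro y
    have h1 : y = A y + (y - A y) := by abel
    rw [h1, C.βr, h _ ((hV₀ _).2 (hA4 y)), (horth x ((hV₀ x).1 hx) (y - A y) (by
      rw [map_sub, hA4, sub_self])).1, add_zero]
  · intro x hx h
    apply hnd
    intro y
    have h1 : y = A y + (y - A y) := by abel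
    rw [h1, C.βr, h (y - A y) ((hWm _).2 (by rw [map_sub, hA4, sub_self])),
      (horth (A y) (hA4 y) x ((hWm x).1 hx)).2, add_zero]

/-! ### Finishing lemmas -/

namespace Top

variable {V₀ : Submodule F E} (T : Top G PS β V₀ W)

include T

omit [Finite E] [Fact p.Prime] in
theorem reg_of {v₀ x : E} (hv₀ : v₀ ∈ V₀) (hreg : ∀ h ∈ G, h x = x → ∀ w ∈ W, h w = w) :
    ∀ h ∈ G, h (v₀ + x) = v₀ + x → h = 1 := by
  intro h hh he
  rw [map_add, (T.fixm v₀).1 hv₀ h hh] at he
  have h1 := hreg h hh (add_left_cancel he)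
  ext y
  obtain ⟨v, hv, w, hw, rfl⟩ := T.sum y
  rw [map_add, (T.fixm v).1 hv h hh, h1 w hw]
  rfl

omit [Finite E] [Fact p.Prime] in
theorem eq_one_of_bot (hW : W = ⊥) : ∀ h ∈ G, h = 1 := by
  intro h hh
  ext y
  have h1 := T.sb h hh y
  rw [hW, Submodule.mem_bot, sub_eq_zero] at h1
  exact h1

omit [Finite E] [Fact p.Prime] in
theorem avoid_of_ne {v₀ x : E} (hv₀ : v₀ ∈ V₀) (h0 : v₀ ≠ 0) (hx : x ∈ W) : Avoid G (v₀ + x) := by
  intro z hz _ hmem
  exfalso
  obtain ⟨e, he⟩ := LinearMap.mem_range.1 hmem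
  have he' : z e - e = v₀ + x := he
  have h1 := T.sb z hz e
  rw [he'] at h1
  exact h0 (T.dis v₀ hv₀ (by simpa using W.sub_mem h1 hx))

omit [Finite E] [Fact p.Prime] in
theorem mem_cm_of {z : E ≃ₗ[F] E} (hz : z ∈ G) {x : E} (hx : x ∈ com z) :
    ∃ w ∈ W, z w - w = x := by
  obtain ⟨e, he⟩ := LinearMap.mem_range.1 hx
  have he' : z e - e = x := he
  obtain ⟨v, hv, w, hw, rfl⟩ := T.sum e
  refine ⟨w, hw, ?_⟩
  rw [← he', map_add, (T.fixm v).1 hv z hz]
  abel

omit [Fact p.Prime] in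
theorem avoid_of_good {v₀ x : E} (hv₀ : v₀ ∈ V₀) (hx : Good PS G W x) (hJ : LinearMap.id ∈ PS)
    (h : v₀ ≠ 0 ∨ 3 ≤ Module.finrank F W) : Avoid G (v₀ + x) := by
  by_cases h0 : v₀ = 0
  · subst h0
    have h3 : 3 ≤ Module.finrank F W := h.resolve_left (fun h => h rfl)
    rw [zero_add]
    intro z hz _ hmem
    have hle : cm LinearMap.id W z ≤ com z := by
      intro y hy
      obtain ⟨w, _, hw⟩ := mem_cm.1 hy
      exact ⟨w, hw⟩
    have h1 := Submodule.finrank_mono hle
    rcases hx.ss _ hJ z hz (mem_cm.2 (T.mem_cm_of hz hmem)) with h2 | h2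
    · rw [Submodule.map_id] at h2
      have h4 := Submodule.finrank_mono h2
      omega
    · omega
  · exact T.avoid_of_ne hv₀ h0 hx.mem

end Top

end tri

end Cfsg.Agent.H903.SylReg
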