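/-
helper903: regular vectors, symplectic and orthogonal cases (S5762).
-/
import Mathlib
import Cfsg.Agent.H903.SylRegB

set_option autoImplicit false

namespace Cfsg.Agent.H903.SylReg

open Finset

variable {F : Type*} [Field F] {E : Type*} [AddCommGroup E] [Module F E] [Finite E]

section sp

variable {p : ℕ} [Fact p.Prime] {G : Subgroup (E ≃ₗ[F] E)} {N : E → F}
  {H : Subgroup (E ≃ₗ[F] E)} {W : Submodule F E}

/-- Base case, symplectic: not all non-zero vectors are conjugate. -/
theorem base_sp {PS : Set (E →ₗ[F] E)} (B : E →ₗ[F] E →ₗ[F] F) (halt : ∀ x, B x x = 0)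
    (C : Ctx p G PS (fun x y => B x y) N) (Bs : Base G PS (fun x y => B x y) H W) :
    ∃ x y, x ∈ W ∧ y ∈ W ∧ x ≠ 0 ∧ y ≠ 0 ∧ ∀ h ∈ H, h x ≠ y := by
  classical
  by_contra hcon
  push Not at hcon
  have hsk : ∀ x y, B y x = - B x y := by
    intro x y
    have h1 := halt (x + y)
    simp only [map_add, LinearMap.add_apply, halt, zero_add, add_zero] at h1
    exact eq_neg_of_add_eq_zero_left h1
  obtain ⟨w, hw, hw0⟩ := (Submodule.ne_bot_iff _).1 Bs.ne
  have hBG : ∀ h ∈ H, ∀ x y, B (h x) (h y) = B x y := fun h hh => C.βG h (Bs.le hh)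
  have claim : ∀ u ∈ W, u ≠ 0 → B w u = 0 → u = w := by
    intro u hu hu0 hB
    obtain ⟨k, hk, hkw⟩ := hcon w u hw hu hw0 hu0
    have h1 : ∀ v ∈ W, B v (k v) = 0 := by
      intro v hv
      by_cases hv0 : v = 0
      · rw [hv0, map_zero]; rfl
      · obtain ⟨h, hh, rfl⟩ := hcon w v hw hv hw0 hv0
        rw [Bs.ab k hk h hh w hw, hBG h hh, hkw, hB]
    have hki : ∀ v ∈ W, k⁻¹ v ∈ W := fun v hv => Bs.inv _ (H.inv_mem hk) v hv
    have hkk : ∀ v, k (k⁻¹ v) = v := fun v => by
      rw [← LinearEquiv.mul_apply, mul_inv_cancel]; rfl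
    have h2 : ∀ v ∈ W, k v = k⁻¹ v := by
      intro v hv
      rw [← sub_eq_zero]
      refine Bs.nd _ (W.sub_mem (Bs.inv k hk v hv) (hki v hv)) fun x hx => ?_
      have h3 := h1 (x + v) (W.add_mem hx hv)
      simp only [map_add, LinearMap.add_apply, h1 x hx, h1 v hv, zero_add, add_zero] at h3
      have h4 : B (k x) v = B x (k⁻¹ v) := by
        conv_lhs => rw [← hkk v]
        exact hBG k hk _ _
      rw [hsk x, map_sub, ← h4, hsk v (k x)]
      rw [add_comm] at h3
      rw [sub_neg_eq_add, h3, neg_zero]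
    have h2' : ∀ v ∈ W, (k ^ 2) v = v := by
      intro v hv
      rw [pow_two, LinearEquiv.mul_apply, h2 v hv, hkk]
    have h5 : ∀ m : ℕ, ∀ v ∈ W, (k ^ (2 * m)) v = v := by
      intro m
      induction m with
      | zero => intro v _; rfl
      | succ m ih =>
        intro v hv
        rw [Nat.mul_succ, pow_add, LinearEquiv.mul_apply, h2' v hv, ih v hv]
    obtain ⟨n, hn⟩ := C.pg ⟨k, Bs.le hk⟩
    have hn' : k ^ p ^ n = 1 := by simpa using congrArg Subtype.val hn
    have hodd : Odd (p ^ n) := by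
      apply Odd.pow
      rcases (Fact.out : p.Prime).eq_two_or_odd' with h | h
      · have := C.five; omega
      · exact h
    obtain ⟨m, hm⟩ := hodd
    have h6 : (k ^ p ^ n) w = k w := by
      rw [hm, pow_succ', LinearEquiv.mul_apply, h5 m w hw]
    rw [hn', hkw] at h6
    exact h6.symm
  have hF : ∀ a : F, a = 0 ∨ a = 1 := by
    intro a
    by_cases ha : a = 0
    · exact Or.inl ha
    · right
      have h1 := claim (a • w) (W.smul_mem a hw) (smul_ne_zero ha hw0) (by
        rw [map_smul, halt, smul_zero])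
      have h2 : (a - 1) • w = 0 := by rw [sub_smul, one_smul, h1, sub_self]
      exact sub_eq_zero.1 ((smul_eq_zero.1 h2).resolve_right hw0)
  obtain ⟨u, hu, hwu⟩ : ∃ u ∈ W, B w u ≠ 0 := by
    by_contra hcon'
    push Not at hcon'
    exact hw0 (Bs.nd w hw hcon')
  have hwu1 := (hF (B w u)).resolve_left hwu
  have hsub : (W : Set E) ⊆ (({0, w, u, u + w} : Finset E) : Set E) := by
    intro v hv
    simp only [Finset.coe_insert, Finset.coe_singleton, Set.mem_insert_iff, Set.mem_singleton_iff]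
    rcases hF (B w v) with h | h
    · by_cases hv0 : v = 0
      · exact Or.inl hv0
      · exact Or.inr (Or.inl (claim v hv hv0 h))
    · by_cases hv0 : v - u = 0
      · exact Or.inr (Or.inr (Or.inl (sub_eq_zero.1 hv0)))
      · have h1 := claim (v - u) (W.sub_mem hv hu) hv0 (by rw [map_sub, h, hwu1, sub_self])
        right; right; right
        rw [← h1]; abel
  have h6 := card_ge C Bs.toAdm
  have h7 : Nat.card W ≤ 4 := by
    have h8 : Nat.card W = (W : Set E).ncard := rfl
    rw [h8]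
    refine (Set.ncard_le_ncard hsub (Finset.finite_toSet _)).trans ?_
    rw [Set.ncard_coe_finset]
    exact Finset.card_le_four
  omega

end sp

theorem exists_ne_zero_of_finrank (hE : 3 ≤ Module.finrank F E) : ∃ v : E, v ≠ 0 := by
  by_contra hcon
  push Not at hcon
  haveI : Subsingleton E := ⟨fun a b => by rw [hcon a, hcon b]⟩
  rw [Module.finrank_zero_of_subsingleton] at hE
  omega

/-- **RegSp.** -/
theorem regSp (p : ℕ) [Fact p.Prime] (hp : 5 ≤ p) (F : Type*) [Field F] (E : Type*) [AddCommGroup E]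
    [Module F E] [Finite E] (hpF : (p : F) ≠ 0) (hE : 3 ≤ Module.finrank F E) : RegSp p F E := by
  intro B halt hnd R hR hRB
  have C : Ctx p R {LinearMap.id} (fun x y => B x y) (fun _ => (0 : F)) :=
    { pF := hpF
      five := hp
      pg := hR
      comm := by rintro J rfl h _ x; rfl
      βl := fun x y z => by simp
      βr := fun x y z => by simp
      βG := hRB
      NG := fun _ _ _ => rfl
      Nadd := fun _ _ _ _ => by simp }
  obtain ⟨V₀, W, T⟩ := exists_top C hnd
  by_cases hW : W = ⊥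
  · obtain ⟨v, hv⟩ := exists_ne_zero_of_finrank hE
    have h1 := T.eq_one_of_bot hW
    exact ⟨v, hv, fun h hh _ => h1 h hh, fun z hz hz1 => absurd (h1 z hz) hz1⟩
  · have A0 := T.adm hW
    obtain ⟨x, -, hx, -⟩ := two_labels C (fun H W Bs => by
      obtain ⟨x, y, hx, hy, hx0, hy0, hc⟩ := base_sp B halt C Bs
      refine ⟨x, y, hx, hy, hx0, hy0, ?_, rfl, rfl, hc⟩
      rintro J rfl
      exact ⟨hx0, hy0⟩) R W A0
    have hx0 : x ≠ 0 := by
      rintro rfl
      have h1 := hx.reg
      obtain ⟨w, hw, hw0⟩ := (Submodule.ne_bot_iff _).1 A0.ne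
      exact hw0 (A0.fix w hw fun h hh => h1 h hh (map_zero h) w hw)
    by_cases hV : V₀ = ⊥
    · have hWt : W = ⊤ := by
        rw [eq_top_iff]
        intro y _
        obtain ⟨v, hv, w, hw, rfl⟩ := T.sum y
        rw [hV, Submodule.mem_bot] at hv
        rw [hv, zero_add]; exact hw
      have h3 : 3 ≤ Module.finrank F W := by rw [hWt, finrank_top]; exact hE
      refine ⟨0 + x, by rwa [zero_add], T.reg_of V₀.zero_mem hx.reg,
        T.avoid_of_good V₀.zero_mem hx rfl (Or.inr h3)⟩
    · obtain ⟨v₀, hv₀, hv0⟩ := (Submodule.ne_bot_iff _).1 hV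
      refine ⟨v₀ + x, ?_, T.reg_of hv₀ hx.reg, T.avoid_of_good hv₀ hx rfl (Or.inl hv0)⟩
      intro h
      apply hv0
      apply T.dis v₀ hv₀
      rw [eq_neg_of_add_eq_zero_left h]
      exact W.neg_mem hx.mem

end Cfsg.Agent.H903.SylReg
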