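/-
helper903: regular vectors, linear case (S5762): a vector and a linear form.
-/
import Mathlib
import Cfsg.Agent.H903.SylRegSp

set_option autoImplicit false

namespace Cfsg.Agent.H903.SylReg

open Finset

section gen

variable {F : Type*} [Field F] {E : Type*} [AddCommGroup E] [Module F E]

theorem gen_one (M : Submodule F E) [FiniteDimensional F E] (h : Module.finrank F M ≤ 1) :
    ∃ v, ∀ u ∈ M, ∃ c : F, c • v = u := by
  obtain ⟨v, hv⟩ := (finrank_le_one_iff (K := F) (V := M)).1 h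
  exact ⟨v, fun u hu => (hv ⟨u, hu⟩).imp fun c hc => congrArg Subtype.val hc⟩

theorem gen_two [Finite F] [Finite E] (M : Submodule F E) (f : E →ₗ[F] F)
    (h : 3 * Nat.card F ≤ Nat.card M) :
    ∃ x y, x ∈ M ∧ y ∈ M ∧ x ≠ 0 ∧ y ≠ 0 ∧ x ≠ y ∧ f x = 0 ∧ f y = 0 := by
  classical
  let g : M →ₗ[F] F := f ∘ₗ M.subtype
  have h10 := Submodule.card_eq_card_quotient_mul_card (LinearMap.ker g)
  have h11 : Nat.card (M ⧸ LinearMap.ker g) ≤ Nat.card F := by
    rw [Nat.card_congr g.quotKerEquivRange.toEquiv]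
    exact Nat.card_le_card_of_injective _ Subtype.val_injective
  have h12 : 3 ≤ Nat.card (LinearMap.ker g) := by
    by_contra hlt
    have h7 : 1 < Nat.card F := Finite.one_lt_card
    have h13 : Nat.card (LinearMap.ker g) ≤ 2 := by omega
    have h14 := Nat.mul_le_mul h13 h11
    rw [← h10] at h14
    omega
  haveI := Fintype.ofFinite (LinearMap.ker g)
  rw [Nat.card_eq_fintype_card] at h12
  have hpick : ∀ S : Finset (LinearMap.ker g), S.card ≤ 2 → ∃ x, x ∉ S := by
    intro S hS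
    by_contra hc
    push Not at hc
    have : S = Finset.univ := Finset.eq_univ_of_forall hc
    rw [this, Finset.card_univ] at hS
    omega
  obtain ⟨x, hx⟩ := hpick {0} (by simp)
  obtain ⟨y, hy⟩ := hpick {0, x} Finset.card_le_two
  simp only [Finset.mem_insert, Finset.mem_singleton, not_or] at hx hy
  exact ⟨x.1, y.1, x.1.2, y.1.2, fun h => hx (Subtype.ext (Subtype.ext h)),
    fun h => hy.1 (Subtype.ext (Subtype.ext h)), fun h => hy.2 (Subtype.ext (Subtype.ext h.symm)),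
    x.2, y.2⟩

end gen

section lin

variable {F : Type*} [Field F] {V : Type*} [AddCommGroup V] [Module F V]

/-- The action on `V × V*`. -/
noncomputable def dbl : (V ≃ₗ[F] V) →* ((V × Module.Dual F V) ≃ₗ[F] (V × Module.Dual F V)) where
  toFun g := LinearEquiv.prodCongr g (g.dualMap).symm
  map_one' := by
    ext x <;> rfl
  map_mul' g h := by
    ext x <;> rfl

theorem dbl_apply (g : V ≃ₗ[F] V) (x : V × Module.Dual F V) :
    dbl g x = (g x.1, x.2 ∘ₗ ((g⁻¹ : V ≃ₗ[F] V) : V →ₗ[F] V)) := rfl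

/-- first projection -/
def J₁ (F V : Type*) [Field F] [AddCommGroup V] [Module F V] :
    (V × Module.Dual F V) →ₗ[F] (V × Module.Dual F V) :=
  LinearMap.inl F V (Module.Dual F V) ∘ₗ LinearMap.fst F V (Module.Dual F V)

/-- second projection -/
def J₂ (F V : Type*) [Field F] [AddCommGroup V] [Module F V] :
    (V × Module.Dual F V) →ₗ[F] (V × Module.Dual F V) :=
  LinearMap.inr F V (Module.Dual F V) ∘ₗ LinearMap.snd F V (Module.Dual F V)

theorem J₁_apply (x : V × Module.Dual F V) : J₁ F V x = (x.1, 0) := rfl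

theorem J₂_apply (x : V × Module.Dual F V) : J₂ F V x = (0, x.2) := rfl

theorem J_add (x : V × Module.Dual F V) : J₁ F V x + J₂ F V x = x := by
  rw [J₁_apply, J₂_apply]; ext <;> simp

/-- the pairing -/
def bet (x y : V × Module.Dual F V) : F := x.2 y.1 + y.2 x.1

/-- the hyperbolic form -/
def nm (x : V × Module.Dual F V) : F := x.2 x.1

/-- the two projections -/
def PSL (F V : Type*) [Field F] [AddCommGroup V] [Module F V] :
    Set ((V × Module.Dual F V) →ₗ[F] (V × Module.Dual F V)) := {J₁ F V, J₂ F V}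

theorem mem_PSL₁ : J₁ F V ∈ PSL F V := Or.inl rfl
theorem mem_PSL₂ : J₂ F V ∈ PSL F V := Or.inr rfl

/-- a `PSL`-invariant non-degenerate subspace -/
structure Nd (W : Submodule F (V × Module.Dual F V)) : Prop where
  ps : ∀ J ∈ PSL F V, ∀ w ∈ W, J w ∈ W
  nd : ∀ x ∈ W, (∀ y ∈ W, bet x y = 0) → x = 0

namespace Nd

variable {W : Submodule F (V × Module.Dual F V)} (D : Nd W)

include D

theorem pair (hW : W ≠ ⊥) : ∃ (v : V) (φ : Module.Dual F V), (v, 0) ∈ W ∧ (0, φ) ∈ W ∧ φ v ≠ 0 := by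
  obtain ⟨⟨v, φ⟩, hx, hx0⟩ := (Submodule.ne_bot_iff _).1 hW
  have h1 : (v, (0 : Module.Dual F V)) ∈ W := D.ps _ mem_PSL₁ _ hx
  have h2 : ((0 : V), φ) ∈ W := D.ps _ mem_PSL₂ _ hx
  by_cases hv : v = 0
  · have hφ : φ ≠ 0 := by
      rintro rfl
      exact hx0 (by rw [hv]; rfl)
    obtain ⟨⟨w, ψ⟩, hy, hy0⟩ : ∃ y ∈ W, bet ((0 : V), φ) y ≠ 0 := by
      by_contra hcon
      push Not at hcon
      exact hφ (congrArg Prod.snd (D.nd _ h2 hcon))
    refine ⟨w, φ, D.ps _ mem_PSL₁ _ hy, h2, ?_⟩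
    simpa [bet] using hy0
  · obtain ⟨⟨w, ψ⟩, hy, hy0⟩ : ∃ y ∈ W, bet (v, (0 : Module.Dual F V)) y ≠ 0 := by
      by_contra hcon
      push Not at hcon
      exact hv (congrArg Prod.fst (D.nd _ h1 hcon))
    refine ⟨v, ψ, h1, D.ps _ mem_PSL₂ _ hy, ?_⟩
    simpa [bet] using hy0

theorem pair_val (hW : W ≠ ⊥) {c : F} (hc : c ≠ 0) :
    ∃ (v : V) (φ : Module.Dual F V), (v, 0) ∈ W ∧ (0, φ) ∈ W ∧ φ v = c ∧ v ≠ 0 ∧ φ ≠ 0 := by
  obtain ⟨v, φ, hv, hφ, h0⟩ := D.pair hW
  have hv0 : v ≠ 0 := by rintro rfl; exact h0 (map_zero φ)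
  have hφ0 : φ ≠ 0 := by rintro rfl; exact h0 rfl
  refine ⟨v, (c / φ v) • φ, hv, ?_, ?_, hv0, smul_ne_zero (div_ne_zero hc h0) hφ0⟩
  · have := W.smul_mem (c / φ v) hφ
    simpa using this
  · simp [div_mul_cancel₀ _ h0]

/-- the vectors in the first part -/
theorem mem_M (v : V) : (v, (0 : Module.Dual F V)) ∈ W.map (J₁ F V) ↔ (v, (0 : Module.Dual F V)) ∈ W := by
  constructor
  · rintro ⟨x, hx, he⟩
    rw [← he]
    exact D.ps _ mem_PSL₁ _ hx
  · intro h
    exact ⟨_, h, rfl⟩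

theorem M_le : W.map (J₁ F V) ≤ W := by
  rintro _ ⟨x, hx, rfl⟩
  exact D.ps _ mem_PSL₁ _ hx

theorem M'_le : W.map (J₂ F V) ≤ W := by
  rintro _ ⟨x, hx, rfl⟩
  exact D.ps _ mem_PSL₂ _ hx

/-- orthogonal pairs in dimension at least two -/
theorem pair_zero (h2 : 2 ≤ Module.finrank F (W.map (J₁ F V))) :
    ∃ (v : V) (φ : Module.Dual F V), (v, 0) ∈ W ∧ (0, φ) ∈ W ∧ φ v = 0 ∧ v ≠ 0 ∧ φ ≠ 0 := by
  have hW : W ≠ ⊥ := by
    rintro rfl
    rw [Submodule.map_bot, finrank_bot] at h2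
    omega
  obtain ⟨v, φ, hv, hφ, h0, hv0, hφ0⟩ := D.pair_val hW (one_ne_zero (α := F))
  obtain ⟨⟨u, u'⟩, hu, hun⟩ : ∃ y ∈ W.map (J₁ F V), y ∉ Submodule.span F {(v, (0 : Module.Dual F V))} := by
    by_contra hcon
    push Not at hcon
    have h1 : W.map (J₁ F V) ≤ Submodule.span F {(v, (0 : Module.Dual F V))} := hcon
    have h2' := Submodule.finrank_mono h1
    have h3 := finrank_span_le_card (R := F) ({(v, (0 : Module.Dual F V))} : Set _)
    simp at h3
    omega
  have hu' : u' = 0 := by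
    obtain ⟨x, hx, he⟩ := hu
    exact (congrArg Prod.snd he).symm
  subst hu'
  have huW := (D.mem_M u).1 hu
  refine ⟨u - φ u • v, φ, ?_, hφ, ?_, fun h => hun ?_, hφ0⟩
  · have := W.sub_mem huW (W.smul_mem (φ u) hv)
    simpa using this
  · rw [map_sub, map_smul, h0, smul_eq_mul, mul_one, sub_self]
  · rw [Submodule.mem_span_singleton]
    refine ⟨φ u, ?_⟩
    rw [Prod.smul_mk, smul_zero, ← sub_eq_zero.1 h]

theorem finrank_le [FiniteDimensional F V] :
    Module.finrank F (W.map (J₁ F V)) ≤ Module.finrank F (W.map (J₂ F V)) := by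
  let f : W.map (J₁ F V) →ₗ[F] Module.Dual F (W.map (J₂ F V)) :=
    LinearMap.mk₂ F (fun x y => (y : V × Module.Dual F V).2 (x : V × Module.Dual F V).1)
      (fun _ _ _ => by simp) (fun _ _ _ => by simp) (fun _ _ _ => by simp) (fun _ _ _ => by simp)
  have hf : ∀ x y, f x y = (y : V × Module.Dual F V).2 (x : V × Module.Dual F V).1 := fun _ _ => rfl
  have hinj : Function.Injective f := by
    rw [injective_iff_map_eq_zero]
    intro x hx
    apply Subtype.ext
    refine D.nd x (D.M_le x.2) fun y hy => ?_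
    have h1 := hf x ⟨_, y, hy, rfl⟩
    rw [hx] at h1
    obtain ⟨x', hx', he⟩ := x.2
    have h2 : (x : V × Module.Dual F V).2 = 0 := (congrArg Prod.snd he).symm
    rw [bet, h2]
    simpa [J₂_apply] using h1.symm
  have h1 := LinearMap.finrank_le_finrank_of_injective hinj
  exact h1.trans (Subspace.dual_finrank_eq (K := F) (V := W.map (J₂ F V))).le

end Nd

variable [Finite F] [Finite V]

instance finDual : Finite (Module.Dual F V) :=
  Finite.of_injective (fun f : Module.Dual F V => (f : V → F)) DFunLike.coe_injective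

instance finE : Finite (V × Module.Dual F V) := inferInstance

variable {p : ℕ} [Fact p.Prime]

omit [Finite F] [Finite V] [Fact p.Prime] in
theorem ctxL (hp : 5 ≤ p) (hpF : (p : F) ≠ 0) {R : Subgroup (V ≃ₗ[F] V)} (hR : IsPGroup p R) :
    Ctx p (R.map dbl) (PSL F V) bet nm where
  pF := hpF
  five := hp
  pg := hR.map _
  comm := by
    rintro J (rfl | rfl) _ ⟨g, hg, rfl⟩ x
    · rw [J₁_apply, J₁_apply, dbl_apply, dbl_apply]; simp
    · rw [J₂_apply, J₂_apply, dbl_apply, dbl_apply]; simp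
  βl x y z := by simp [bet]; ring
  βr x y z := by simp [bet]; ring
  βG := by
    rintro _ ⟨g, hg, rfl⟩ x y
    have hk : ∀ v, g⁻¹ (g v) = v := fun v => by
      rw [← LinearEquiv.mul_apply, inv_mul_cancel]; rfl
    simp [bet, dbl_apply]
  NG := by
    rintro _ ⟨g, hg, rfl⟩ x
    simp [nm, dbl_apply]
  Nadd x y h _ := by
    simp only [bet] at h
    simp only [nm, Prod.fst_add, Prod.snd_add, LinearMap.add_apply, map_add]
    linear_combination h

omit [Finite F] [Finite V] in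
theorem ndL (x : V × Module.Dual F V) (h : ∀ y, bet x y = 0) : x = 0 := by
  obtain ⟨v, φ⟩ := x
  have h1 : φ = 0 := by
    ext w
    have := h (w, 0)
    simpa [bet] using this
  have h2 : v = 0 := by
    rw [← Module.forall_dual_apply_eq_zero_iff F v]
    intro ψ
    have := h (0, ψ)
    simpa [bet] using this
  rw [h1, h2]; rfl

omit [Finite F] [Finite V] [Fact p.Prime] in
theorem Top.nd₀ {β : _} {G : Subgroup ((V × Module.Dual F V) ≃ₗ[F] (V × Module.Dual F V))}
    {V₀ W : Submodule F (V × Module.Dual F V)} (hβ : β = bet) (T : Top G (PSL F V) β V₀ W) : Nd V₀ := by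
  subst hβ
  exact ⟨T.psV, T.nd0⟩

omit [Finite F] [Finite V] [Fact p.Prime] in
theorem Top.nd₁ {β : _} {G : Subgroup ((V × Module.Dual F V) ≃ₗ[F] (V × Module.Dual F V))}
    {V₀ W : Submodule F (V × Module.Dual F V)} (hβ : β = bet) (T : Top G (PSL F V) β V₀ W) : Nd W := by
  subst hβ
  exact ⟨T.ps, T.ndW⟩

omit [Finite F] [Finite V] [Fact p.Prime] in
theorem dbl_fix {r : V ≃ₗ[F] V} {v : V} {φ : Module.Dual F V} (h1 : r v = v)
    (h2 : ∀ x, φ (r x) = φ x) : dbl r (v, φ) = (v, φ) := by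
  rw [dbl_apply]
  refine Prod.ext h1 ?_
  ext y
  change φ (r⁻¹ y) = φ y
  rw [← h2 (r⁻¹ y), ← LinearEquiv.mul_apply, mul_inv_cancel]
  rfl

omit [Finite F] [Finite V] [Fact p.Prime] in
theorem dbl_inj {r : V ≃ₗ[F] V} (h : dbl r = 1) : r = 1 := by
  ext v
  have h1 : dbl r (v, 0) = (v, 0) := by rw [h]; rfl
  exact congrArg Prod.fst h1

omit [Finite F] [Finite V] [Fact p.Prime] in
/-- the map `ψ ↦ ψ ∘ z - ψ` -/
theorem dbl_inv_snd (z : V ≃ₗ[F] V) (ψ : Module.Dual F V) :
    dbl z⁻¹ (0, ψ) - (0, ψ) = (0, ψ ∘ₗ ((z : V →ₗ[F] V) - LinearMap.id)) := by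
  rw [dbl_apply]
  refine Prod.ext (by simp) ?_
  ext y
  simp

/-- What we want. -/
def OutL (R : Subgroup (V ≃ₗ[F] V)) : Prop :=
  ∃ (v : V) (φ : Module.Dual F V), v ≠ 0 ∧ φ ≠ 0 ∧ φ v = 0 ∧
    (∀ r ∈ R, r v = v → (∀ x, φ (r x) = φ x) → r = 1) ∧ Avoid R v ∧ AvoidDual R φ

omit [Finite F] [Fact p.Prime] in
/-- finishing in large dimension -/
theorem finL {R : Subgroup (V ≃ₗ[F] V)} {V₀ W : Submodule F (V × Module.Dual F V)} [Finite F]
    (T : Top (R.map dbl) (PSL F V) bet V₀ W) {x : V × Module.Dual F V}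
    (hx : Good (PSL F V) (R.map dbl) W x) (hN : nm x = 0)
    (h3 : 3 ≤ Module.finrank F (W.map (J₁ F V))) : OutL R := by
  obtain ⟨v, φ⟩ := x
  have D := T.nd₁ rfl
  have h3' : 3 ≤ Module.finrank F (W.map (J₂ F V)) := h3.trans D.finrank_le
  have hcm1 : ∀ J, cm J W (1 : (V × Module.Dual F V) ≃ₗ[F] (V × Module.Dual F V)) = ⊥ := by
    intro J
    rw [Submodule.eq_bot_iff]
    intro y hy
    obtain ⟨w, _, rfl⟩ := mem_cm.1 hy
    exact sub_self _
  have hJx : ∀ J ∈ PSL F V, 3 ≤ Module.finrank F (W.map J) → J (v, φ) ≠ 0 := by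
    intro J hJ hd h0
    have h1 := hx.ss J hJ 1 (Subgroup.one_mem _) (by rw [h0]; exact Submodule.zero_mem _)
    rw [hcm1 J, finrank_bot] at h1
    have h2 := h1.resolve_right (by norm_num)
    rw [le_bot_iff] at h2
    rw [h2, finrank_bot] at hd
    omega
  have hv0 : v ≠ 0 := by
    rintro rfl
    exact hJx _ mem_PSL₁ h3 rfl
  have hφ0 : φ ≠ 0 := by
    rintro rfl
    exact hJx _ mem_PSL₂ h3' rfl
  have hZ : ∀ {e : V × Module.Dual F V} {J} {z}, J ∈ PSL F V → z ∈ R.map dbl → J e = e →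
      z e - e ∈ cm J W z := by
    intro e J z hJ hz he
    obtain ⟨e₀, he₀, w, hw, rfl⟩ := T.sum e
    have h1 : z (J e₀) = J e₀ := (T.fixm _).1 (T.psV J hJ _ he₀) z hz
    refine mem_cm.2 ⟨w, hw, ?_⟩
    conv_rhs => rw [← he]
    rw [map_add, map_add, h1]
    abel
  refine ⟨v, φ, hv0, hφ0, hN, fun r hr h1 h2 => ?_, fun z hz hz1 hmem => ?_, fun z hz hz1 hmem => ?_⟩
  · have h4 := hx.reg (dbl r) ⟨r, hr, rfl⟩ (dbl_fix h1 h2)
    apply dbl_inj
    ext1 y
    obtain ⟨e₀, he₀, w, hw, rfl⟩ := T.sum y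
    rw [map_add, (T.fixm _).1 he₀ _ ⟨r, hr, rfl⟩, h4 w hw]
    rfl
  · obtain ⟨u, hu⟩ := LinearMap.mem_range.1 hmem
    have hu' : z u - u = v := hu
    have h4 := hZ (e := (u, 0)) (J := J₁ F V) (z := dbl z) mem_PSL₁ ⟨z, hz, rfl⟩ rfl
    have h5 : dbl z (u, 0) - (u, 0) = J₁ F V (v, φ) := by
      rw [dbl_apply, J₁_apply, ← hu']
      refine Prod.ext rfl ?_
      simp
    rw [h5] at h4
    have hle : cm (J₁ F V) W (dbl z) ≤ (com z).map (LinearMap.inl F V (Module.Dual F V)) := by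
      intro y hy
      obtain ⟨w, _, rfl⟩ := mem_cm.1 hy
      refine ⟨z w.1 - w.1, ⟨w.1, rfl⟩, ?_⟩
      rw [J₁_apply, dbl_apply]
      refine Prod.ext rfl ?_
      simp
    have h6 := (Submodule.finrank_mono hle).trans (Submodule.finrank_map_le _ _)
    rcases hx.ss _ mem_PSL₁ _ ⟨z, hz, rfl⟩ h4 with h7 | h7
    · exact (h3.trans (Submodule.finrank_mono h7)).trans h6
    · exact h7.trans h6
  · obtain ⟨ψ, hψ⟩ := hmem
    have hzi : dbl z⁻¹ ∈ R.map dbl := ⟨z⁻¹, R.inv_mem hz, rfl⟩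
    have h4 := hZ (e := (0, ψ)) (J := J₂ F V) (z := dbl z⁻¹) mem_PSL₂ hzi rfl
    have h5 : dbl z⁻¹ (0, ψ) - (0, ψ) = J₂ F V (v, φ) := by
      rw [dbl_inv_snd, J₂_apply]
      congr 1
      ext y
      exact (hψ y).symm
    rw [h5] at h4
    let g : V →ₗ[F] V := (z : V →ₗ[F] V) - LinearMap.id
    have hle : cm (J₂ F V) W (dbl z⁻¹) ≤
        (LinearMap.range g.dualMap).map (LinearMap.inr F V (Module.Dual F V)) := by
      intro y hy
      obtain ⟨w, _, rfl⟩ := mem_cm.1 hy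
      rw [J₂_apply, dbl_inv_snd]
      exact ⟨_, ⟨w.2, rfl⟩, rfl⟩
    have h6 := (Submodule.finrank_mono hle).trans (Submodule.finrank_map_le _ _)
    rw [LinearMap.finrank_range_dualMap_eq_finrank_range] at h6
    rcases hx.ss _ mem_PSL₂ _ hzi h4 with h7 | h7
    · exact (h3'.trans (Submodule.finrank_mono h7)).trans h6
    · exact h7.trans h6

omit [Finite F] [Finite V] [Fact p.Prime] in
/-- finishing with non-zero fixed parts -/
theorem finL' {R : Subgroup (V ≃ₗ[F] V)} {V₀ W : Submodule F (V × Module.Dual F V)}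
    (T : Top (R.map dbl) (PSL F V) bet V₀ W) {v₀ w : V} {φ₀ φ : Module.Dual F V}
    (h1 : (v₀, 0) ∈ V₀) (h2 : (0, φ₀) ∈ V₀) (h3 : (w, 0) ∈ W) (h4 : (0, φ) ∈ W)
    (hv : v₀ ≠ 0) (hφ : φ₀ ≠ 0) (hN : φ₀ v₀ + φ w = 0)
    (hreg : ∀ r ∈ R, dbl r (w, φ) = (w, φ) → ∀ y ∈ W, dbl r y = y) : OutL R := by
  have hxV : (v₀, φ₀) ∈ V₀ := by
    have := V₀.add_mem h1 h2
    simpa using this
  have hxW : (w, φ) ∈ W := by
    have := W.add_mem h3 h4
    simpa using this
  have o1 : φ₀ w = 0 := by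
    have := (T.orth _ h2 _ h3).1
    simpa [bet] using this
  have o2 : φ v₀ = 0 := by
    have := (T.orth _ h1 _ h4).1
    simpa [bet] using this
  refine ⟨v₀ + w, φ₀ + φ, fun h0 => ?_, fun h0 => ?_, ?_, fun r hr h5 h6 => ?_,
    fun z hz hz1 hmem => ?_, fun z hz hz1 hmem => ?_⟩
  · have h5 : (v₀, (0 : Module.Dual F V)) = -(w, 0) := by
      refine Prod.ext (eq_neg_of_add_eq_zero_left h0) (by simp)
    exact hv (congrArg Prod.fst (T.dis _ h1 (h5 ▸ W.neg_mem h3)))
  · have h5 : ((0 : V), φ₀) = -(0, φ) := by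
      refine Prod.ext (by simp) (eq_neg_of_add_eq_zero_left h0)
    exact hφ (congrArg Prod.snd (T.dis _ h2 (h5 ▸ W.neg_mem h4)))
  · rw [LinearMap.add_apply, map_add, map_add, o1, o2]
    linear_combination hN
  · have h7 := dbl_fix h5 h6
    have h8 : ((v₀ + w, φ₀ + φ) : V × Module.Dual F V) = (v₀, φ₀) + (w, φ) := rfl
    rw [h8, map_add, (T.fixm _).1 hxV _ ⟨r, hr, rfl⟩] at h7
    have h9 := hreg r hr (add_left_cancel h7)
    apply dbl_inj
    ext1 y
    obtain ⟨e₀, he₀, w, hw, rfl⟩ := T.sum y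
    rw [map_add, (T.fixm _).1 he₀ _ ⟨r, hr, rfl⟩, h9 w hw]
    rfl
  · exfalso
    obtain ⟨u, hu⟩ := LinearMap.mem_range.1 hmem
    have hu' : z u - u = v₀ + w := hu
    have h5 := T.sb (dbl z) ⟨z, hz, rfl⟩ (u, 0)
    have h6 : dbl z (u, 0) - (u, 0) = (v₀, 0) + (w, 0) := by
      rw [dbl_apply]
      refine Prod.ext hu' ?_
      simp
    rw [h6] at h5
    exact hv (congrArg Prod.fst (T.dis _ h1 (by simpa using W.sub_mem h5 h3)))
  · exfalso
    obtain ⟨ψ, hψ⟩ := hmem
    have h5 := T.sb (dbl z⁻¹) ⟨z⁻¹, R.inv_mem hz, rfl⟩ (0, ψ)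
    have h6 : dbl z⁻¹ (0, ψ) - (0, ψ) = (0, φ₀) + (0, φ) := by
      rw [dbl_inv_snd]
      refine Prod.ext (by simp) ?_
      ext y
      exact (hψ y).symm
    rw [h6] at h5
    exact hφ (congrArg Prod.snd (T.dis _ h2 (by simpa using W.sub_mem h5 h4)))

omit [Finite F] [Finite V] [Fact p.Prime] in
theorem scalar_one {R : Subgroup (V ≃ₗ[F] V)} (hR : IsPGroup p R)
    (hA : ∀ a : F, (∃ k : ℕ, a ^ p ^ k = 1) → a = 1) {r : V ≃ₗ[F] V} (hr : r ∈ R) {v : V} (hv : v ≠ 0)
    {a : F} (ha : r v = a • v) : r v = v := by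
  obtain ⟨n, hn⟩ := hR ⟨r, hr⟩
  have hn' : r ^ p ^ n = 1 := by simpa using congrArg Subtype.val hn
  have hpow : ∀ m : ℕ, (r ^ m) v = a ^ m • v := by
    intro m
    induction m with
    | zero => simp
    | succ m ih => rw [pow_succ, LinearEquiv.mul_apply, ha, map_smul, ih, smul_smul, pow_succ']
  have h4 : a ^ p ^ n = 1 := by
    have h5 := hpow (p ^ n)
    rw [hn'] at h5
    have h6 : (a ^ p ^ n - 1) • v = 0 := by
      rw [sub_smul, one_smul, ← h5]; simp
    exact sub_eq_zero.1 ((smul_eq_zero.1 h6).resolve_right hv)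
  rw [ha, hA a ⟨n, h4⟩, one_smul]

omit [Finite F] [Finite V] [Fact p.Prime] in
theorem reg_twoL [FiniteDimensional F V] {R : Subgroup (V ≃ₗ[F] V)} (hR : IsPGroup p R)
    (hA : ∀ a : F, (∃ k : ℕ, a ^ p ^ k = 1) → a = 1)
    {W : Submodule F (V × Module.Dual F V)} (D : Nd W) (hinv : ∀ h ∈ R.map dbl, ∀ w ∈ W, h w ∈ W)
    (h2 : Module.finrank F (W.map (J₁ F V)) ≤ 2) {w : V} {φ : Module.Dual F V}
    (hw : (w, 0) ∈ W) (hwφ : φ w ≠ 0) {r : V ≃ₗ[F] V} (hr : r ∈ R)
    (hfix : dbl r (w, φ) = (w, φ)) : ∀ y ∈ W, dbl r y = y := by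
  have hrw : r w = w := congrArg Prod.fst hfix
  have hrφ : φ ∘ₗ ((r⁻¹ : V ≃ₗ[F] V) : V →ₗ[F] V) = φ := congrArg Prod.snd hfix
  have hrr : ∀ v, r⁻¹ (r v) = v := fun v => by
    rw [← LinearEquiv.mul_apply, inv_mul_cancel]; rfl
  have hφr : ∀ v, φ (r v) = φ v := fun v => by
    conv_lhs => rw [← hrφ]
    change φ (r⁻¹ (r v)) = φ v
    rw [hrr]
  have hrm : dbl r ∈ R.map dbl := ⟨r, hr, rfl⟩
  have hw0 : w ≠ 0 := by rintro rfl; exact hwφ (map_zero φ)
  have hd0 : ∀ u : V, dbl r (u, 0) = (r u, 0) := fun u => by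
    rw [dbl_apply]; exact Prod.ext rfl (by simp)
  have key : ∀ u : V, (u, (0 : Module.Dual F V)) ∈ W → r u = u := by
    intro u hu
    set u' := u - (φ u / φ w) • w with hu'
    have hu'W : (u', (0 : Module.Dual F V)) ∈ W := by
      have := W.sub_mem hu (W.smul_mem (φ u / φ w) hw)
      simpa [hu'] using this
    have hφu' : φ u' = 0 := by
      rw [hu', map_sub, map_smul, smul_eq_mul, div_mul_cancel₀ _ hwφ, sub_self]
    have huu : u = u' + (φ u / φ w) • w := by rw [hu']; abel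
    suffices hs : r u' = u' by
      rw [huu, map_add, map_smul, hrw, hs]
    by_cases hu'0 : u' = 0
    · rw [hu'0, map_zero]
    have hli : LinearIndependent F ![((w, 0) : V × Module.Dual F V), (u', 0)] := by
      rw [LinearIndependent.pair_iff]
      intro s t hst
      have h1 : s • w + t • u' = 0 := congrArg Prod.fst hst
      have h3 : φ (s • w + t • u') = 0 := by rw [h1, map_zero]
      rw [map_add, map_smul, map_smul, hφu', smul_zero, add_zero, smul_eq_mul] at h3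
      have hs : s = 0 := (mul_eq_zero.1 h3).resolve_right hwφ
      rw [hs, zero_smul, zero_add] at h1
      exact ⟨hs, (smul_eq_zero.1 h1).resolve_right hu'0⟩
    have hsp : Submodule.span F {((w, 0) : V × Module.Dual F V), (u', 0)} = W.map (J₁ F V) := by
      have hle : Submodule.span F {((w, 0) : V × Module.Dual F V), (u', 0)} ≤ W.map (J₁ F V) := by
        rw [Submodule.span_le]
        rintro x (rfl | rfl)
        · exact (D.mem_M w).2 hw
        · exact (D.mem_M u').2 hu'W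
      apply Submodule.eq_of_le_of_finrank_le hle
      have h3 := finrank_span_eq_card hli
      have hrg : Set.range ![((w, 0) : V × Module.Dual F V), (u', 0)] = {(w, 0), (u', 0)} :=
        Matrix.range_cons_cons_empty _ _ _
      rw [hrg, Fintype.card_fin] at h3
      rw [h3]; exact h2
    have h4 : (r u', (0 : Module.Dual F V)) ∈ Submodule.span F {((w, 0) : V × Module.Dual F V), (u', 0)} := by
      rw [hsp, D.mem_M, ← hd0]
      exact hinv _ hrm _ hu'W
    rw [Submodule.mem_span_pair] at h4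
    obtain ⟨s, t, hst⟩ := h4
    have h5 : s • w + t • u' = r u' := congrArg Prod.fst hst
    have h6 : φ (r u') = 0 := by rw [hφr, hφu']
    rw [← h5, map_add, map_smul, map_smul, hφu', smul_zero, add_zero, smul_eq_mul] at h6
    have hs : s = 0 := (mul_eq_zero.1 h6).resolve_right hwφ
    rw [hs, zero_smul, zero_add] at h5
    exact scalar_one hR hA hr hu'0 h5.symm
  rintro ⟨u, ψ⟩ hy
  have hu := D.ps _ mem_PSL₁ _ hy
  have hψ := D.ps _ mem_PSL₂ _ hy
  rw [J₁_apply] at hu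
  rw [J₂_apply] at hψ
  have h7 : dbl r ((0 : V), ψ) - (0, ψ) = 0 := by
    refine D.nd _ (W.sub_mem (hinv _ hrm _ hψ) hψ) ?_
    rintro ⟨x, χ⟩ hx
    have hx1 := D.ps _ mem_PSL₁ _ hx
    have hrx : r x = x := key x hx1
    have hrx' : r⁻¹ x = x := by
      conv_lhs => rw [← hrx]
      exact hrr x
    rw [dbl_apply]
    simp only [bet, Prod.fst_sub, Prod.snd_sub, map_zero, sub_self, add_zero, LinearMap.sub_apply,
      LinearMap.comp_apply, LinearEquiv.coe_coe, hrx']
  have h8 : ((u, ψ) : V × Module.Dual F V) = (u, 0) + (0, ψ) := by simp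
  rw [h8, map_add, hd0, key u hu, sub_eq_zero.1 h7]

omit [Fact p.Prime] [Finite F] [Finite V] in
theorem hdimL [FiniteDimensional F V] {R : Subgroup (V ≃ₗ[F] V)} (hR : IsPGroup p R)
    (hA : ∀ a : F, (∃ k : ℕ, a ^ p ^ k = 1) → a = 1)
    {H : Subgroup ((V × Module.Dual F V) ≃ₗ[F] (V × Module.Dual F V))}
    {W : Submodule F (V × Module.Dual F V)} (A0 : Adm (R.map dbl) (PSL F V) bet H W) :
    2 ≤ Module.finrank F (W.map (J₁ F V)) := by
  by_contra hlt
  have h1 : Module.finrank F (W.map (J₁ F V)) ≤ 1 := by omega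
  have D : Nd W := ⟨A0.ps, A0.nd⟩
  obtain ⟨w, φ, hw, hφ, hwφ⟩ := D.pair A0.ne
  have hw0 : w ≠ 0 := by rintro rfl; exact hwφ (map_zero φ)
  have hsp : ∀ u, (u, (0 : Module.Dual F V)) ∈ W → ∃ a : F, a • w = u := by
    intro u hu
    obtain ⟨v, hv⟩ := gen_one (W.map (J₁ F V)) h1
    obtain ⟨c, hc⟩ := hv _ ((D.mem_M w).2 hw)
    obtain ⟨d, hd⟩ := hv _ ((D.mem_M u).2 hu)
    have hc' : c • v.1 = w := congrArg Prod.fst hc
    have hd' : d • v.1 = u := congrArg Prod.fst hd
    have hc0 : c ≠ 0 := by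
      rintro rfl
      rw [zero_smul] at hc'
      exact hw0 hc'.symm
    exact ⟨d * c⁻¹, by rw [← hc', smul_smul, mul_assoc, inv_mul_cancel₀ hc0, mul_one, hd']⟩
  have h2 := A0.fix _ hw fun h hh => ?_
  · exact hw0 (congrArg Prod.fst h2)
  · obtain ⟨r, hr, rfl⟩ := A0.le hh
    have hd0 : dbl r (w, 0) = (r w, 0) := by
      rw [dbl_apply]; exact Prod.ext rfl (by simp)
    have h3 := A0.inv _ hh _ hw
    rw [hd0] at h3
    obtain ⟨a, ha⟩ := hsp _ h3
    rw [hd0, scalar_one hR hA hr hw0 ha.symm]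

/-- **RegSL.** -/
theorem regSL (p : ℕ) [Fact p.Prime] (hp : 5 ≤ p) (F : Type*) [Field F] [Finite F] (V : Type*)
    [AddCommGroup V] [Module F V] [Finite V] (hpF : (p : F) ≠ 0) (hV : 3 ≤ Module.finrank F V) :
    RegSL p F V := by
  classical
  intro R hR hsc
  change OutL R
  have C := ctxL hp hpF hR
  obtain ⟨V₀, W, T⟩ := exists_top C ndL
  have D := T.nd₁ rfl
  have Dt : Nd (⊤ : Submodule F (V × Module.Dual F V)) :=
    ⟨fun _ _ _ _ => trivial, fun x _ h => ndL x fun y => h y trivial⟩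
  have htop : 3 ≤ Module.finrank F ((⊤ : Submodule F (V × Module.Dual F V)).map (J₁ F V)) := by
    let g : V →ₗ[F] (⊤ : Submodule F (V × Module.Dual F V)).map (J₁ F V) :=
      LinearMap.codRestrict _ (LinearMap.inl F V (Module.Dual F V)) (fun v => ⟨(v, 0), trivial, rfl⟩)
    have hg : Function.Injective g := fun v w h => congrArg Prod.fst (congrArg Subtype.val h)
    exact hV.trans (LinearMap.finrank_le_finrank_of_injective (R := F) (M := V)
      (M' := (⊤ : Submodule F (V × Module.Dual F V)).map (J₁ F V)) hg)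
  by_cases hA : ∀ a : F, (∃ k : ℕ, a ^ p ^ k = 1) → a = 1
  · by_cases hW : W = ⊥
    · obtain ⟨v, φ, -, -, h0, hv, hφ⟩ := Dt.pair_zero (by omega)
      have h1 : ∀ r ∈ R, r = 1 := fun r hr => dbl_inj (T.eq_one_of_bot hW _ ⟨r, hr, rfl⟩)
      exact ⟨v, φ, hv, hφ, h0, fun r hr _ _ => h1 r hr, fun z hz hz1 => absurd (h1 z hz) hz1,
        fun z hz hz1 => absurd (h1 z hz) hz1⟩
    · have A0 := T.adm hW
      by_cases h3 : 3 ≤ Module.finrank F (W.map (J₁ F V))
      · obtain ⟨x, -, hx, -, hN, -, -⟩ := two_labels C (fun H W Bs => by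
          have D : Nd W := ⟨Bs.ps, Bs.nd⟩
          have h2 := hdimL hR hA Bs.toAdm
          obtain ⟨v₁, φ, hv₁, hφ, hφv, hv₁0, hφ0⟩ := D.pair_val Bs.ne (one_ne_zero (α := F))
          have h6 : 6 ≤ Nat.card (W.map (J₁ F V)) := by
            refine card_ge' C Bs.toAdm D.M_le ?_ ?_
            · intro hb
              rw [hb, finrank_bot] at h2
              omega
            · rintro h hh _ ⟨x, hx, rfl⟩
              refine ⟨h x, Bs.inv h hh x hx, ?_⟩
              exact C.comm _ mem_PSL₁ h (Bs.le hh) x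
          have h9 : 3 * Nat.card F ≤ Nat.card (W.map (J₁ F V)) := by
            have h7 : 1 < Nat.card F := Finite.one_lt_card
            by_cases h8 : Nat.card F = 2
            · omega
            · rw [Module.natCard_eq_pow_finrank (K := F) (V := W.map (J₁ F V))]
              calc 3 * Nat.card F ≤ Nat.card F * Nat.card F := Nat.mul_le_mul_right _ (by omega)
                _ = Nat.card F ^ 2 := (pow_two _).symm
                _ ≤ _ := Nat.pow_le_pow_right (by omega) h2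
          obtain ⟨x, y, hx, hy, hx0, hy0, hxy, hfx, hfy⟩ := gen_two (W.map (J₁ F V))
            (φ ∘ₗ LinearMap.fst F V (Module.Dual F V)) h9
          have hform : ∀ x ∈ W.map (J₁ F V), x = (x.1, 0) ∧ (x.1, (0 : Module.Dual F V)) ∈ W := by
            rintro _ ⟨x', hx', rfl⟩
            exact ⟨rfl, D.ps _ mem_PSL₁ _ hx'⟩
          obtain ⟨hxe, huW⟩ := hform x hx
          obtain ⟨hye, hu'W⟩ := hform y hy
          set u := x.1 with hu
          set u' := y.1 with hu'
          have hφu : φ u = 0 := hfx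
          have hφu' : φ u' = 0 := hfy
          have hu0 : u ≠ 0 := fun h => hx0 (by rw [hxe, h]; rfl)
          have hu'0 : u' ≠ 0 := fun h => hy0 (by rw [hye, h]; rfl)
          have huu' : u ≠ u' := fun h => hxy (by rw [hxe, hye, h])
          refine ⟨(u, φ), (u', φ), ?_, ?_, ?_, ?_, ?_, hφu, hφu', ?_⟩
          · simpa using W.add_mem huW hφ
          · simpa using W.add_mem hu'W hφ
          · exact fun h => hu0 (congrArg Prod.fst h)
          · exact fun h => hu'0 (congrArg Prod.fst h)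
          · rintro J (rfl | rfl)
            · exact ⟨fun h => hu0 (congrArg Prod.fst h), fun h => hu'0 (congrArg Prod.fst h)⟩
            · exact ⟨fun h => hφ0 (congrArg Prod.snd h), fun h => hφ0 (congrArg Prod.snd h)⟩
          · intro h hh he
            obtain ⟨r, hr, rfl⟩ := Bs.le hh
            have h18 : dbl r ((0 : V), φ) = (0, φ) := by
              have h19 := congrArg Prod.snd he
              rw [dbl_apply] at h19 ⊢
              exact Prod.ext (map_zero r) h19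
            have h20 := Bs.fpf _ hh _ hφ (fun h => hφ0 (congrArg Prod.snd h)) h18 _ huW
            have h21 : r u = u := congrArg Prod.fst h20
            have h22 : r u = u' := congrArg Prod.fst he
            exact huu' (h21.symm.trans h22)) _ W A0
        exact finL T hx hN h3
      · have hV0 : V₀ ≠ ⊥ := by
          intro hV0
          apply h3
          have hWt : W = ⊤ := by
            rw [eq_top_iff]
            intro y _
            obtain ⟨v, hv, w, hw, rfl⟩ := T.sum y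
            rw [hV0, Submodule.mem_bot] at hv
            rw [hv, zero_add]; exact hw
          rw [hWt]; exact htop
        obtain ⟨v₀, φ₀, h1, h2, hN0, hv0, hφ0⟩ := (T.nd₀ rfl).pair_val hV0 (neg_ne_zero.2 (one_ne_zero (α := F)))
        obtain ⟨w, φ, h4, h5, hN, hw0, hφ⟩ := D.pair_val hW (one_ne_zero (α := F))
        exact finL' T h1 h2 h4 h5 hv0 hφ0 (by rw [hN0, hN]; ring) fun r hr hfix =>
          reg_twoL hR hA D T.inv (by omega) h4 (by rw [hN]; exact one_ne_zero) hr hfix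
  · push Not at hA
    obtain ⟨a, ⟨k, hk⟩, ha1⟩ := hA
    have ha0 : a ≠ 0 := by
      rintro rfl
      rw [zero_pow (pow_ne_zero _ (Fact.out : p.Prime).pos.ne')] at hk
      exact zero_ne_one hk
    have hmem := hsc (Units.mk0 a ha0) ⟨k, Units.ext (by simpa using hk)⟩
    have hVb : V₀ = ⊥ := by
      rw [Submodule.eq_bot_iff]
      rintro ⟨v, φ⟩ hv
      have h1 := (T.fixm _).1 hv _ ⟨_, hmem, rfl⟩
      have h2 : a • v = v := congrArg Prod.fst h1
      have h3 : (a - 1) • v = 0 := by rw [sub_smul, one_smul, h2, sub_self]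
      have hv0 := (smul_eq_zero.1 h3).resolve_left (sub_ne_zero.2 ha1)
      refine Prod.ext hv0 ?_
      ext y
      have h4 : φ ∘ₗ (((LinearEquiv.smulOfUnit (Units.mk0 a ha0))⁻¹ : V ≃ₗ[F] V) : V →ₗ[F] V) = φ :=
        congrArg Prod.snd h1
      have h5 := LinearMap.congr_fun h4 (a • y)
      have h6 : ((LinearEquiv.smulOfUnit (Units.mk0 a ha0))⁻¹ : V ≃ₗ[F] V) (a • y) = y := by
        have h7 : a • y = (LinearEquiv.smulOfUnit (Units.mk0 a ha0) : V ≃ₗ[F] V) y := rfl
        rw [h7, ← LinearEquiv.mul_apply, inv_mul_cancel]; rfl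
      rw [LinearMap.comp_apply, LinearEquiv.coe_coe, h6, map_smul, smul_eq_mul] at h5
      have h8 : (a - 1) * φ y = 0 := by linear_combination -h5
      exact (mul_eq_zero.1 h8).resolve_left (sub_ne_zero.2 ha1)
    have hWt : W = ⊤ := by
      rw [eq_top_iff]
      intro y _
      obtain ⟨v, hv, w, hw, rfl⟩ := T.sum y
      rw [hVb, Submodule.mem_bot] at hv
      rw [hv, zero_add]; exact hw
    have h3 : 3 ≤ Module.finrank F (W.map (J₁ F V)) := by rw [hWt]; exact htop
    have hWb : W ≠ ⊥ := by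
      rintro rfl
      rw [Submodule.map_bot, finrank_bot] at h3
      omega
    have A0 := T.adm hWb
    have hKc : 4 ≤ Nat.card (⊤ : AddSubgroup F) := by
      have h4 : orderOf (Units.mk0 a ha0) ∣ p ^ k :=
        orderOf_dvd_of_pow_eq_one (Units.ext (by simpa using hk))
      have h5 : 5 ≤ orderOf (Units.mk0 a ha0) := by
        obtain ⟨j, -, hj⟩ := (Nat.dvd_prime_pow (Fact.out : p.Prime)).1 h4
        rcases Nat.eq_zero_or_pos j with rfl | hj0
        · exfalso
          rw [pow_zero, orderOf_eq_one_iff] at hj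
          exact ha1 (congrArg Units.val hj)
        · rw [hj]
          exact hp.trans (Nat.le_self_pow hj0.ne' p)
      have h6 : orderOf (Units.mk0 a ha0) ≤ Nat.card Fˣ := orderOf_le_card
      have h7 : Nat.card Fˣ ≤ Nat.card F := Nat.card_le_card_of_injective _ Units.val_injective
      have h8 : Nat.card (⊤ : AddSubgroup F) = Nat.card F := Nat.card_congr AddSubgroup.topEquiv.toEquiv
      omega
    obtain ⟨x, hx, hN⟩ := top_zero C ⊤ hKc (fun H W Bs c _ hc0 => by
      have D : Nd W := ⟨Bs.ps, Bs.nd⟩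
      obtain ⟨w, φ, h4, h5, hN, hw0, hφ⟩ := D.pair_val Bs.ne hc0
      refine ⟨(w, φ), ?_, fun h => hw0 (congrArg Prod.fst h), ?_, hN⟩
      · simpa using W.add_mem h4 h5
      · rintro J (rfl | rfl)
        · exact fun h => hw0 (congrArg Prod.fst h)
        · exact fun h => hφ (congrArg Prod.snd h)) A0 (fun _ => by
      obtain ⟨w, φ, h4, h5, hN, hw0, hφ⟩ := D.pair_zero (by omega)
      refine ⟨(w, φ), ?_, fun h => hw0 (congrArg Prod.fst h), ?_, hN⟩
      · simpa using W.add_mem h4 h5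
      · rintro J (rfl | rfl)
        · exact fun h => hw0 (congrArg Prod.fst h)
        · exact fun h => hφ (congrArg Prod.snd h))
    exact finL T hx hN h3

end lin

end Cfsg.Agent.H903.SylReg
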