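/-
helper903: regular vectors, orthogonal case (S5762).
-/
import Mathlib
import Cfsg.Agent.H903.SylRegSp

set_option autoImplicit false

namespace Cfsg.Agent.H903.SylReg

open Finset

variable {F : Type*} [Field F] {E : Type*} [AddCommGroup E] [Module F E]

/-- A non-degenerate quadratic form on a space with at least five vectors takes two values on the non-zero vectors. -/
theorem two_values (Q : QuadraticForm F E) (W : Submodule F E) (hW : W ≠ ⊥)
    (hnd : ∀ x ∈ W, (∀ y ∈ W, QuadraticMap.polar Q x y = 0) → x = 0) (h5 : 5 ≤ Nat.card W) :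
    ∃ x y, x ∈ W ∧ y ∈ W ∧ x ≠ 0 ∧ y ≠ 0 ∧ Q x ≠ Q y := by
  classical
  by_contra hcon
  push Not at hcon
  haveI : Finite W := Nat.finite_of_card_ne_zero (by omega)
  haveI := Fintype.ofFinite W
  rw [Nat.card_eq_fintype_card] at h5
  have hpick : ∀ S : Finset W, S.card ≤ 4 → ∃ x : W, x ∉ S := by
    intro S hS
    by_contra hc
    push Not at hc
    have : S = Finset.univ := Finset.eq_univ_of_forall hc
    rw [this, Finset.card_univ] at hS
    omega
  obtain ⟨x, hx⟩ := hpick {0} (by simp)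
  obtain ⟨y, hy⟩ := hpick {0, -x} (by exact Finset.card_le_two.trans (by norm_num))
  obtain ⟨z, hz⟩ := hpick {0, -x, -y, -x - y} Finset.card_le_four
  simp only [Finset.mem_insert, Finset.mem_singleton, not_or] at hx hy hz
  set c := Q x with hc
  have hQ : ∀ u : W, u ≠ 0 → Q u = c := fun u hu =>
    hcon u x u.2 x.2 (fun h => hu (Subtype.ext h)) (fun h => hx (Subtype.ext h))
  have hP : ∀ u v : W, u ≠ 0 → v ≠ 0 → u + v ≠ 0 → QuadraticMap.polar Q (u : E) v = -c := by
    intro u v hu hv huv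
    have h1 := hQ _ huv
    rw [Submodule.coe_add] at h1
    rw [QuadraticMap.polar, h1, hQ u hu, hQ v hv]
    ring
  have h1 := hP x y hx hy.1 (fun h => hy.2 (eq_neg_of_add_eq_zero_right h))
  have h2 := hP x z hx hz.1 (fun h => hz.2.1 (eq_neg_of_add_eq_zero_right h))
  have h3 := hP x (y + z) hx (fun h => hz.2.2.1 (eq_neg_of_add_eq_zero_right h)) (fun h => hz.2.2.2 (by
    rw [← add_assoc] at h
    rw [eq_neg_of_add_eq_zero_right h]; abel))
  rw [Submodule.coe_add, QuadraticMap.polar_add_right, h1, h2] at h3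
  have hc0 : c = 0 := by
    have h4 : -c = 0 := by
      have := left_eq_add.1 h3.symm
      exact this
    exact neg_eq_zero.1 h4
  have hQ0 : ∀ u : W, Q u = 0 := by
    intro u
    by_cases hu : u = 0
    · rw [hu]; simp
    · rw [hQ u hu, hc0]
  apply hW
  rw [Submodule.eq_bot_iff]
  intro u hu
  refine hnd u hu fun v hv => ?_
  have e1 := hQ0 ⟨u, hu⟩
  have e2 := hQ0 ⟨v, hv⟩
  have e3 := hQ0 ⟨u + v, W.add_mem hu hv⟩
  simp only at e1 e2 e3
  rw [QuadraticMap.polar, e1, e2, e3]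
  ring

/-- **RegO.** -/
theorem regO (p : ℕ) [Fact p.Prime] (hp : 5 ≤ p) (F : Type*) [Field F] (E : Type*) [AddCommGroup E]
    [Module F E] [Finite E] (hpF : (p : F) ≠ 0) (hE : 3 ≤ Module.finrank F E) : RegO p F E := by
  intro Q hnd R hR hRQ
  have hRP : ∀ h ∈ R, ∀ x y, QuadraticMap.polar Q (h x) (h y) = QuadraticMap.polar Q x y := by
    intro h hh x y
    rw [QuadraticMap.polar, QuadraticMap.polar, ← map_add, hRQ h hh, hRQ h hh, hRQ h hh]
  have C : Ctx p R {LinearMap.id} (fun x y => QuadraticMap.polar Q x y) Q :=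
    { pF := hpF
      five := hp
      pg := hR
      comm := by rintro J rfl h _ x; rfl
      βl := fun x y z => QuadraticMap.polar_add_left Q x y z
      βr := fun x y z => QuadraticMap.polar_add_right Q x y z
      βG := hRP
      NG := hRQ
      Nadd := fun x y h _ => by
        simp only [QuadraticMap.polar] at h
        rw [sub_sub, sub_eq_zero] at h
        exact h }
  have hQne : ∃ v, Q v ≠ 0 := by
    by_contra hcon
    push Not at hcon
    obtain ⟨v, hv⟩ := exists_ne_zero_of_finrank hE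
    exact hv (hnd v fun y => by simp [QuadraticMap.polar, hcon])
  obtain ⟨V₀, W, T⟩ := exists_top C hnd
  by_cases hW : W = ⊥
  · obtain ⟨v, hv⟩ := hQne
    have h1 := T.eq_one_of_bot hW
    exact ⟨v, hv, fun h hh _ => h1 h hh, fun z hz hz1 => absurd (h1 z hz) hz1⟩
  · have A0 := T.adm hW
    obtain ⟨x, y, hx, hy, hxy⟩ := two_norms C (fun H W Bs => by
      obtain ⟨x, y, hx, hy, hx0, hy0, hc⟩ := two_values Q W Bs.ne Bs.nd
        ((by norm_num : 5 ≤ 6).trans (card_ge C Bs.toAdm))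
      refine ⟨x, y, hx, hy, hx0, hy0, ?_, hc⟩
      rintro J rfl
      exact ⟨hx0, hy0⟩) R W A0
    -- choose `v₀`
    obtain ⟨v₀, hv₀, hv⟩ : ∃ v₀ ∈ V₀, v₀ ≠ 0 ∨ 3 ≤ Module.finrank F W := by
      by_cases hV : V₀ = ⊥
      · have hWt : W = ⊤ := by
          rw [eq_top_iff]
          intro y _
          obtain ⟨v, hv, w, hw, rfl⟩ := T.sum y
          rw [hV, Submodule.mem_bot] at hv
          rw [hv, zero_add]; exact hw
        exact ⟨0, V₀.zero_mem, Or.inr (by rw [hWt, finrank_top]; exact hE)⟩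
      · obtain ⟨v₀, hv₀, hv0⟩ := (Submodule.ne_bot_iff _).1 hV
        exact ⟨v₀, hv₀, Or.inl hv0⟩
    have hN : ∀ u ∈ W, Q (v₀ + u) = Q v₀ + Q u := fun u hu =>
      C.Nadd _ _ (T.orth v₀ hv₀ u hu).1 (T.orth v₀ hv₀ u hu).2
    by_cases hQx : Q (v₀ + x) = 0
    · refine ⟨v₀ + y, fun h => hxy ?_, T.reg_of hv₀ hy.reg, T.avoid_of_good hv₀ hy rfl hv⟩
      rw [hN _ hx.mem] at hQx
      rw [hN _ hy.mem] at h
      exact add_left_cancel (hQx.trans h.symm)
    · exact ⟨v₀ + x, hQx, T.reg_of hv₀ hx.reg, T.avoid_of_good hv₀ hx rfl hv⟩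

end Cfsg.Agent.H903.SylReg
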