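/-
helper903: regular vectors, symplectic and orthogonal cases, all odd p (S2484).
-/
import Mathlib
import Cfsg.Agent.H903.SylRegTB
import Cfsg.Agent.H903.SylRegO

set_option autoImplicit false

namespace Cfsg.Agent.H903.SylRegT

open Finset
open Cfsg.Agent.H903.SylReg (com Avoid AvoidDual RegSp RegO two_values exists_ne_zero_of_finrank)

variable {F : Type*} [Field F] {E : Type*} [AddCommGroup E] [Module F E] [Finite E]

section sp

variable {p : ℕ} [Fact p.Prime] {G : Subgroup (E ≃ₗ[F] E)} {N : E → F}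
  {H : Subgroup (E ≃ₗ[F] E)} {W : Submodule F E}

/-- Base case, symplectic: not all non-zero vectors are conjugate. -/
theorem base_sp {PS : Set (E →ₗ[F] E)} (hF : ∃ a : F, a ≠ 0 ∧ a ≠ 1) (B : E →ₗ[F] E →ₗ[F] F) (halt : ∀ x, B x x = 0)
    (C : Ctx p G PS (fun x y => B x y) N) (Bs : Base G PS (fun x y => B x y) H W) :
    ∃ x y, x ∈ W ∧ y ∈ W ∧ x ≠ 0 ∧ y ≠ 0 ∧ ∀ h ∈ H, h x ≠ y := by
  classical
  by_contra hcon
  push Not at hcon
  have hsk : ∀ x y, B y x = - B x y := by
    intro x y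
    have h1 := halt (x + y)
    simp only [map_add, LinearMap.add_apply, halt, zero_add, add_zero] at h1
    exact eq_neg_of_add_eq_zero_left h1
  obtain ⟨w, hw, hw0⟩ := (Submodule.ne_bot_iff _).1 Bs.ne
  have hBG : ∀ h ∈ H, ∀ x y, B (h x) (h y) = B x y := fun h hh => C.βG h (Bs.le hh)
  have claim : ∀ u ∈ W, u ≠ 0 → B w u = 0 → u = w := by
    intro u hu hu0 hB
    obtain ⟨k, hk, hkw⟩ := hcon w u hw hu hw0 hu0
    have h1 : ∀ v ∈ W, B v (k v) = 0 := by
      intro v hv
      by_cases hv0 : v = 0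
      · rw [hv0, map_zero]; rfl
      · obtain ⟨h, hh, rfl⟩ := hcon w v hw hv hw0 hv0
        rw [Bs.ab k hk h hh w hw, hBG h hh, hkw, hB]
    have hki : ∀ v ∈ W, k⁻¹ v ∈ W := fun v hv => Bs.inv _ (H.inv_mem hk) v hv
    have hkk : ∀ v, k (k⁻¹ v) = v := fun v => by
      rw [← LinearEquiv.mul_apply, mul_inv_cancel]; rfl
    have h2 : ∀ v ∈ W, k v = k⁻¹ v := by
      intro v hv
      rw [← sub_eq_zero]
      refine Bs.nd _ (W.sub_mem (Bs.inv k hk v hv) (hki v hv)) fun x hx => ?_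
      have h3 := h1 (x + v) (W.add_mem hx hv)
      simp only [map_add, LinearMap.add_apply, h1 x hx, h1 v hv, zero_add, add_zero] at h3
      have h4 : B (k x) v = B x (k⁻¹ v) := by
        conv_lhs => rw [← hkk v]
        exact hBG k hk _ _
      rw [hsk x, map_sub, ← h4, hsk v (k x)]
      rw [add_comm] at h3
      rw [sub_neg_eq_add, h3, neg_zero]
    have h2' : ∀ v ∈ W, (k ^ 2) v = v := by
      intro v hv
      rw [pow_two, LinearEquiv.mul_apply, h2 v hv, hkk]
    have h5 : ∀ m : ℕ, ∀ v ∈ W, (k ^ (2 * m)) v = v := by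
      intro m
      induction m with
      | zero => intro v _; rfl
      | succ m ih =>
        intro v hv
        rw [Nat.mul_succ, pow_add, LinearEquiv.mul_apply, h2' v hv, ih v hv]
    obtain ⟨n, hn⟩ := C.pg ⟨k, Bs.le hk⟩
    have hn' : k ^ p ^ n = 1 := by simpa using congrArg Subtype.val hn
    have hodd : Odd (p ^ n) := by
      apply Odd.pow
      rcases (Fact.out : p.Prime).eq_two_or_odd' with h | h
      · have := C.five; omega
      · exact h
    obtain ⟨m, hm⟩ := hodd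
    have h6 : (k ^ p ^ n) w = k w := by
      rw [hm, pow_succ', LinearEquiv.mul_apply, h5 m w hw]
    rw [hn', hkw] at h6
    exact h6.symm
  obtain ⟨a, ha, ha1⟩ := hF
  have h1 := claim (a • w) (W.smul_mem a hw) (smul_ne_zero ha hw0) (by
    rw [map_smul, halt, smul_zero])
  have h2 : (a - 1) • w = 0 := by rw [sub_smul, one_smul, h1, sub_self]
  exact ha1 (sub_eq_zero.1 ((smul_eq_zero.1 h2).resolve_right hw0))

end sp

theorem bot_id {W : Submodule F E} (hW : W ≠ ⊥) : ∀ J ∈ ({LinearMap.id} : Set (E →ₗ[F] E)), W.map J ≠ ⊥ := by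
  rintro J rfl
  rw [Submodule.map_id]
  exact hW

theorem top_of_bot {p : ℕ} {G : Subgroup (E ≃ₗ[F] E)} {PS : Set (E →ₗ[F] E)} {β : E → E → F}
    {V₀ W : Submodule F E} (T : Top G PS β V₀ W) (h : V₀ = ⊥) : W = ⊤ := by
  rw [eq_top_iff]
  intro y _
  obtain ⟨v, hv, w, hw, rfl⟩ := T.sum y
  rw [h, Submodule.mem_bot] at hv
  rw [hv, zero_add]; exact hw

theorem Good.ne_zero {p : ℕ} {t : ℕ} {G : Subgroup (E ≃ₗ[F] E)} {PS : Set (E →ₗ[F] E)} {β : E → E → F}
    {W : Submodule F E} {x : E} (hx : Good t PS G W x) (A0 : Adm G PS β G W) : x ≠ 0 := by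
  rintro rfl
  obtain ⟨w, hw, hw0⟩ := (Submodule.ne_bot_iff _).1 A0.ne
  exact hw0 (A0.fix w hw fun h hh => hx.reg h hh (map_zero h) w hw)

/-- **RegSp** for all odd `p`, `|F| > 2`, dimension at least four. -/
theorem regSp (p : ℕ) [Fact p.Prime] (hp : 3 ≤ p) (F : Type*) [Field F] (hF : ∃ a : F, a ≠ 0 ∧ a ≠ 1)
    (E : Type*) [AddCommGroup E] [Module F E] [Finite E] (hpF : (p : F) ≠ 0)
    (hE : 4 ≤ Module.finrank F E) : RegSp p F E := by
  intro B halt hnd R hR hRB
  have C : Ctx p R {LinearMap.id} (fun x y => B x y) (fun _ => (0 : F)) :=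
    { pF := hpF
      five := hp
      pg := hR
      comm := by rintro J rfl h _ x; rfl
      βl := fun x y z => by simp
      βr := fun x y z => by simp
      βG := hRB
      NG := fun _ _ _ => rfl
      Nadd := fun _ _ _ _ => by simp }
  have hbase : ∀ (H : Subgroup (E ≃ₗ[F] E)) (W : Submodule F E),
      Base R {LinearMap.id} (fun x y => B x y) H W → ∃ x y, x ∈ W ∧ y ∈ W ∧ x ≠ 0 ∧ y ≠ 0 ∧
      (∀ J ∈ ({LinearMap.id} : Set (E →ₗ[F] E)), J x ≠ 0 ∧ J y ≠ 0) ∧
        (fun _ => (0 : F)) x = 0 ∧ (fun _ => (0 : F)) y = 0 ∧ ∀ h ∈ H, h x ≠ y := by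
    intro H W Bs
    obtain ⟨x, y, hx, hy, hx0, hy0, hc⟩ := base_sp hF B halt C Bs
    refine ⟨x, y, hx, hy, hx0, hy0, ?_, rfl, rfl, hc⟩
    rintro J rfl
    exact ⟨hx0, hy0⟩
  obtain ⟨V₀, W, T⟩ := exists_top C hnd
  by_cases hW : W = ⊥
  · obtain ⟨v, hv⟩ := exists_ne_zero_of_finrank (F := F) (E := E) (by omega)
    have h1 := T.eq_one_of_bot hW
    exact ⟨v, hv, fun h hh _ => h1 h hh, fun z hz hz1 => absurd (h1 z hz) hz1⟩
  · have A0 := T.adm hW
    by_cases hV : V₀ = ⊥
    · have hWt := top_of_bot (p := p) T hV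
      obtain ⟨x, hx, -⟩ := top_labels3 C (fun H W A => bot_id A.ne) hbase A0 (Or.inr (by
        rintro J rfl
        rw [Submodule.map_id, hWt, finrank_top]; exact hE))
      have h3 : 3 ≤ Module.finrank F W := by rw [hWt, finrank_top]; omega
      refine ⟨0 + x, by rw [zero_add]; exact hx.ne_zero (p := p) A0, T.reg_of V₀.zero_mem hx.reg,
        T.avoid_of_good V₀.zero_mem hx rfl (Or.inr h3)⟩
    · obtain ⟨x, -, hx, -⟩ := two_labels C hbase R W A0
      obtain ⟨v₀, hv₀, hv0⟩ := (Submodule.ne_bot_iff _).1 hV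
      refine ⟨v₀ + x, ?_, T.reg_of hv₀ hx.reg, T.avoid_of_ne hv₀ hv0 hx.mem⟩
      intro h
      apply hv0
      apply T.dis v₀ hv₀
      rw [eq_neg_of_add_eq_zero_left h]
      exact W.neg_mem hx.mem

/-- **RegO** for all odd `p`, `|F| ≥ 4`, dimension at least four. -/
theorem regO (p : ℕ) [Fact p.Prime] (hp : 3 ≤ p) (F : Type*) [Field F] [Finite F] (hF : 4 ≤ Nat.card F)
    (E : Type*) [AddCommGroup E]
    [Module F E] [Finite E] (hpF : (p : F) ≠ 0) (hE : 4 ≤ Module.finrank F E) : RegO p F E := by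
  intro Q hnd R hR hRQ
  have hRP : ∀ h ∈ R, ∀ x y, QuadraticMap.polar Q (h x) (h y) = QuadraticMap.polar Q x y := by
    intro h hh x y
    rw [QuadraticMap.polar, QuadraticMap.polar, ← map_add, hRQ h hh, hRQ h hh, hRQ h hh]
  have C : Ctx p R {LinearMap.id} (fun x y => QuadraticMap.polar Q x y) Q :=
    { pF := hpF
      five := hp
      pg := hR
      comm := by rintro J rfl h _ x; rfl
      βl := fun x y z => QuadraticMap.polar_add_left Q x y z
      βr := fun x y z => QuadraticMap.polar_add_right Q x y z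
      βG := hRP
      NG := hRQ
      Nadd := fun x y h _ => by
        simp only [QuadraticMap.polar] at h
        rw [sub_sub, sub_eq_zero] at h
        exact h }
  have hQne : ∃ v, Q v ≠ 0 := by
    by_contra hcon
    push Not at hcon
    obtain ⟨v, hv⟩ := exists_ne_zero_of_finrank (F := F) (E := E) (by omega)
    exact hv (hnd v fun y => by simp [QuadraticMap.polar, hcon])
  -- admissible spaces have at least five elements
  have hcard : ∀ (H : Subgroup (E ≃ₗ[F] E)) (W : Submodule F E),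
      Adm R {LinearMap.id} (fun x y => QuadraticMap.polar Q x y) H W → 5 ≤ Nat.card W := by
    intro H W A0
    rw [Module.natCard_eq_pow_finrank (K := F) (V := W)]
    have hd : 0 < Module.finrank F W := by
      rcases Nat.eq_zero_or_pos (Module.finrank F W) with h0 | h0
      · exact absurd (Submodule.finrank_eq_zero.1 h0) A0.ne
      · exact h0
    by_cases h1 : Module.finrank F W = 1
    · by_cases h2 : (2 : F) = 0
      · exfalso
        obtain ⟨w, hw, hw0⟩ := (Submodule.ne_bot_iff _).1 A0.ne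
        refine hw0 (A0.nd w hw fun y hy => ?_)
        obtain ⟨⟨v, hv⟩, hvs⟩ := finrank_le_one_iff.1 h1.le
        obtain ⟨c, hc⟩ := hvs ⟨w, hw⟩
        obtain ⟨d, hd⟩ := hvs ⟨y, hy⟩
        have hc' : c • v = w := congrArg Subtype.val hc
        have hd' : d • v = y := congrArg Subtype.val hd
        change QuadraticMap.polar Q w y = 0
        rw [← hc', ← hd', QuadraticMap.polar_smul_left, QuadraticMap.polar_smul_right,
          QuadraticMap.polar_self, nsmul_eq_mul, Nat.cast_ofNat, h2]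
        simp
      · rw [h1, pow_one]
        rcases Nat.lt_or_ge (Nat.card F) 5 with h5 | h5
        · exfalso
          have h4 : Nat.card F = 4 := by omega
          apply h2
          have h6 : ((4 : ℕ) : F) = 0 := by
            rw [← h4]
            haveI := Fintype.ofFinite F
            rw [Nat.card_eq_fintype_card]
            exact FiniteField.cast_card_eq_zero F
          have h7 : (2 : F) * 2 = 0 := by
            have : ((4 : ℕ) : F) = 2 * 2 := by norm_num
            rw [← this, h6]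
          exact mul_self_eq_zero.1 h7
        · exact h5
    · calc 5 ≤ 4 ^ 2 := by norm_num
        _ ≤ Nat.card F ^ 2 := Nat.pow_le_pow_left hF 2
        _ ≤ _ := Nat.pow_le_pow_right (by omega) (by omega)
  have hbase : ∀ (H : Subgroup (E ≃ₗ[F] E)) (W : Submodule F E),
      Base R {LinearMap.id} (fun x y => QuadraticMap.polar Q x y) H W → ∃ x y, x ∈ W ∧ y ∈ W ∧
      x ≠ 0 ∧ y ≠ 0 ∧ (∀ J ∈ ({LinearMap.id} : Set (E →ₗ[F] E)), J x ≠ 0 ∧ J y ≠ 0) ∧
      Q x ≠ Q y := by
    intro H W Bs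
    obtain ⟨x, y, hx, hy, hx0, hy0, hc⟩ := two_values Q W Bs.ne Bs.nd (hcard H W Bs.toAdm)
    refine ⟨x, y, hx, hy, hx0, hy0, ?_, hc⟩
    rintro J rfl
    exact ⟨hx0, hy0⟩
  obtain ⟨V₀, W, T⟩ := exists_top C hnd
  by_cases hW : W = ⊥
  · obtain ⟨v, hv⟩ := hQne
    have h1 := T.eq_one_of_bot hW
    exact ⟨v, hv, fun h hh _ => h1 h hh, fun z hz hz1 => absurd (h1 z hz) hz1⟩
  · have A0 := T.adm hW
    by_cases hV : V₀ = ⊥
    · have hWt := top_of_bot (p := p) T hV
      obtain ⟨x, y, hx, hy, hxy⟩ := top_norms3 C (fun H W A => bot_id A.ne) hbase A0 (Or.inr (by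
        rintro J rfl
        rw [Submodule.map_id, hWt, finrank_top]; exact hE))
      have h3 : 3 ≤ Module.finrank F W := by rw [hWt, finrank_top]; omega
      by_cases hQx : Q x = 0
      · refine ⟨0 + y, fun h => hxy ?_, T.reg_of V₀.zero_mem hy.reg,
          T.avoid_of_good V₀.zero_mem hy rfl (Or.inr h3)⟩
        rw [zero_add] at h
        rw [hQx, h]
      · exact ⟨0 + x, by rwa [zero_add], T.reg_of V₀.zero_mem hx.reg,
          T.avoid_of_good V₀.zero_mem hx rfl (Or.inr h3)⟩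
    · obtain ⟨x, y, hx, hy, hxy⟩ := two_norms C hbase R W A0
      obtain ⟨v₀, hv₀, hv0⟩ := (Submodule.ne_bot_iff _).1 hV
      have hN : ∀ u ∈ W, Q (v₀ + u) = Q v₀ + Q u := fun u hu =>
        C.Nadd _ _ (T.orth v₀ hv₀ u hu).1 (T.orth v₀ hv₀ u hu).2
      by_cases hQx : Q (v₀ + x) = 0
      · refine ⟨v₀ + y, fun h => hxy ?_, T.reg_of hv₀ hy.reg, T.avoid_of_ne hv₀ hv0 hy.mem⟩
        rw [hN _ hx.mem] at hQx
        rw [hN _ hy.mem] at h
        exact add_left_cancel (hQx.trans h.symm)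
      · exact ⟨v₀ + x, hQx, T.reg_of hv₀ hx.reg, T.avoid_of_ne hv₀ hv0 hx.mem⟩

end Cfsg.Agent.H903.SylRegT
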