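/-
helper903: regular vectors, linear case, all odd p (S2484).
-/
import Mathlib
import Cfsg.Agent.H903.SylRegTSp
import Cfsg.Agent.H903.SylRegL

set_option autoImplicit false

namespace Cfsg.Agent.H903.SylRegT

open Finset
open Cfsg.Agent.H903.SylReg (com Avoid AvoidDual RegSL dbl dbl_apply J₁ J₂ J₁_apply J₂_apply bet nm PSL
  mem_PSL₁ mem_PSL₂ Nd ndL dbl_fix dbl_inj dbl_inv_snd OutL)

section lin

variable {F : Type*} [Field F] {V : Type*} [AddCommGroup V] [Module F V]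

variable [Finite F] [Finite V]

variable {p : ℕ} [Fact p.Prime]

omit [Finite F] [Finite V] [Fact p.Prime] in
theorem ctxL (hp : 3 ≤ p) (hpF : (p : F) ≠ 0) {R : Subgroup (V ≃ₗ[F] V)} (hR : IsPGroup p R) :
    Ctx p (R.map dbl) (PSL F V) bet nm where
  pF := hpF
  five := hp
  pg := hR.map _
  comm := by
    rintro J (rfl | rfl) _ ⟨g, hg, rfl⟩ x
    · rw [J₁_apply, J₁_apply, dbl_apply, dbl_apply]; simp
    · rw [J₂_apply, J₂_apply, dbl_apply, dbl_apply]; simp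
  βl x y z := by simp [bet]; ring
  βr x y z := by simp [bet]; ring
  βG := by
    rintro _ ⟨g, hg, rfl⟩ x y
    have hk : ∀ v, g⁻¹ (g v) = v := fun v => by
      rw [← LinearEquiv.mul_apply, inv_mul_cancel]; rfl
    simp [bet, dbl_apply]
  NG := by
    rintro _ ⟨g, hg, rfl⟩ x
    simp [nm, dbl_apply]
  Nadd x y h _ := by
    simp only [bet] at h
    simp only [nm, Prod.fst_add, Prod.snd_add, LinearMap.add_apply, map_add]
    linear_combination h

omit [Finite F] [Finite V] [Fact p.Prime] in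
theorem Top.nd₀ {β : _} {G : Subgroup ((V × Module.Dual F V) ≃ₗ[F] (V × Module.Dual F V))}
    {V₀ W : Submodule F (V × Module.Dual F V)} (hβ : β = bet) (T : Top G (PSL F V) β V₀ W) : Nd V₀ := by
  subst hβ
  exact ⟨T.psV, T.nd0⟩

omit [Finite F] [Finite V] [Fact p.Prime] in
theorem Top.nd₁ {β : _} {G : Subgroup ((V × Module.Dual F V) ≃ₗ[F] (V × Module.Dual F V))}
    {V₀ W : Submodule F (V × Module.Dual F V)} (hβ : β = bet) (T : Top G (PSL F V) β V₀ W) : Nd W := by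
  subst hβ
  exact ⟨T.ps, T.ndW⟩

omit [Finite F] [Fact p.Prime] in
/-- finishing in large dimension -/
theorem finL {R : Subgroup (V ≃ₗ[F] V)} {V₀ W : Submodule F (V × Module.Dual F V)} [Finite F]
    (T : Top (R.map dbl) (PSL F V) bet V₀ W) {x : V × Module.Dual F V}
    (hx : Good 3 (PSL F V) (R.map dbl) W x) (hN : nm x = 0)
    (h3 : 3 ≤ Module.finrank F (W.map (J₁ F V))) : OutL R := by
  obtain ⟨v, φ⟩ := x
  have D := T.nd₁ rfl
  have h3' : 3 ≤ Module.finrank F (W.map (J₂ F V)) := h3.trans D.finrank_le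
  have hcm1 : ∀ J, cm J W (1 : (V × Module.Dual F V) ≃ₗ[F] (V × Module.Dual F V)) = ⊥ := by
    intro J
    rw [Submodule.eq_bot_iff]
    intro y hy
    obtain ⟨w, _, rfl⟩ := mem_cm.1 hy
    exact sub_self _
  have hJx : ∀ J ∈ PSL F V, 3 ≤ Module.finrank F (W.map J) → J (v, φ) ≠ 0 := by
    intro J hJ hd h0
    have h1 := hx.ss J hJ 1 (Subgroup.one_mem _) (by rw [h0]; exact Submodule.zero_mem _)
    rw [hcm1 J, finrank_bot] at h1
    have h2 := h1.resolve_right (by norm_num)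
    rw [le_bot_iff] at h2
    rw [h2, finrank_bot] at hd
    omega
  have hv0 : v ≠ 0 := by
    rintro rfl
    exact hJx _ mem_PSL₁ h3 rfl
  have hφ0 : φ ≠ 0 := by
    rintro rfl
    exact hJx _ mem_PSL₂ h3' rfl
  have hZ : ∀ {e : V × Module.Dual F V} {J} {z}, J ∈ PSL F V → z ∈ R.map dbl → J e = e →
      z e - e ∈ cm J W z := by
    intro e J z hJ hz he
    obtain ⟨e₀, he₀, w, hw, rfl⟩ := T.sum e
    have h1 : z (J e₀) = J e₀ := (T.fixm _).1 (T.psV J hJ _ he₀) z hz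
    refine mem_cm.2 ⟨w, hw, ?_⟩
    conv_rhs => rw [← he]
    rw [map_add, map_add, h1]
    abel
  refine ⟨v, φ, hv0, hφ0, hN, fun r hr h1 h2 => ?_, fun z hz hz1 hmem => ?_, fun z hz hz1 hmem => ?_⟩
  · have h4 := hx.reg (dbl r) ⟨r, hr, rfl⟩ (dbl_fix h1 h2)
    apply dbl_inj
    ext1 y
    obtain ⟨e₀, he₀, w, hw, rfl⟩ := T.sum y
    rw [map_add, (T.fixm _).1 he₀ _ ⟨r, hr, rfl⟩, h4 w hw]
    rfl
  · obtain ⟨u, hu⟩ := LinearMap.mem_range.1 hmem
    have hu' : z u - u = v := hu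
    have h4 := hZ (e := (u, 0)) (J := J₁ F V) (z := dbl z) mem_PSL₁ ⟨z, hz, rfl⟩ rfl
    have h5 : dbl z (u, 0) - (u, 0) = J₁ F V (v, φ) := by
      rw [dbl_apply, J₁_apply, ← hu']
      refine Prod.ext rfl ?_
      simp
    rw [h5] at h4
    have hle : cm (J₁ F V) W (dbl z) ≤ (com z).map (LinearMap.inl F V (Module.Dual F V)) := by
      intro y hy
      obtain ⟨w, _, rfl⟩ := mem_cm.1 hy
      refine ⟨z w.1 - w.1, ⟨w.1, rfl⟩, ?_⟩
      rw [J₁_apply, dbl_apply]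
      refine Prod.ext rfl ?_
      simp
    have h6 := (Submodule.finrank_mono hle).trans (Submodule.finrank_map_le _ _)
    rcases hx.ss _ mem_PSL₁ _ ⟨z, hz, rfl⟩ h4 with h7 | h7
    · exact (h3.trans (Submodule.finrank_mono h7)).trans h6
    · exact h7.trans h6
  · obtain ⟨ψ, hψ⟩ := hmem
    have hzi : dbl z⁻¹ ∈ R.map dbl := ⟨z⁻¹, R.inv_mem hz, rfl⟩
    have h4 := hZ (e := (0, ψ)) (J := J₂ F V) (z := dbl z⁻¹) mem_PSL₂ hzi rfl
    have h5 : dbl z⁻¹ (0, ψ) - (0, ψ) = J₂ F V (v, φ) := by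
      rw [dbl_inv_snd, J₂_apply]
      congr 1
      ext y
      exact (hψ y).symm
    rw [h5] at h4
    let g : V →ₗ[F] V := (z : V →ₗ[F] V) - LinearMap.id
    have hle : cm (J₂ F V) W (dbl z⁻¹) ≤
        (LinearMap.range g.dualMap).map (LinearMap.inr F V (Module.Dual F V)) := by
      intro y hy
      obtain ⟨w, _, rfl⟩ := mem_cm.1 hy
      rw [J₂_apply, dbl_inv_snd]
      exact ⟨_, ⟨w.2, rfl⟩, rfl⟩
    have h6 := (Submodule.finrank_mono hle).trans (Submodule.finrank_map_le _ _)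
    rw [LinearMap.finrank_range_dualMap_eq_finrank_range] at h6
    rcases hx.ss _ mem_PSL₂ _ hzi h4 with h7 | h7
    · exact (h3'.trans (Submodule.finrank_mono h7)).trans h6
    · exact h7.trans h6

omit [Finite F] [Finite V] [Fact p.Prime] in
/-- finishing with non-zero fixed parts -/
theorem finL' {R : Subgroup (V ≃ₗ[F] V)} {V₀ W : Submodule F (V × Module.Dual F V)}
    (T : Top (R.map dbl) (PSL F V) bet V₀ W) {v₀ w : V} {φ₀ φ : Module.Dual F V}
    (h1 : (v₀, 0) ∈ V₀) (h2 : (0, φ₀) ∈ V₀) (h3 : (w, 0) ∈ W) (h4 : (0, φ) ∈ W)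
    (hv : v₀ ≠ 0) (hφ : φ₀ ≠ 0) (hN : φ₀ v₀ + φ w = 0)
    (hreg : ∀ r ∈ R, dbl r (w, φ) = (w, φ) → ∀ y ∈ W, dbl r y = y) : OutL R := by
  have hxV : (v₀, φ₀) ∈ V₀ := by
    have := V₀.add_mem h1 h2
    simpa using this
  have hxW : (w, φ) ∈ W := by
    have := W.add_mem h3 h4
    simpa using this
  have o1 : φ₀ w = 0 := by
    have := (T.orth _ h2 _ h3).1
    simpa [bet] using this
  have o2 : φ v₀ = 0 := by
    have := (T.orth _ h1 _ h4).1
    simpa [bet] using this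
  refine ⟨v₀ + w, φ₀ + φ, fun h0 => ?_, fun h0 => ?_, ?_, fun r hr h5 h6 => ?_,
    fun z hz hz1 hmem => ?_, fun z hz hz1 hmem => ?_⟩
  · have h5 : (v₀, (0 : Module.Dual F V)) = -(w, 0) := by
      refine Prod.ext (eq_neg_of_add_eq_zero_left h0) (by simp)
    exact hv (congrArg Prod.fst (T.dis _ h1 (h5 ▸ W.neg_mem h3)))
  · have h5 : ((0 : V), φ₀) = -(0, φ) := by
      refine Prod.ext (by simp) (eq_neg_of_add_eq_zero_left h0)
    exact hφ (congrArg Prod.snd (T.dis _ h2 (h5 ▸ W.neg_mem h4)))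
  · rw [LinearMap.add_apply, map_add, map_add, o1, o2]
    linear_combination hN
  · have h7 := dbl_fix h5 h6
    have h8 : ((v₀ + w, φ₀ + φ) : V × Module.Dual F V) = (v₀, φ₀) + (w, φ) := rfl
    rw [h8, map_add, (T.fixm _).1 hxV _ ⟨r, hr, rfl⟩] at h7
    have h9 := hreg r hr (add_left_cancel h7)
    apply dbl_inj
    ext1 y
    obtain ⟨e₀, he₀, w, hw, rfl⟩ := T.sum y
    rw [map_add, (T.fixm _).1 he₀ _ ⟨r, hr, rfl⟩, h9 w hw]
    rfl
  · exfalso
    obtain ⟨u, hu⟩ := LinearMap.mem_range.1 hmem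
    have hu' : z u - u = v₀ + w := hu
    have h5 := T.sb (dbl z) ⟨z, hz, rfl⟩ (u, 0)
    have h6 : dbl z (u, 0) - (u, 0) = (v₀, 0) + (w, 0) := by
      rw [dbl_apply]
      refine Prod.ext hu' ?_
      simp
    rw [h6] at h5
    exact hv (congrArg Prod.fst (T.dis _ h1 (by simpa using W.sub_mem h5 h3)))
  · exfalso
    obtain ⟨ψ, hψ⟩ := hmem
    have h5 := T.sb (dbl z⁻¹) ⟨z⁻¹, R.inv_mem hz, rfl⟩ (0, ψ)
    have h6 : dbl z⁻¹ (0, ψ) - (0, ψ) = (0, φ₀) + (0, φ) := by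
      rw [dbl_inv_snd]
      refine Prod.ext (by simp) ?_
      ext y
      exact (hψ y).symm
    rw [h6] at h5
    exact hφ (congrArg Prod.snd (T.dis _ h2 (by simpa using W.sub_mem h5 h4)))

/-- **RegSL** for all odd `p`, `|F| ≥ 4`, dimension at least four. -/
theorem regSL (p : ℕ) [Fact p.Prime] (hp : 3 ≤ p) (F : Type*) [Field F] [Finite F] (hF : 4 ≤ Nat.card F)
    (V : Type*) [AddCommGroup V] [Module F V] [Finite V] (hpF : (p : F) ≠ 0)
    (hV : 4 ≤ Module.finrank F V) : RegSL p F V := by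
  classical
  intro R hR hsc
  change OutL R
  have C := ctxL hp hpF hR
  obtain ⟨V₀, W, T⟩ := exists_top C ndL
  have D := Top.nd₁ rfl T
  have Dt : Nd (⊤ : Submodule F (V × Module.Dual F V)) :=
    ⟨fun _ _ _ _ => trivial, fun x _ h => ndL x fun y => h y trivial⟩
  have htop : 4 ≤ Module.finrank F ((⊤ : Submodule F (V × Module.Dual F V)).map (J₁ F V)) := by
    let g : V →ₗ[F] (⊤ : Submodule F (V × Module.Dual F V)).map (J₁ F V) :=
      LinearMap.codRestrict _ (LinearMap.inl F V (Module.Dual F V)) (fun v => ⟨(v, 0), trivial, rfl⟩)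
    have hg : Function.Injective g := fun v w h => congrArg Prod.fst (congrArg Subtype.val h)
    exact hV.trans (LinearMap.finrank_le_finrank_of_injective (R := F) (M := V)
      (M' := (⊤ : Submodule F (V × Module.Dual F V)).map (J₁ F V)) hg)
  have hKc : 4 ≤ Nat.card (⊤ : AddSubgroup F) := by
    have h8 : Nat.card (⊤ : AddSubgroup F) = Nat.card F := Nat.card_congr AddSubgroup.topEquiv.toEquiv
    omega
  have hPb : ∀ (H : Subgroup ((V × Module.Dual F V) ≃ₗ[F] (V × Module.Dual F V)))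
      (W : Submodule F (V × Module.Dual F V)), Adm (R.map dbl) (PSL F V) bet H W →
      ∀ J ∈ PSL F V, W.map J ≠ ⊥ := by
    intro H W A0
    have D : Nd W := ⟨A0.ps, A0.nd⟩
    obtain ⟨v, φ, hv, hφ, h0⟩ := D.pair A0.ne
    rintro J (rfl | rfl) hb
    · have h1 : J₁ F V (v, 0) ∈ W.map (J₁ F V) := ⟨_, hv, rfl⟩
      rw [hb, Submodule.mem_bot] at h1
      have h2 : v = 0 := congrArg Prod.fst h1
      rw [h2, map_zero] at h0
      exact h0 rfl
    · have h1 : J₂ F V (0, φ) ∈ W.map (J₂ F V) := ⟨_, hφ, rfl⟩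
      rw [hb, Submodule.mem_bot] at h1
      have h2 : φ = 0 := congrArg Prod.snd h1
      rw [h2, LinearMap.zero_apply] at h0
      exact h0 rfl
  have hbase : ∀ (H : Subgroup ((V × Module.Dual F V) ≃ₗ[F] (V × Module.Dual F V)))
      (W : Submodule F (V × Module.Dual F V)), Base (R.map dbl) (PSL F V) bet H W →
      ∀ c ∈ (⊤ : AddSubgroup F), c ≠ 0 → ∃ x ∈ W, x ≠ 0 ∧ (∀ J ∈ PSL F V, J x ≠ 0) ∧ nm x = c := by
    intro H W Bs c _ hc0
    have D : Nd W := ⟨Bs.ps, Bs.nd⟩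
    obtain ⟨w, φ, h4, h5, hN, hw0, hφ⟩ := D.pair_val Bs.ne hc0
    refine ⟨(w, φ), ?_, fun h => hw0 (congrArg Prod.fst h), ?_, hN⟩
    · simpa using W.add_mem h4 h5
    · rintro J (rfl | rfl)
      · exact fun h => hw0 (congrArg Prod.fst h)
      · exact fun h => hφ (congrArg Prod.snd h)
  by_cases hW : W = ⊥
  · obtain ⟨v, φ, -, -, h0, hv, hφ⟩ := Dt.pair_zero (by omega)
    have h1 : ∀ r ∈ R, r = 1 := fun r hr => dbl_inj (T.eq_one_of_bot hW _ ⟨r, hr, rfl⟩)
    exact ⟨v, φ, hv, hφ, h0, fun r hr _ _ => h1 r hr, fun z hz hz1 => absurd (h1 z hz) hz1,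
      fun z hz hz1 => absurd (h1 z hz) hz1⟩
  · have A0 := T.adm hW
    by_cases hVb : V₀ = ⊥
    · have hWt := top_of_bot (p := p) T hVb
      have h4 : 4 ≤ Module.finrank F (W.map (J₁ F V)) := by rw [hWt]; exact htop
      obtain ⟨x, hx, hN⟩ := top_zero3 C hPb ⊤ hKc hbase A0 (fun _ => by
        obtain ⟨w, φ, h4, h5, hN, hw0, hφ⟩ := D.pair_zero (by omega)
        refine ⟨(w, φ), ?_, fun h => hw0 (congrArg Prod.fst h), ?_, hN⟩
        · simpa using W.add_mem h4 h5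
        · rintro J (rfl | rfl)
          · exact fun h => hw0 (congrArg Prod.fst h)
          · exact fun h => hφ (congrArg Prod.snd h)) (Or.inr (by
        rintro J (rfl | rfl)
        · exact h4
        · exact h4.trans D.finrank_le))
      exact finL T hx hN (by omega)
    · obtain ⟨v₀, φ₀, h1, h2, hN0, hv0, hφ0⟩ := (Top.nd₀ rfl T).pair_val hVb (one_ne_zero (α := F))
      obtain ⟨⟨w, φ⟩, hx, hN⟩ := prescribed C ⊤ hKc hbase _ W A0 (-1) (AddSubgroup.mem_top _)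
        (neg_ne_zero.2 one_ne_zero)
      have hw : (w, (0 : Module.Dual F V)) ∈ W := T.ps _ mem_PSL₁ _ hx.mem
      have hφ : ((0 : V), φ) ∈ W := T.ps _ mem_PSL₂ _ hx.mem
      have hN' : φ w = -1 := hN
      exact finL' T h1 h2 hw hφ hv0 hφ0 (by rw [hN0, hN']; ring) fun r hr hfix =>
        hx.reg _ ⟨r, hr, rfl⟩ hfix

end lin

end Cfsg.Agent.H903.SylRegT
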