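/-
helper903: S5760, `²E₆(2)`, `p = 3`: `MeetIn 3` from the subgroup `Fi₂₂`.
-/
import Mathlib
import Cfsg.Agent.H68.MeetBase
import Cfsg.Agent.H232.MeetFi22
import Cfsg.Agent.S5742
import Cfsg.Agent.S1066

set_option autoImplicit false

namespace Cfsg.Agent.H903.MeetInTwE6

open Cfsg Cfsg.Lie Cfsg.Agent.H903.SylMeet Cfsg.Agent.H68.MeetB

/-- **`²E₆(2)`**, `p = 3` -/
theorem meetIn3_2E6_two {K : Type} [Field K] [Fintype K] (hK : Fintype.card K = 4) : MeetIn 3 ↥(twistedE6 K 2) := by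
  have hp3 : Fact (Nat.Prime 3) := ⟨Nat.prime_three⟩
  have : Finite (GL chevE6.Idx K) := inferInstance
  obtain ⟨H, hH, -⟩ := Cfsg.Agent.S5742.result hK
  have h0 := hH 0
  have hcH : Nat.card ↥(H 0) = 64561751654400 := NotCT.Orders.fi22 h0
  have hc := Cfsg.Agent.S1066.result (K := K) (q := 2) Nat.prime_two.isPrimePow (by rw [hK]; norm_num)
  have hmeet : MeetIn 3 ↥(H 0) := by
    obtain ⟨e⟩ := h0
    exact Cfsg.Agent.H232.MeetFi22.meetIn_fi22.congr e.symm
  refine MeetIn.of_hom (H 0).subtype (H 0).subtype_injective ?_ hmeet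
  rw [Subgroup.range_subtype]
  intro hd
  have h1 := (H 0).card_mul_index
  obtain ⟨k, hk⟩ := hd
  rw [hcH, hk] at h1
  norm_num at hc
  rw [← h1] at hc
  omega

end Cfsg.Agent.H903.MeetInTwE6
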