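import Cfsg.Agent.H411.PrA.Defs

/-!
# S3618, part A: the cases `(B, ε) = (0, 1)` and `(1, 1)` of the combinatorial structure `Geo` (helper903)

`Geo.card_closure`, `Geo.case01`, `Geo.case11` of `tools/plans/S3618_A_stmts.lean`.
-/

set_option autoImplicit false
set_option linter.unusedSectionVars false

open Equiv Equiv.Perm MulAction Cfsg.Agent.H411.PrA

namespace Cfsg.Agent.H903.GeoCase

universe u

variable {Ω : Type u} {p m B ε : ℕ} {XX : Set (Perm Ω)}

/-- the flat spanned by `a` and `T` -/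
def fl (g : Geo p m B ε XX) (a : Ω) (T : Finset (Fin m)) : Set Ω :=
  {y | ∀ x ∈ XX, x a = a → Disjoint (g.P a x) T → x y = y}

theorem NF.symm {a b : Ω} (h : NF XX a b) : NF XX b a := by
  obtain ⟨x, hx, h1, h2⟩ := h
  exact ⟨x, hx, h2, h1⟩

theorem exists_disj (g : Geo p m B ε XX) (a : Ω) (T : Finset (Fin m)) (hT : T.card + p ≤ m) :
    ∃ x ∈ XX, x a = a ∧ Disjoint (g.P a x) T := by
  classical
  have h1 : p ≤ (Tᶜ).card := by
    rw [Finset.card_compl, Fintype.card_fin]; omega
  obtain ⟨U, hU, hUc⟩ := Finset.exists_subset_card_eq h1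
  obtain ⟨x, hx, hxa, hP⟩ := g.surj_P a U hUc
  refine ⟨x, hx, hxa, ?_⟩
  rw [hP]
  exact Finset.disjoint_left.2 (fun i hi hiT => (Finset.mem_compl.1 (hU hi)) hiT)

theorem exists_disj_mem (g : Geo p m B ε XX) (a : Ω) (T : Finset (Fin m)) (hT : T.card + p ≤ m) (hp : 1 ≤ p)
    (i : Fin m) (hi : i ∉ T) : ∃ x ∈ XX, x a = a ∧ Disjoint (g.P a x) T ∧ i ∈ g.P a x := by
  classical
  have h1 : p ≤ (Tᶜ).card := by
    rw [Finset.card_compl, Fintype.card_fin]; omega
  have h2 : ({i} : Finset (Fin m)) ⊆ Tᶜ := by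
    intro j hj
    rw [Finset.mem_singleton] at hj
    subst hj
    exact Finset.mem_compl.2 hi
  obtain ⟨U, hiU, hU, hUc⟩ := Finset.exists_subsuperset_card_eq h2 (by simpa using hp) h1
  obtain ⟨x, hx, hxa, hP⟩ := g.surj_P a U hUc
  refine ⟨x, hx, hxa, ?_, ?_⟩
  · rw [hP]
    exact Finset.disjoint_left.2 (fun i hi hiT => (Finset.mem_compl.1 (hU hi)) hiT)
  · rw [hP]; exact hiU (Finset.mem_singleton_self i)

theorem self_mem_fl (g : Geo p m B ε XX) (a : Ω) (T : Finset (Fin m)) : a ∈ fl g a T :=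
  fun _ _ h _ => h

theorem mem_fl (g : Geo p m B ε XX) (hp : 1 ≤ p) (a : Ω) (T : Finset (Fin m)) (hT : T.card + p ≤ m) (y : Ω) :
    y ∈ fl g a T ↔ y = a ∨ (a ≠ y ∧ NF XX a y ∧ g.S a y ⊆ T) := by
  constructor
  · intro h
    by_cases hya : y = a
    · exact Or.inl hya
    · right
      have hay : a ≠ y := fun h => hya h.symm
      obtain ⟨x, hx, hxa, hd⟩ := exists_disj g a T hT
      have hNF : NF XX a y := ⟨x, hx, hxa, h x hx hxa hd⟩
      refine ⟨hay, hNF, ?_⟩
      intro i hi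
      by_contra hiT
      obtain ⟨x', hx', hxa', hd', hi'⟩ := exists_disj_mem g a T hT hp i hiT
      have h1 := h x' hx' hxa' hd'
      rw [g.fix_iff a y hay hNF x' hx' hxa'] at h1
      exact Finset.disjoint_left.1 h1 hi' hi
  · rintro (rfl | ⟨hay, hNF, hS⟩)
    · exact self_mem_fl g y T
    · intro x hx hxa hd
      rw [g.fix_iff a y hay hNF x hx hxa]
      exact Finset.disjoint_of_subset_right hS hd

/-- number of points of a flat -/
theorem card_fl [Finite Ω] (g : Geo p m B ε XX) (hp : 1 ≤ p) (a : Ω) (T : Finset (Fin m)) (hT : T.card + p ≤ m) :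
    (fl g a T).ncard = 1 + B * T.card + ε * T.card.choose 2 := by
  classical
  have : Fintype Ω := Fintype.ofFinite Ω
  set G : Finset Ω := Finset.univ.filter (fun b => a ≠ b ∧ NF XX a b ∧ g.S a b ⊆ T) with hG
  have h1 : fl g a T = ↑(insert a G) := by
    ext y
    rw [mem_fl g hp a T hT]
    simp [hG]
  have haG : a ∉ G := by simp [hG]
  rw [h1, Set.ncard_coe_finset, Finset.card_insert_of_notMem haG]
  have h2 : Set.MapsTo (fun b => g.S a b) (G : Set Ω) (↑(T.powersetCard 1 ∪ T.powersetCard 2) : Set (Finset (Fin m))) := by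
    intro b hb
    have hb' : b ∈ G := hb
    rw [hG, Finset.mem_filter] at hb'
    obtain ⟨-, hab, hNF, hS⟩ := hb'
    obtain ⟨h3, h4⟩ := g.card_S a b hab hNF
    simp only [Finset.coe_union, Set.mem_union, Finset.mem_coe, Finset.mem_powersetCard]
    have h5 : (g.S a b).card = 1 ∨ (g.S a b).card = 2 := by omega
    rcases h5 with h5 | h5
    · exact Or.inl ⟨hS, h5⟩
    · exact Or.inr ⟨hS, h5⟩
  rw [Finset.card_eq_sum_card_fiberwise h2]
  have hdis : Disjoint (T.powersetCard 1) (T.powersetCard 2) := by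
    rw [Finset.disjoint_left]
    intro U h3 h4
    rw [Finset.mem_powersetCard] at h3 h4
    omega
  rw [Finset.sum_union hdis]
  have h6 : ∑ R ∈ T.powersetCard 1, (G.filter (fun b => g.S a b = R)).card = B * T.card := by
    rw [Finset.sum_congr rfl (g := fun _ => B), Finset.sum_const, Finset.card_powersetCard, Nat.choose_one_right,
      smul_eq_mul, mul_comm]
    intro R hR
    rw [Finset.mem_powersetCard] at hR
    obtain ⟨i, rfl⟩ := Finset.card_eq_one.1 hR.2
    refine Eq.trans ?_ (g.card_B a i)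
    rw [← Set.ncard_coe_finset]
    congr 1
    ext b
    simp only [hG, Finset.coe_filter, Finset.mem_filter, Finset.mem_univ, true_and, Set.mem_ofPred_eq]
    constructor
    · rintro ⟨⟨h7, h8, -⟩, h9⟩
      exact ⟨h7, h8, h9⟩
    · rintro ⟨h7, h8, h9⟩
      exact ⟨⟨h7, h8, h9 ▸ hR.1⟩, h9⟩
  have h7 : ∑ R ∈ T.powersetCard 2, (G.filter (fun b => g.S a b = R)).card = ε * T.card.choose 2 := by
    rw [Finset.sum_congr rfl (g := fun _ => ε), Finset.sum_const, Finset.card_powersetCard,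
      smul_eq_mul, mul_comm]
    intro R hR
    rw [Finset.mem_powersetCard] at hR
    obtain ⟨i, j, hij, rfl⟩ := Finset.card_eq_two.1 hR.2
    refine Eq.trans ?_ (g.card_ε a i j hij)
    rw [← Set.ncard_coe_finset]
    congr 1
    ext b
    simp only [hG, Finset.coe_filter, Finset.mem_filter, Finset.mem_univ, true_and, Set.mem_ofPred_eq]
    constructor
    · rintro ⟨⟨h7, h8, -⟩, h9⟩
      exact ⟨h7, h8, h9⟩
    · rintro ⟨h7, h8, h9⟩
      exact ⟨⟨h7, h8, h9 ▸ hR.1⟩, h9⟩
  rw [h6, h7]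
  omega

open Classical in
/-- change of base point in a flat -/
theorem fl_change (g : Geo p m B ε XX) (a : Ω) (T : Finset (Fin m)) (hT : T.card + p ≤ m)
    (c : Ω) (hc : c ∈ fl g a T) :
    ∃ T' : Finset (Fin m), T'.card + p ≤ m ∧ fl g c T' = fl g a T ∧
      (∀ i, i ∈ T' ↔ ∃ y ∈ fl g a T, y ≠ c ∧ i ∈ g.S c y) := by
  refine ⟨Finset.univ.filter (fun i => ∃ y ∈ fl g a T, y ≠ c ∧ i ∈ g.S c y), ?_, ?_, ?_⟩
  · obtain ⟨x, hx, hxa, hd⟩ := exists_disj g a T hT
    have hxc : x c = c := hc x hx hxa hd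
    have hdis : Disjoint (g.P c x) (Finset.univ.filter (fun i => ∃ y ∈ fl g a T, y ≠ c ∧ i ∈ g.S c y)) := by
      rw [Finset.disjoint_left]
      intro i hi hi'
      rw [Finset.mem_filter] at hi'
      obtain ⟨-, y, hy, hyc, hiy⟩ := hi'
      have hxy : x y = y := hy x hx hxa hd
      have h1 := (g.fix_iff c y (Ne.symm hyc) ⟨x, hx, hxc, hxy⟩ x hx hxc).1 hxy
      exact Finset.disjoint_left.1 h1 hi hiy
    have h2 := Finset.card_le_univ (g.P c x ∪ (Finset.univ.filter (fun i => ∃ y ∈ fl g a T, y ≠ c ∧ i ∈ g.S c y)))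
    rw [Finset.card_union_of_disjoint hdis, g.card_P c x hx hxc, Fintype.card_fin] at h2
    omega
  · ext y
    constructor
    · intro hy x hx hxa hd
      have hxc : x c = c := hc x hx hxa hd
      refine hy x hx hxc ?_
      rw [Finset.disjoint_left]
      intro i hi hi'
      rw [Finset.mem_filter] at hi'
      obtain ⟨-, z, hz, hzc, hiz⟩ := hi'
      have hxz : x z = z := hz x hx hxa hd
      have h1 := (g.fix_iff c z (Ne.symm hzc) ⟨x, hx, hxc, hxz⟩ x hx hxc).1 hxz
      exact Finset.disjoint_left.1 h1 hi hiz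
    · intro hy x hx hxc hd
      by_cases hyc : y = c
      · rw [hyc]; exact hxc
      · obtain ⟨x0, hx0, hxa0, hd0⟩ := exists_disj g a T hT
        have hNF : NF XX c y := ⟨x0, hx0, hc x0 hx0 hxa0 hd0, hy x0 hx0 hxa0 hd0⟩
        rw [g.fix_iff c y (Ne.symm hyc) hNF x hx hxc]
        refine Finset.disjoint_of_subset_right ?_ hd
        intro i hi
        rw [Finset.mem_filter]
        exact ⟨Finset.mem_univ _, y, hy, hyc, hi⟩
  · intro i
    simp

/-- change of base point, with the rank preserved -/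
theorem fl_change' [Finite Ω] (g : Geo p m B ε XX) (hp : 1 ≤ p) (a : Ω) (T : Finset (Fin m)) (hT : T.card + p ≤ m)
    (hinj : ∀ r : ℕ, B * r + ε * r.choose 2 = B * T.card + ε * T.card.choose 2 → r = T.card)
    (c : Ω) (hc : c ∈ fl g a T) :
    ∃ T' : Finset (Fin m), T'.card = T.card ∧ fl g c T' = fl g a T ∧
      (∀ i, i ∈ T' ↔ ∃ y ∈ fl g a T, y ≠ c ∧ i ∈ g.S c y) := by
  obtain ⟨T', h1, h2, h3⟩ := fl_change g a T hT c hc
  refine ⟨T', ?_, h2, h3⟩
  apply hinj
  have h4 := card_fl g hp a T hT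
  have h5 := card_fl g hp c T' h1
  rw [h2] at h5
  omega

theorem choose_two_step (n : ℕ) : (n + 1).choose 2 = n + n.choose 2 := by
  rw [Nat.choose_succ_succ' n 1, Nat.choose_one_right]

theorem choose_two_lt (n k : ℕ) (hn : 1 ≤ n) (h : n < k) : n.choose 2 < k.choose 2 := by
  have h1 : (n + 1).choose 2 ≤ k.choose 2 := Nat.choose_le_choose 2 h
  have h2 := choose_two_step n
  omega

theorem inj11 (s r : ℕ) (h : 1 * r + 1 * r.choose 2 = 1 * s + 1 * s.choose 2) : r = s := by
  rw [one_mul, one_mul, one_mul, one_mul, ← choose_two_step, ← choose_two_step] at h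
  by_contra hne
  rcases Nat.lt_or_gt_of_ne hne with hlt | hlt
  · have := choose_two_lt (r + 1) (s + 1) (by omega) (by omega)
    omega
  · have := choose_two_lt (s + 1) (r + 1) (by omega) (by omega)
    omega

theorem inj01 (s r : ℕ) (hs : 2 ≤ s) (h : 0 * r + 1 * r.choose 2 = 0 * s + 1 * s.choose 2) : r = s := by
  rw [zero_mul, zero_mul, one_mul, one_mul, zero_add, zero_add] at h
  by_contra hne
  rcases Nat.lt_or_gt_of_ne hne with hlt | hlt
  · have h1 : r.choose 2 ≤ (s - 1).choose 2 := Nat.choose_le_choose 2 (by omega)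
    have h2 := choose_two_lt (s - 1) s (by omega) (by omega)
    omega
  · have := choose_two_lt s r (by omega) hlt
    omega

/-! ### The case `(1, 1)` -/

section case11

variable [Finite Ω]

/-- uniqueness of the point with given label -/
theorem uniq1 (g : Geo p m 1 1 XX) {a b b' : Ω} (hab : a ≠ b) (hab' : a ≠ b') (hb : NF XX a b) (hb' : NF XX a b')
    (h : g.S a b = g.S a b') : b = b' := by
  obtain ⟨h1, h2⟩ := g.card_S a b hab hb
  have h5 : (g.S a b).card = 1 ∨ (g.S a b).card = 2 := by omega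
  rcases h5 with h5 | h5
  · obtain ⟨i, hi⟩ := Finset.card_eq_one.1 h5
    obtain ⟨z, hz⟩ := Set.ncard_eq_one.1 (g.card_B a i)
    have h6 : b ∈ ({z} : Set Ω) := by rw [← hz]; exact ⟨hab, hb, hi⟩
    have h7 : b' ∈ ({z} : Set Ω) := by rw [← hz]; exact ⟨hab', hb', h ▸ hi⟩
    rw [Set.mem_singleton_iff] at h6 h7
    rw [h6, h7]
  · obtain ⟨i, j, hij, hi⟩ := Finset.card_eq_two.1 h5
    obtain ⟨z, hz⟩ := Set.ncard_eq_one.1 (g.card_ε a i j hij)
    have h6 : b ∈ ({z} : Set Ω) := by rw [← hz]; exact ⟨hab, hb, hi⟩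
    have h7 : b' ∈ ({z} : Set Ω) := by rw [← hz]; exact ⟨hab', hb', h ▸ hi⟩
    rw [Set.mem_singleton_iff] at h6 h7
    rw [h6, h7]

theorem exists1 (g : Geo p m 1 1 XX) (a : Ω) (i : Fin m) : ∃ b, a ≠ b ∧ NF XX a b ∧ g.S a b = {i} := by
  obtain ⟨z, hz⟩ := Set.ncard_eq_one.1 (g.card_B a i)
  exact ⟨z, by have : z ∈ ({z} : Set Ω) := rfl
               rw [← hz] at this
               exact this⟩

theorem exists2 (g : Geo p m 1 1 XX) (a : Ω) (T : Finset (Fin m)) (hT : T.card = 2) :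
    ∃ b, a ≠ b ∧ NF XX a b ∧ g.S a b = T := by
  obtain ⟨i, j, hij, rfl⟩ := Finset.card_eq_two.1 hT
  obtain ⟨z, hz⟩ := Set.ncard_eq_one.1 (g.card_ε a i j hij)
  exact ⟨z, by have : z ∈ ({z} : Set Ω) := rfl
               rw [← hz] at this
               exact this⟩

theorem symm_le (g : Geo p m 1 1 XX) (hm : p + 3 ≤ m) (hp : 3 ≤ p) {a b : Ω} (hab : a ≠ b) (hn : NF XX a b) :
    (g.S b a).card ≤ (g.S a b).card := by
  obtain ⟨h1, h2⟩ := g.card_S a b hab hn
  have hbF : b ∈ fl g a (g.S a b) :=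
    (mem_fl g (by omega) a _ (by omega) b).2 (Or.inr ⟨hab, hn, Finset.Subset.refl _⟩)
  obtain ⟨T', h3, h4, h5⟩ := fl_change' g (by omega) a (g.S a b) (by omega) (fun r hr => inj11 _ _ hr) b hbF
  rw [← h3]
  apply Finset.card_le_card
  intro i hi
  rw [h5]
  exact ⟨a, self_mem_fl g a _, hab, hi⟩

theorem symm11 (g : Geo p m 1 1 XX) (hm : p + 3 ≤ m) (hp : 3 ≤ p) {a b : Ω} (hab : a ≠ b) (hn : NF XX a b) :
    (g.S a b).card = (g.S b a).card :=
  le_antisymm (symm_le g hm hp hab.symm (NF.symm hn)) (symm_le g hm hp hab hn)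

theorem near_symm (g : Geo p m 1 1 XX) (hm : p + 3 ≤ m) (hp : 3 ≤ p) {a b : Ω} (h : g.Near a b) : g.Near b a := by
  obtain ⟨h1, h2, h3⟩ := h
  exact ⟨h1.symm, NF.symm h2, by rw [← symm11 g hm hp h1 h2]; exact h3⟩

/-- opposite points -/
def Opp (g : Geo p m B ε XX) (a b : Ω) : Prop := a ≠ b ∧ NF XX a b ∧ (g.S a b).card = 2

theorem opp_symm (g : Geo p m 1 1 XX) (hm : p + 3 ≤ m) (hp : 3 ≤ p) {a b : Ω} (h : Opp g a b) : Opp g b a := by
  obtain ⟨h1, h2, h3⟩ := h
  exact ⟨h1.symm, NF.symm h2, by rw [← symm11 g hm hp h1 h2]; exact h3⟩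

theorem near_or_opp (g : Geo p m B ε XX) {a b : Ω} (hab : a ≠ b) (hn : NF XX a b) : g.Near a b ∨ Opp g a b := by
  obtain ⟨h1, h2⟩ := g.card_S a b hab hn
  have h5 : (g.S a b).card = 1 ∨ (g.S a b).card = 2 := by omega
  rcases h5 with h5 | h5
  · exact Or.inl ⟨hab, hn, h5⟩
  · exact Or.inr ⟨hab, hn, h5⟩

theorem not_near_opp (g : Geo p m B ε XX) {a b : Ω} (h : g.Near a b) (h' : Opp g a b) : False := by
  have h1 := h.2.2
  have h2 := h'.2.2
  omega

/-- in a flat of rank 2: existence and uniqueness of the opposite point -/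
theorem rank2 (g : Geo p m 1 1 XX) (hm : p + 3 ≤ m) (hp : 3 ≤ p) (a : Ω) (T : Finset (Fin m)) (hT : T.card = 2)
    (c : Ω) (hc : c ∈ fl g a T) :
    ∃ y ∈ fl g a T, Opp g c y ∧ (∀ z ∈ fl g a T, Opp g c z → z = y) ∧
      (∀ z ∈ fl g a T, z ≠ c → NF XX c z ∧ g.S c z ⊆ g.S c y) := by
  obtain ⟨T', h3, h4, h5⟩ := fl_change' g (by omega) a T (by omega) (fun r hr => inj11 _ _ hr) c hc
  rw [hT] at h3
  obtain ⟨y, hy1, hy2, hy3⟩ := exists2 g c T' h3
  have hmem := mem_fl g (by omega) c T' (by omega)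
  rw [h4] at hmem
  refine ⟨y, (hmem y).2 (Or.inr ⟨hy1, hy2, hy3.subset⟩), ⟨hy1, hy2, by rw [hy3, h3]⟩, ?_, ?_⟩
  · intro z hz hzo
    rcases (hmem z).1 hz with h6 | ⟨h6, h7, h8⟩
    · exact absurd h6.symm hzo.1
    · refine uniq1 g h6 hy1 h7 hy2 ?_
      rw [hy3]
      exact Finset.eq_of_subset_of_card_le h8 (by rw [h3, hzo.2.2])
  · intro z hz hzc
    rcases (hmem z).1 hz with h6 | ⟨h6, h7, h8⟩
    · exact absurd h6 hzc
    · exact ⟨h7, by rw [hy3]; exact h8⟩

/-- two neighbours of a point are opposite -/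
theorem tri (g : Geo p m 1 1 XX) (hm : p + 3 ≤ m) (hp : 3 ≤ p) {b z d : Ω} (hz : g.Near b z) (hd : g.Near b d)
    (hzd : z ≠ d) : Opp g z d ∧ g.S z b ⊆ g.S z d := by
  classical
  obtain ⟨i, hi⟩ := Finset.card_eq_one.1 hz.2.2
  obtain ⟨j, hj⟩ := Finset.card_eq_one.1 hd.2.2
  have hij : i ≠ j := by
    rintro rfl
    exact hzd (uniq1 g hz.1 hd.1 hz.2.1 hd.2.1 (by rw [hi, hj]))
  have hT : ({i, j} : Finset (Fin m)).card = 2 := Finset.card_pair hij
  set F := fl g b {i, j} with hF
  have hmem := mem_fl g (by omega) b {i, j} (by omega)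
  have hbF : b ∈ F := self_mem_fl g b _
  have hzF : z ∈ F := (hmem z).2 (Or.inr ⟨hz.1, hz.2.1, by rw [hi]; simp⟩)
  have hdF : d ∈ F := (hmem d).2 (Or.inr ⟨hd.1, hd.2.1, by rw [hj]; simp⟩)
  obtain ⟨w, hwF, hw1, hw2, hw3⟩ := rank2 g hm hp b {i, j} hT z hzF
  have hwd : w = d := by
    by_contra hwd
    obtain ⟨b', hbF', hb1, hb2, hb3⟩ := rank2 g hm hp b {i, j} hT b hbF
    have hwb : w ≠ b := by
      rintro rfl
      exact not_near_opp g (near_symm g hm hp hz) hw1
    have hwz : w ≠ z := hw1.1.symm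
    have hbb : b' ≠ b := hb1.1.symm
    have hbz : b' ≠ z := by
      rintro rfl
      exact not_near_opp g hz hb1
    have hbd : b' ≠ d := by
      rintro rfl
      exact not_near_opp g hd hb1
    have hbw : b' = w := by
      by_contra hbw
      have h1 : (↑({b, z, d, w, b'} : Finset Ω) : Set Ω) ⊆ F := by
        intro y hy
        simp only [Finset.coe_insert, Finset.coe_singleton, Set.mem_insert_iff, Set.mem_singleton_iff] at hy
        rcases hy with rfl | rfl | rfl | rfl | rfl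
        · exact hbF
        · exact hzF
        · exact hdF
        · exact hwF
        · exact hbF'
      have h2 := Set.ncard_le_ncard h1
      rw [Set.ncard_coe_finset, hF, card_fl g (by omega) b _ (by omega), hT] at h2
      have h3 : ({b, z, d, w, b'} : Finset Ω).card = 5 := by
        rw [Finset.card_insert_of_notMem, Finset.card_insert_of_notMem, Finset.card_insert_of_notMem,
          Finset.card_insert_of_notMem, Finset.card_singleton]
        · simpa using fun h => hbw h.symm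
        · simpa using ⟨fun h => hwd h.symm, fun h => hbd h.symm⟩
        · simpa using ⟨hzd, fun h => hwz h.symm, fun h => hbz h.symm⟩
        · simpa using ⟨hz.1, hd.1, fun h => hwb h.symm, fun h => hbb h.symm⟩
      rw [h3] at h2
      norm_num [Nat.choose] at h2
    rw [hbw] at hb1
    obtain ⟨y, hyF, hy1, hy2, hy3⟩ := rank2 g hm hp b {i, j} hT w hwF
    have h4 := hy2 b hbF (opp_symm g hm hp hb1)
    have h5 := hy2 z hzF (opp_symm g hm hp hw1)
    exact hz.1 (h4.trans h5.symm)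
  rw [hwd] at hw1 hw3
  exact ⟨hw1, (hw3 b hbF hz.1).2⟩

/-- `b` is a neighbour of `a`, `w` is opposite to `a`, the label of `b` is in the label of `w`: `b`, `w` are
neighbours -/
theorem near_of_sub (g : Geo p m 1 1 XX) (hm : p + 3 ≤ m) (hp : 3 ≤ p) {a b w : Ω} (hb : g.Near a b) (hw : Opp g a w)
    (hs : g.S a b ⊆ g.S a w) : g.Near b w := by
  have hmem := mem_fl g (by omega) a (g.S a w) (by rw [hw.2.2]; omega)
  have hwF : w ∈ fl g a (g.S a w) := (hmem w).2 (Or.inr ⟨hw.1, hw.2.1, Finset.Subset.refl _⟩)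
  have hbF : b ∈ fl g a (g.S a w) := (hmem b).2 (Or.inr ⟨hb.1, hb.2.1, hs⟩)
  have hbw : b ≠ w := by
    rintro rfl
    exact not_near_opp g hb hw
  obtain ⟨y, hyF, hy1, hy2, hy3⟩ := rank2 g hm hp a (g.S a w) hw.2.2 w hwF
  have h1 := hy2 a (self_mem_fl g a _) (opp_symm g hm hp hw)
  have h2 := hy3 b hbF hbw
  apply near_symm g hm hp
  rcases near_or_opp g hbw.symm h2.1 with h | h
  · exact h
  · exact absurd ((hy2 b hbF h).trans h1.symm) hb.1.symm

theorem case11' (g : Geo p m 1 1 XX) [Nonempty Ω] (hm : p + 3 ≤ m) (hp : 3 ≤ p) : False := by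
  classical
  obtain ⟨a⟩ := (inferInstance : Nonempty Ω)
  set i : Fin m := ⟨0, by omega⟩ with hidef
  set j : Fin m := ⟨1, by omega⟩ with hjdef
  have hij : i ≠ j := by
    intro h
    have := congrArg Fin.val h
    simp [hidef, hjdef] at this
  obtain ⟨d, had, hnd, hSd⟩ := exists2 g a {i, j} (Finset.card_pair hij)
  have hod : Opp g a d := ⟨had, hnd, by rw [hSd]; exact Finset.card_pair hij⟩
  obtain ⟨bi, habi, hnbi, hSbi⟩ := exists1 g a i
  obtain ⟨bj, habj, hnbj, hSbj⟩ := exists1 g a j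
  have hbi : g.Near a bi := ⟨habi, hnbi, by rw [hSbi]; simp⟩
  have hbj : g.Near a bj := ⟨habj, hnbj, by rw [hSbj]; simp⟩
  have hbij : bi ≠ bj := by
    rintro rfl
    rw [hSbi] at hSbj
    exact hij (Finset.singleton_injective hSbj)
  have hid : g.Near bi d := near_of_sub g hm hp hbi hod (by rw [hSbi, hSd]; simp)
  have hjd : g.Near bj d := near_of_sub g hm hp hbj hod (by rw [hSbj, hSd]; simp)
  have hdi := near_symm g hm hp hid
  have hdj := near_symm g hm hp hjd
  obtain ⟨i', hi'⟩ := Finset.card_eq_one.1 hdi.2.2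
  obtain ⟨j', hj'⟩ := Finset.card_eq_one.1 hdj.2.2
  have hij' : i' ≠ j' := by
    intro h
    exact hbij (uniq1 g hdi.1 hdj.1 hdi.2.1 hdj.2.1 (by rw [hi', hj', h]))
  -- a third index
  obtain ⟨k, hk⟩ : ∃ k : Fin m, k ∉ ({i', j'} : Finset (Fin m)) := by
    by_contra hcon
    push Not at hcon
    have h1 : (Finset.univ : Finset (Fin m)) ⊆ {i', j'} := fun k _ => hcon k
    have h2 := Finset.card_le_card h1
    rw [Finset.card_univ, Fintype.card_fin, Finset.card_pair hij'] at h2
    omega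
  obtain ⟨z, hdz, hnz, hSz⟩ := exists1 g d k
  have hz : g.Near d z := ⟨hdz, hnz, by rw [hSz]; simp⟩
  have hzi : z ≠ bi := by
    rintro rfl
    rw [hSz] at hi'
    exact hk (by rw [Finset.singleton_injective hi']; simp)
  have hzj : z ≠ bj := by
    rintro rfl
    rw [hSz] at hj'
    exact hk (by rw [Finset.singleton_injective hj']; simp)
  have hda : Opp g d a := opp_symm g hm hp hod
  have hza : z ≠ a := by
    rintro rfl
    exact not_near_opp g hz hda
  -- the label of `a` with respect to `d`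
  have h1 : g.S d bi ⊆ g.S d a := (tri g hm hp hid (near_symm g hm hp hbi) had.symm).2
  have h2 : g.S d bj ⊆ g.S d a := (tri g hm hp hjd (near_symm g hm hp hbj) had.symm).2
  have h3 : g.S d a = {i', j'} := by
    symm
    apply Finset.eq_of_subset_of_card_le
    · intro x hx
      rw [Finset.mem_insert, Finset.mem_singleton] at hx
      rcases hx with rfl | rfl
      · exact h1 (by rw [hi']; simp)
      · exact h2 (by rw [hj']; simp)
    · rw [hda.2.2, Finset.card_pair hij']
  -- the flat of rank 3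
  set T : Finset (Fin m) := insert k {i', j'} with hT
  have hTc : T.card = 3 := by
    rw [hT, Finset.card_insert_of_notMem hk, Finset.card_pair hij']
  have hmem := mem_fl g (by omega) d T (by omega)
  have haF : a ∈ fl g d T := (hmem a).2 (Or.inr ⟨had.symm, hda.2.1, by rw [h3, hT]; exact Finset.subset_insert _ _⟩)
  have hzF : z ∈ fl g d T := (hmem z).2 (Or.inr ⟨hdz, hnz, by rw [hSz, hT]; simp⟩)
  obtain ⟨T', h4, h5, h6⟩ := fl_change' g (by omega) d T (by omega) (fun r hr => inj11 _ _ hr) a haF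
  have hmem' := mem_fl g (by omega) a T' (by omega)
  rw [h5] at hmem'
  rcases (hmem' z).1 hzF with h | ⟨haz, hnaz, hSaz⟩
  · exact hza h
  · have hSad : g.S a d ⊆ T' := by
      intro x hx
      rw [h6]
      exact ⟨d, self_mem_fl g d T, had.symm, hx⟩
    rcases near_or_opp g haz hnaz with hnear | hopp
    · have h7 := (tri g hm hp (near_symm g hm hp hnear) (near_symm g hm hp hz) had).2
      obtain ⟨l, hl⟩ := Finset.card_eq_one.1 hnear.2.2
      rw [hl, hSd, Finset.singleton_subset_iff, Finset.mem_insert, Finset.mem_singleton] at h7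
      rcases h7 with rfl | rfl
      · exact hzi (uniq1 g haz habi hnaz hnbi (by rw [hl, hSbi]))
      · exact hzj (uniq1 g haz habj hnaz hnbj (by rw [hl, hSbj]))
    · have h8 : (g.S a z ∩ g.S a d).Nonempty := by
        rw [← Finset.card_pos]
        have h9 := Finset.card_union_add_card_inter (g.S a z) (g.S a d)
        have h10 := Finset.card_le_card (Finset.union_subset hSaz hSad)
        rw [hopp.2.2, hod.2.2] at h9
        omega
      obtain ⟨l, hl⟩ := h8
      rw [Finset.mem_inter] at hl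
      obtain ⟨b', hab', hnb', hSb'⟩ := exists1 g a l
      have hb' : g.Near a b' := ⟨hab', hnb', by rw [hSb']; simp⟩
      have h11 := near_of_sub g hm hp hb' hopp (by rw [hSb']; simpa using hl.1)
      have h12 := near_of_sub g hm hp hb' hod (by rw [hSb']; simpa using hl.2)
      exact not_near_opp g hz (tri g hm hp h12 h11 hdz).1

end case11

/-! ### The case `(0, 1)` -/

theorem exists2' (g : Geo p m 0 1 XX) (a : Ω) (i j : Fin m) (hij : i ≠ j) :
    ∃ b, a ≠ b ∧ NF XX a b ∧ g.S a b = {i, j} := by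
  obtain ⟨z, hz⟩ := Set.ncard_eq_one.1 (g.card_ε a i j hij)
  exact ⟨z, by have : z ∈ ({z} : Set Ω) := rfl
               rw [← hz] at this
               exact this⟩

/-- the label set of a flat is determined by the flat -/
theorem sub_of_fl_sub (g : Geo p m 0 1 XX) (hp : 1 ≤ p) (a : Ω) (T T' : Finset (Fin m)) (hT : T.card + p ≤ m)
    (hT' : T'.card + p ≤ m) (h2 : 2 ≤ T.card) (h : fl g a T ⊆ fl g a T') : T ⊆ T' := by
  classical
  intro i hi
  obtain ⟨j, hj⟩ : (T.erase i).Nonempty := by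
    rw [← Finset.card_pos, Finset.card_erase_of_mem hi]; omega
  rw [Finset.mem_erase] at hj
  obtain ⟨y, h3, h4, h5⟩ := exists2' g a i j hj.1.symm
  have h6 : y ∈ fl g a T := (mem_fl g hp a T hT y).2 (Or.inr ⟨h3, h4, by
    rw [h5]
    intro x hx
    rw [Finset.mem_insert, Finset.mem_singleton] at hx
    rcases hx with rfl | rfl
    · exact hi
    · exact hj.2⟩)
  rcases (mem_fl g hp a T' hT' y).1 (h h6) with h7 | ⟨-, -, h8⟩
  · exact absurd h7.symm h3
  · exact h8 (by rw [h5]; simp)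

theorem fl_mono (g : Geo p m B ε XX) (a : Ω) {T T' : Finset (Fin m)} (h : T ⊆ T') : fl g a T ⊆ fl g a T' :=
  fun _ hy x hx hxa hd => hy x hx hxa (Finset.disjoint_of_subset_right h hd)

theorem case01' [Finite Ω] (g : Geo p m 0 1 XX) [Nonempty Ω] (hm : p + 5 ≤ m) (hp : 1 ≤ p) : False := by
  classical
  have : Fintype Ω := Fintype.ofFinite Ω
  obtain ⟨a⟩ := (inferInstance : Nonempty Ω)
  obtain ⟨T, -, hT⟩ := Finset.exists_subset_card_eq (s := (Finset.univ : Finset (Fin m))) (n := 5)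
    (by rw [Finset.card_univ, Fintype.card_fin]; omega)
  set F := fl g a T with hF
  have hFc : F.ncard = 11 := by
    rw [hF, card_fl g hp a T (by omega), hT]
    norm_num [Nat.choose]
  set t : Finset (Set Ω) := Finset.univ.filter (fun R => R ⊆ F ∧ ∃ (c : Ω) (T' : Finset (Fin m)), T'.card = 4 ∧ R = fl g c T')
    with ht
  have hmain : F.toFinset.card * 5 = t.card * 7 := by
    refine Finset.card_mul_eq_card_mul (fun (c : Ω) (R : Set Ω) => c ∈ R) ?_ ?_
    · intro c hc
      rw [Set.mem_toFinset] at hc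
      obtain ⟨Tc, h1, h2, h3⟩ := fl_change' g hp a T (by omega) (fun r hr => inj01 _ _ (by omega) hr) c hc
      have h4 : (Tc.powersetCard 4).card = 5 := by
        rw [Finset.card_powersetCard, h1, hT]
        norm_num [Nat.choose]
      rw [← h4]
      symm
      refine Finset.card_bij (fun U _ => fl g c U) ?_ ?_ ?_
      · intro U hU
        rw [Finset.mem_powersetCard] at hU
        rw [Finset.bipartiteAbove, Finset.mem_filter, ht, Finset.mem_filter]
        exact ⟨⟨Finset.mem_univ _, by rw [hF, ← h2]; exact fl_mono g c hU.1, c, U, hU.2, rfl⟩, self_mem_fl g c U⟩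
      · intro U hU U' hU' h
        rw [Finset.mem_powersetCard] at hU hU'
        apply Finset.Subset.antisymm
        · exact sub_of_fl_sub g hp c U U' (by omega) (by omega) (by omega) (le_of_eq h)
        · exact sub_of_fl_sub g hp c U' U (by omega) (by omega) (by omega) (le_of_eq h.symm)
      · intro R hR
        rw [Finset.bipartiteAbove, Finset.mem_filter, ht, Finset.mem_filter] at hR
        obtain ⟨⟨-, hRF, c', T', hT', rfl⟩, hcR⟩ := hR
        obtain ⟨U, h5, h6, h7⟩ := fl_change' g hp c' T' (by omega) (fun r hr => inj01 _ _ (by omega) hr) c hcR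
        refine ⟨U, ?_, h6⟩
        rw [Finset.mem_powersetCard]
        refine ⟨?_, by omega⟩
        intro i hi
        obtain ⟨y, hy, hyc, hiy⟩ := (h7 i).1 hi
        exact (h3 i).2 ⟨y, hRF hy, hyc, hiy⟩
    · intro R hR
      rw [ht, Finset.mem_filter] at hR
      obtain ⟨-, hRF, c', T', hT', rfl⟩ := hR
      have h1 := card_fl g hp c' T' (by omega)
      rw [hT'] at h1
      norm_num [Nat.choose] at h1
      rw [← h1, ← Set.ncard_coe_finset]
      congr 1
      ext y
      rw [Finset.mem_coe, Finset.bipartiteBelow, Finset.mem_filter, Set.mem_toFinset]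
      exact ⟨fun h => h.2, fun h => ⟨hRF h, h⟩⟩
  rw [← Set.ncard_eq_toFinset_card', hFc] at hmain
  omega

end Cfsg.Agent.H903.GeoCase

namespace Cfsg.Agent.H903.GeoCase.Task

universe u

variable {Ω : Type u} {p m B ε : ℕ} {XX : Set (Perm Ω)}

/-- closure of a flat of rank `r`: number of points -/
theorem Geo.card_closure (g : Geo p m B ε XX) [Finite Ω] (hm : p + 3 ≤ m) (hp : 3 ≤ p) (a : Ω) (T : Finset (Fin m))
    (hT : T.card + p ≤ m) :
    {y | ∀ x ∈ XX, x a = a → Disjoint (g.P a x) T → x y = y}.ncard = 1 + B * T.card + ε * T.card.choose 2 :=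
  card_fl g (by omega) a T hT

theorem Geo.case01 (g : Geo p m 0 1 XX) [Finite Ω] [Nonempty Ω] (hm : p + 5 ≤ m) (hp : 3 ≤ p) : False :=
  case01' g hm (by omega)

theorem Geo.case11 (g : Geo p m 1 1 XX) [Finite Ω] [Nonempty Ω] (hm : p + 3 ≤ m) (hp : 3 ≤ p) (_hc : g.Conn) : False :=
  case11' g hm hp

end Cfsg.Agent.H903.GeoCase.Task
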