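/-
helper903: regular vectors, unitary case (S5762).
-/
import Mathlib
import Cfsg.Agent.BpLin.Descent
import Cfsg.Agent.H903.SylRegSp

set_option autoImplicit false

namespace Cfsg.Agent.H903.SylReg

open Finset

section herm

variable {F : Type*} [Field F] [Finite F] {E : Type*} [AddCommGroup E] [Module F E]

/-- the fixed field -/
def fixK {F : Type*} [Field F] (σ : F ≃+* F) : AddSubgroup F where
  carrier := {a | σ a = a}
  add_mem' := by
    intro a b ha hb
    change σ (a + b) = a + b
    rw [map_add, ha, hb]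
  zero_mem' := map_zero σ
  neg_mem' := by
    intro a ha
    change σ (-a) = -a
    rw [map_neg, ha]

/-- A hermitian form. -/
structure HF (σ : F ≃+* F) (h : E → E → F) : Prop where
  inv : ∀ a, σ (σ a) = a
  ne : ∃ a, σ a ≠ a
  add : ∀ x y z, h (x + y) z = h x z + h y z
  smul : ∀ (a : F) x y, h (a • x) y = a * h x y
  symm : ∀ x y, h y x = σ (h x y)

namespace HF

variable {σ : F ≃+* F} {h : E → E → F} (U : HF σ h)

include U

omit [Finite F] in
theorem add_right (x y z : E) : h x (y + z) = h x y + h x z := by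
  rw [U.symm (y + z) x, U.add, map_add, ← U.symm, ← U.symm]

omit [Finite F] in
theorem smul_right (a : F) (x y : E) : h x (a • y) = σ a * h x y := by
  rw [U.symm (a • y) x, U.smul, map_mul, ← U.symm]

omit [Finite F] in
theorem zero_left (x : E) : h 0 x = 0 := by
  have := U.smul 0 0 x
  rwa [zero_smul, zero_mul] at this

omit [Finite F] in
theorem zero_right (x : E) : h x 0 = 0 := by
  rw [U.symm 0 x, U.zero_left, map_zero]

omit [Finite F] in
theorem neg_left (x y : E) : h (-x) y = - h x y := by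
  have := U.smul (-1) x y
  rwa [neg_one_smul, neg_one_mul] at this

omit [Finite F] in
theorem sub_left (x y z : E) : h (x - y) z = h x z - h y z := by
  rw [sub_eq_add_neg, U.add, U.neg_left]; ring

omit [Finite F] in
theorem fixed (x : E) : σ (h x x) = h x x := (U.symm x x).symm

theorem norm {c : F} (hc0 : c ≠ 0) (hc : σ c = c) : ∃ t : F, t ≠ 0 ∧ t * σ t = c := by
  have h2 : σ ^ 2 = 1 := by
    ext a
    rw [pow_two]
    exact U.inv a
  have h1 : σ ≠ 1 := by
    rintro rfl
    obtain ⟨a, ha⟩ := U.ne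
    exact ha rfl
  obtain ⟨t, ht, hn⟩ := Cfsg.Agent.BpLin.exists_norm Nat.prime_two h2 h1 hc0 hc
  refine ⟨t, ht, ?_⟩
  rw [← hn, Cfsg.Agent.BpLin.nrm, Finset.prod_range_succ, Finset.prod_range_one]
  simp

omit [Finite F] in
/-- non-isotropic vectors -/
theorem exists_noniso {W : Submodule F E} (hW : W ≠ ⊥) (hnd : ∀ x ∈ W, (∀ y ∈ W, h x y = 0) → x = 0) :
    ∃ x ∈ W, h x x ≠ 0 := by
  by_contra hcon
  push Not at hcon
  obtain ⟨w, hw, hw0⟩ := (Submodule.ne_bot_iff _).1 hW
  apply hw0
  refine hnd w hw fun y hy => ?_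
  have key : ∀ x ∈ W, ∀ y ∈ W, σ (h x y) = - h x y := by
    intro x hx y hy
    have h1 := hcon _ (W.add_mem hx hy)
    rw [U.add, U.add_right, U.add_right, hcon x hx, hcon y hy, zero_add, add_zero,
      U.symm x y] at h1
    exact eq_neg_of_add_eq_zero_right h1
  obtain ⟨a, ha⟩ := U.ne
  have h1 := key w hw y hy
  have h2 := key (a • w) (W.smul_mem a hw) y hy
  rw [U.smul, map_mul, h1] at h2
  have h3 : (σ a - a) * h w y = 0 := by linear_combination -h2
  exact (mul_eq_zero.1 h3).resolve_left (sub_ne_zero.2 ha)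

/-- vectors of any non-zero norm -/
theorem exists_val {W : Submodule F E} (hW : W ≠ ⊥) (hnd : ∀ x ∈ W, (∀ y ∈ W, h x y = 0) → x = 0)
    {c : F} (hc0 : c ≠ 0) (hc : σ c = c) : ∃ x ∈ W, h x x = c := by
  obtain ⟨x, hx, hxx⟩ := U.exists_noniso hW hnd
  obtain ⟨t, ht, htc⟩ := U.norm (c := c / h x x) (div_ne_zero hc0 hxx) (by
    rw [map_div₀, hc, U.fixed])
  refine ⟨t • x, W.smul_mem t hx, ?_⟩
  rw [U.smul, U.smul_right, ← mul_assoc, htc, div_mul_cancel₀ _ hxx]

omit [Finite F] in
/-- The orthogonal projection along a non-isotropic vector. -/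
theorem orth_part {x : E} (hxx : h x x ≠ 0) (y : E) : h (y - (h y x / h x x) • x) x = 0 := by
  rw [U.sub_left, U.smul, div_mul_cancel₀ _ hxx, sub_self]

/-- isotropic vectors in dimension at least two -/
theorem exists_iso {W : Submodule F E} (hW : 2 ≤ Module.finrank F W)
    (hnd : ∀ x ∈ W, (∀ y ∈ W, h x y = 0) → x = 0) : ∃ x ∈ W, x ≠ 0 ∧ h x x = 0 := by
  have hWb : W ≠ ⊥ := by
    rintro rfl
    rw [finrank_bot] at hW
    omega
  obtain ⟨x, hx, hxx⟩ := U.exists_noniso hWb hnd
  obtain ⟨y, hy, hyx⟩ : ∃ y ∈ W, y ∉ Submodule.span F {x} := by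
    by_contra hcon
    push Not at hcon
    have h1 : W ≤ Submodule.span F {x} := hcon
    have h2 := Submodule.finrank_mono h1
    have h3 := finrank_span_le_card (R := F) ({x} : Set E)
    simp at h3
    omega
  set y' := y - (h y x / h x x) • x with hy'
  have hy'W : y' ∈ W := W.sub_mem hy (W.smul_mem _ hx)
  have horth : h y' x = 0 := U.orth_part hxx y
  have hy'0 : y' ≠ 0 := by
    intro h0
    apply hyx
    rw [Submodule.mem_span_singleton]
    exact ⟨h y x / h x x, (sub_eq_zero.1 h0).symm⟩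
  by_cases hn : h y' y' = 0
  · exact ⟨y', hy'W, hy'0, hn⟩
  · obtain ⟨t, ht, htc⟩ := U.norm (c := - (h x x / h y' y')) (neg_ne_zero.2 (div_ne_zero hxx hn)) (by
      rw [map_neg, map_div₀, U.fixed, U.fixed])
    have horth' : h x y' = 0 := by rw [U.symm y' x, horth, map_zero]
    refine ⟨x + t • y', W.add_mem hx (W.smul_mem _ hy'W), fun h0 => ?_, ?_⟩
    · have h1 : h (x + t • y') x = 0 := by rw [h0, U.zero_left]
      rw [U.add, U.smul, horth, mul_zero, add_zero] at h1
      exact hxx h1
    · rw [U.add, U.add_right, U.add_right, U.smul, U.smul, U.smul_right, U.smul_right, horth,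
        horth', mul_zero, mul_zero, ← mul_assoc, htc]
      field_simp
      ring

omit [Finite F] in
/-- a norm one element different from `1` -/
theorem exists_mu : ∃ μ : F, μ ≠ 1 ∧ μ * σ μ = 1 := by
  obtain ⟨a, ha⟩ := U.ne
  have ha0 : a ≠ 0 := by rintro rfl; exact ha (map_zero σ)
  have hs0 : σ a ≠ 0 := (map_ne_zero σ).2 ha0
  refine ⟨a / σ a, fun h1 => ?_, ?_⟩
  · rw [div_eq_one_iff_eq hs0] at h1
    exact ha h1.symm
  · rw [map_div₀, U.inv]
    field_simp

/-- The fixed field has at least four elements if there is a norm one element of order `≥ 5`. -/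
theorem card_K {a : F} (ha : a * σ a = 1) (hord : ∀ k, 0 < k → k < 5 → a ^ k ≠ 1) :
    4 ≤ Nat.card (fixK σ) := by
  classical
  obtain ⟨θ, hθ⟩ := U.ne
  have ha0 : a ≠ 0 := by
    rintro rfl
    rw [zero_mul] at ha
    exact zero_ne_one ha
  have hsa : σ a = a⁻¹ := (inv_eq_of_mul_eq_one_right ha).symm
  let t : F → F := fun μ => (θ - μ * σ θ) / (μ - 1)
  have htK : ∀ k : ℕ, a ^ k ≠ 1 → t (a ^ k) ∈ (fixK σ) := by
    intro k hk
    change σ (t (a ^ k)) = t (a ^ k)
    simp only [t]
    have hk0 : a ^ k ≠ 0 := pow_ne_zero _ ha0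
    rw [map_div₀, map_sub, map_sub, map_mul, map_pow, map_one, U.inv, hsa, inv_pow]
    rw [div_eq_div_iff]
    · field_simp
      ring
    · intro h0
      rw [sub_eq_zero, inv_eq_one] at h0
      exact hk h0
    · exact sub_ne_zero.2 hk
  have htinj : ∀ μ ν : F, μ ≠ 1 → ν ≠ 1 → t μ = t ν → μ = ν := by
    intro μ ν hμ hν he
    simp only [t] at he
    rw [div_eq_div_iff (sub_ne_zero.2 hμ) (sub_ne_zero.2 hν)] at he
    have h1 : (μ - ν) * (σ θ - θ) = 0 := by linear_combination he
    exact sub_eq_zero.1 ((mul_eq_zero.1 h1).resolve_right (sub_ne_zero.2 hθ))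
  have hk : ∀ i : Fin 4, a ^ ((i : ℕ) + 1) ≠ 1 := fun i => hord _ (by omega) (by omega)
  let f : Fin 4 → (fixK σ) := fun i => ⟨t (a ^ ((i : ℕ) + 1)), htK _ (hk i)⟩
  have hinj : Function.Injective f := by
    intro i j hij
    have h1 := htinj _ _ (hk i) (hk j) (congrArg Subtype.val hij)
    have key : ∀ i j : Fin 4, i < j → a ^ ((i : ℕ) + 1) ≠ a ^ ((j : ℕ) + 1) := by
      intro i j hlt he
      have hl : (i : ℕ) < j := hlt
      have h2 : a ^ ((j : ℕ) + 1) = a ^ ((i : ℕ) + 1) * a ^ ((j : ℕ) - i) := by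
        rw [← pow_add]; congr 1; omega
      rw [h2] at he
      exact hord ((j : ℕ) - i) (by omega) (by omega)
        (mul_left_cancel₀ (pow_ne_zero _ ha0) (by rw [← he, mul_one]))
    rcases lt_trichotomy i j with hlt | rfl | hlt
    · exact absurd h1 (key i j hlt)
    · rfl
    · exact absurd h1.symm (key j i hlt)
  haveI := Fintype.ofFinite (fixK σ)
  have := Fintype.card_le_of_injective f hinj
  simpa [Nat.card_eq_fintype_card] using this

end HF

/-- a non-zero vector annihilated by nothing -/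
theorem HF.reg_two {σ : F ≃+* F} {h : E → E → F} (U : HF σ h) [Finite E] {p : ℕ}
    {R : Subgroup (E ≃ₗ[F] E)} (hR : IsPGroup p R) (hRh : ∀ r ∈ R, ∀ x y, h (r x) (r y) = h x y)
    (hA : ∀ a : F, a * σ a = 1 → (∃ k : ℕ, a ^ p ^ k = 1) → a = 1)
    {W : Submodule F E} (hinv : ∀ r ∈ R, ∀ w ∈ W, r w ∈ W)
    (hnd : ∀ x ∈ W, (∀ y ∈ W, h x y = 0) → x = 0) (h2 : Module.finrank F W ≤ 2)
    {x : E} (hx : x ∈ W) (hxx : h x x ≠ 0) {r : E ≃ₗ[F] E} (hr : r ∈ R) (hrx : r x = x) :
    ∀ w ∈ W, r w = w := by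
  intro y hy
  have hx0 : x ≠ 0 := by
    rintro rfl
    exact hxx (U.zero_left 0)
  set y' := y - (h y x / h x x) • x with hy'
  have hy'W : y' ∈ W := W.sub_mem hy (W.smul_mem _ hx)
  have horth : h y' x = 0 := U.orth_part hxx y
  have hyy : y = y' + (h y x / h x x) • x := by rw [hy']; abel
  suffices hs : r y' = y' by
    rw [hyy, map_add, map_smul, hrx, hs]
  by_cases hy'0 : y' = 0
  · rw [hy'0, map_zero]
  have hli : LinearIndependent F ![x, y'] := by
    rw [LinearIndependent.pair_iff]
    intro s t hst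
    have h1 : h (s • x + t • y') x = 0 := by rw [hst, U.zero_left]
    rw [U.add, U.smul, U.smul, horth, mul_zero, add_zero] at h1
    have hs : s = 0 := (mul_eq_zero.1 h1).resolve_right hxx
    rw [hs, zero_smul, zero_add] at hst
    exact ⟨hs, (smul_eq_zero.1 hst).resolve_right hy'0⟩
  have hsp : Submodule.span F {x, y'} = W := by
    have hle : Submodule.span F {x, y'} ≤ W := by
      rw [Submodule.span_le]
      rintro u (rfl | rfl)
      · exact hx
      · exact hy'W
    apply Submodule.eq_of_le_of_finrank_le hle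
    have h3 := finrank_span_eq_card hli
    have hrg : Set.range ![x, y'] = {x, y'} := Matrix.range_cons_cons_empty x y' _
    rw [hrg, Fintype.card_fin] at h3
    rw [h3]; exact h2
  have hcoord : ∀ u ∈ W, h u x = 0 → ∃ a : F, u = a • y' := by
    intro u hu hux
    rw [← hsp, Submodule.mem_span_pair] at hu
    obtain ⟨s, t, rfl⟩ := hu
    rw [U.add, U.smul, U.smul, horth, mul_zero, add_zero] at hux
    have hs : s = 0 := (mul_eq_zero.1 hux).resolve_right hxx
    exact ⟨t, by rw [hs, zero_smul, zero_add]⟩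
  obtain ⟨a, ha⟩ := hcoord (r y') (hinv r hr _ hy'W) (by
    conv_lhs => rw [← hrx]
    rw [hRh r hr, horth])
  have hyy' : h y' y' ≠ 0 := by
    intro h0
    apply hy'0
    refine hnd y' hy'W fun u hu => ?_
    rw [← hsp, Submodule.mem_span_pair] at hu
    obtain ⟨s, t, rfl⟩ := hu
    rw [U.add_right, U.smul_right, U.smul_right, horth, h0, mul_zero, mul_zero, add_zero]
  have ha1 : a * σ a = 1 := by
    have h1 := hRh r hr y' y'
    rw [ha, U.smul, U.smul_right, ← mul_assoc] at h1
    exact (mul_eq_right₀ hyy').1 h1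
  obtain ⟨n, hn⟩ := hR ⟨r, hr⟩
  have hn' : r ^ p ^ n = 1 := by simpa using congrArg Subtype.val hn
  have hpow : ∀ m : ℕ, (r ^ m) y' = a ^ m • y' := by
    intro m
    induction m with
    | zero => simp
    | succ m ih => rw [pow_succ, LinearEquiv.mul_apply, ha, map_smul, ih, smul_smul, pow_succ']
  have h4 : a ^ p ^ n = 1 := by
    have h5 := hpow (p ^ n)
    rw [hn'] at h5
    have h6 : (a ^ p ^ n - 1) • y' = 0 := by
      rw [sub_smul, one_smul, ← h5]; simp
    exact sub_eq_zero.1 ((smul_eq_zero.1 h6).resolve_right hy'0)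
  rw [ha, hA a ha1 ⟨n, h4⟩, one_smul]

/-- **RegU.** -/
theorem regU (p : ℕ) [Fact p.Prime] (hp : 5 ≤ p) (F : Type*) [Field F] [Finite F] (E : Type*)
    [AddCommGroup E] [Module F E] [Finite E] (hpF : (p : F) ≠ 0) (hE : 3 ≤ Module.finrank F E) :
    RegU p F E := by
  intro σ hσ hσ1 h hadd hsmul hsymm hnd R hR hRh hsc
  have U : HF σ h := ⟨hσ, hσ1, hadd, hsmul, hsymm⟩
  have C : Ctx p R {LinearMap.id} h (fun x => h x x) :=
    { pF := hpF
      five := hp
      pg := hR
      comm := by rintro J rfl h _ x; rfl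
      βl := hadd
      βr := U.add_right
      βG := hRh
      NG := fun r hr x => hRh r hr x x
      Nadd := fun x y hxy hyx => by
        change h (x + y) (x + y) = h x x + h y y
        rw [U.add, U.add_right, U.add_right, hxy, hyx, add_zero, zero_add] }
  have hnd' : ∀ x ∈ (⊤ : Submodule F E), (∀ y ∈ (⊤ : Submodule F E), h x y = 0) → x = 0 :=
    fun x _ hx => hnd x fun y => hx y trivial
  have hne0 : ∀ {W : Submodule F E} {x : E}, Adm R {LinearMap.id} h R W →
      Good {LinearMap.id} R W x → x ≠ 0 := by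
    rintro W x A0 hx rfl
    obtain ⟨w, hw, hw0⟩ := (Submodule.ne_bot_iff _).1 A0.ne
    exact hw0 (A0.fix w hw fun h hh => hx.reg h hh (map_zero h) w hw)
  obtain ⟨V₀, W, T⟩ := exists_top C hnd
  by_cases hA : ∀ a : F, a * σ a = 1 → (∃ k : ℕ, a ^ p ^ k = 1) → a = 1
  · -- no scalars
    have hdim : ∀ (H : Subgroup (E ≃ₗ[F] E)) (W : Submodule F E), Adm R {LinearMap.id} h H W →
        2 ≤ Module.finrank F W := by
      intro H W A0
      by_contra hlt
      have h1 : Module.finrank F W ≤ 1 := by omega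
      obtain ⟨w, hw, hww⟩ := U.exists_noniso A0.ne A0.nd
      have hw0 : w ≠ 0 := by rintro rfl; exact hww (U.zero_left 0)
      have hsp : ∀ u ∈ W, ∃ a : F, a • w = u := by
        intro u hu
        obtain ⟨v, hv⟩ := finrank_le_one_iff.1 h1
        obtain ⟨c, hc⟩ := hv ⟨w, hw⟩
        obtain ⟨d, hd⟩ := hv ⟨u, hu⟩
        have hc' : c • (v : E) = w := congrArg Subtype.val hc
        have hd' : d • (v : E) = u := congrArg Subtype.val hd
        have hc0 : c ≠ 0 := by
          rintro rfl
          rw [zero_smul] at hc'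
          exact hw0 hc'.symm
        exact ⟨d * c⁻¹, by rw [← hc', smul_smul, mul_assoc, inv_mul_cancel₀ hc0, mul_one, hd']⟩
      apply hw0
      refine A0.fix w hw fun r hr => ?_
      obtain ⟨a, ha⟩ := hsp _ (A0.inv r hr w hw)
      have ha1 : a * σ a = 1 := by
        have h1 := hRh r (A0.le hr) w w
        rw [← ha, U.smul, U.smul_right, ← mul_assoc] at h1
        exact (mul_eq_right₀ hww).1 h1
      obtain ⟨n, hn⟩ := hR ⟨r, A0.le hr⟩
      have hn' : r ^ p ^ n = 1 := by simpa using congrArg Subtype.val hn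
      have hpow : ∀ m : ℕ, (r ^ m) w = a ^ m • w := by
        intro m
        induction m with
        | zero => simp
        | succ m ih => rw [pow_succ, LinearEquiv.mul_apply, ← ha, map_smul, ih, smul_smul, pow_succ']
      have h4 : a ^ p ^ n = 1 := by
        have h5 := hpow (p ^ n)
        rw [hn'] at h5
        have h6 : (a ^ p ^ n - 1) • w = 0 := by
          rw [sub_smul, one_smul, ← h5]; simp
        exact sub_eq_zero.1 ((smul_eq_zero.1 h6).resolve_right hw0)
      rw [← ha, hA a ha1 ⟨n, h4⟩, one_smul]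
    by_cases hW : W = ⊥
    · obtain ⟨v, -, hv, hvv⟩ := U.exists_iso (W := ⊤) (by rw [finrank_top]; omega) hnd'
      have h1 := T.eq_one_of_bot hW
      exact ⟨v, hv, hvv, fun h hh _ => h1 h hh, fun z hz hz1 => absurd (h1 z hz) hz1⟩
    · have A0 := T.adm hW
      by_cases h3 : 3 ≤ Module.finrank F W
      · obtain ⟨x, -, hx, -, hN, -, -⟩ := two_labels C (fun H W Bs => by
          obtain ⟨x, hx, hx0, hxx⟩ := U.exists_iso (hdim H W Bs.toAdm) Bs.nd
          obtain ⟨μ, hμ1, hμ⟩ := U.exists_mu
          have hμ0 : μ ≠ 0 := by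
            rintro rfl
            rw [zero_mul] at hμ
            exact zero_ne_one hμ
          refine ⟨x, μ • x, hx, W.smul_mem _ hx, hx0, smul_ne_zero hμ0 hx0, ?_, hxx, ?_, ?_⟩
          · rintro J rfl
            exact ⟨hx0, smul_ne_zero hμ0 hx0⟩
          · change h (μ • x) (μ • x) = 0
            rw [U.smul, U.smul_right, hxx, mul_zero, mul_zero]
          · intro r hr hrx
            obtain ⟨n, hn⟩ := hR ⟨r, Bs.le hr⟩
            have hn' : r ^ p ^ n = 1 := by simpa using congrArg Subtype.val hn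
            have hpow : ∀ m : ℕ, (r ^ m) x = μ ^ m • x := by
              intro m
              induction m with
              | zero => simp
              | succ m ih => rw [pow_succ, LinearEquiv.mul_apply, hrx, map_smul, ih, smul_smul, pow_succ']
            have h4 : μ ^ p ^ n = 1 := by
              have h5 := hpow (p ^ n)
              rw [hn'] at h5
              have h6 : (μ ^ p ^ n - 1) • x = 0 := by
                rw [sub_smul, one_smul, ← h5]; simp
              exact sub_eq_zero.1 ((smul_eq_zero.1 h6).resolve_right hx0)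
            exact hμ1 (hA μ hμ ⟨n, h4⟩)) R W A0
        refine ⟨0 + x, by rw [zero_add]; exact hne0 A0 hx, by rw [zero_add]; exact hN,
          T.reg_of V₀.zero_mem hx.reg, T.avoid_of_good V₀.zero_mem hx rfl (Or.inr h3)⟩
      · have hV : V₀ ≠ ⊥ := by
          intro hV
          apply h3
          have hWt : W = ⊤ := by
            rw [eq_top_iff]
            intro y _
            obtain ⟨v, hv, w, hw, rfl⟩ := T.sum y
            rw [hV, Submodule.mem_bot] at hv
            rw [hv, zero_add]; exact hw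
          rw [hWt, finrank_top]; exact hE
        obtain ⟨v₀, hv₀, hvv⟩ := U.exists_noniso hV T.nd0
        obtain ⟨x, hx, hxx⟩ := U.exists_val hW T.ndW (c := - h v₀ v₀) (neg_ne_zero.2 hvv) (by
          rw [map_neg, U.fixed])
        have hv0 : v₀ ≠ 0 := by rintro rfl; exact hvv (U.zero_left 0)
        refine ⟨v₀ + x, ?_, ?_, T.reg_of hv₀ fun r hr hrx => ?_, T.avoid_of_ne hv₀ hv0 hx⟩
        · intro h0
          apply hv0
          apply T.dis v₀ hv₀
          rw [eq_neg_of_add_eq_zero_left h0]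
          exact W.neg_mem hx
        · rw [C.Nadd v₀ x (T.orth v₀ hv₀ x hx).1 (T.orth v₀ hv₀ x hx).2, hxx, add_neg_cancel]
        · exact U.reg_two hR hRh hA T.inv T.ndW (by omega) hx (by rw [hxx]; exact neg_ne_zero.2 hvv)
            hr hrx
  · -- scalars
    push Not at hA
    obtain ⟨a, ha, ⟨k, hk⟩, ha1⟩ := hA
    have ha0 : a ≠ 0 := by
      rintro rfl
      rw [zero_mul] at ha
      exact zero_ne_one ha
    have hmem := hsc (Units.mk0 a ha0) ha ⟨k, Units.ext (by simpa using hk)⟩
    have hV : V₀ = ⊥ := by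
      rw [Submodule.eq_bot_iff]
      intro v hv
      have h1 := (T.fixm v).1 hv _ hmem
      have h2 : a • v = v := h1
      have h3 : (a - 1) • v = 0 := by rw [sub_smul, one_smul, h2, sub_self]
      exact (smul_eq_zero.1 h3).resolve_left (sub_ne_zero.2 ha1)
    have hWt : W = ⊤ := by
      rw [eq_top_iff]
      intro y _
      obtain ⟨v, hv, w, hw, rfl⟩ := T.sum y
      rw [hV, Submodule.mem_bot] at hv
      rw [hv, zero_add]; exact hw
    have h3 : 3 ≤ Module.finrank F W := by rw [hWt, finrank_top]; exact hE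
    have hWb : W ≠ ⊥ := by
      rintro rfl
      rw [finrank_bot] at h3
      omega
    have A0 := T.adm hWb
    have hKc : 4 ≤ Nat.card (fixK σ) := by
      refine U.card_K ha fun m hm hm5 hm1 => ha1 ?_
      have hcop : Nat.Coprime m (p ^ k) := by
        apply Nat.Coprime.pow_right
        refine Nat.Coprime.symm ((Fact.out : p.Prime).coprime_iff_not_dvd.2 fun hd => ?_)
        have := Nat.le_of_dvd hm hd
        omega
      have h5 : orderOf a ∣ 1 := by
        rw [← hcop]
        exact Nat.dvd_gcd (orderOf_dvd_of_pow_eq_one hm1) (orderOf_dvd_of_pow_eq_one hk)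
      exact orderOf_eq_one_iff.1 (Nat.dvd_one.1 h5)
    obtain ⟨x, hx, hN⟩ := top_zero C (fixK σ) hKc (fun H W Bs c hc hc0 => by
      obtain ⟨x, hx, hxx⟩ := U.exists_val Bs.ne Bs.nd hc0 hc
      have hx0 : x ≠ 0 := by
        rintro rfl
        rw [U.zero_left] at hxx
        exact hc0 hxx.symm
      exact ⟨x, hx, hx0, by rintro J rfl; exact hx0, hxx⟩) A0 (fun _ => by
      obtain ⟨x, hx, hx0, hxx⟩ := U.exists_iso (by omega) A0.nd
      exact ⟨x, hx, hx0, by rintro J rfl; exact hx0, hxx⟩)
    refine ⟨0 + x, by rw [zero_add]; exact hne0 A0 hx, by rw [zero_add]; exact hN,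
      T.reg_of V₀.zero_mem hx.reg, T.avoid_of_good V₀.zero_mem hx rfl (Or.inr h3)⟩

end herm

end Cfsg.Agent.H903.SylReg
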