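/-
helper903: regular vectors, unitary case, all odd p (S2484).
-/
import Mathlib
import Cfsg.Agent.H903.SylRegTSp
import Cfsg.Agent.H903.SylRegU

set_option autoImplicit false

namespace Cfsg.Agent.H903.SylRegT

open Finset
open Cfsg.Agent.H903.SylReg (com Avoid AvoidDual RegU HF fixK exists_ne_zero_of_finrank)

/-- **RegU** for all odd `p`, fixed field with at least four elements, dimension at least four. -/
theorem regU (p : ℕ) [Fact p.Prime] (hp : 3 ≤ p) (F : Type*) [Field F] [Finite F] (E : Type*)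
    [AddCommGroup E] [Module F E] [Finite E] (hpF : (p : F) ≠ 0) (hE : 4 ≤ Module.finrank F E)
    (hK : ∀ σ : F ≃+* F, (∀ a, σ (σ a) = a) → 4 ≤ Nat.card (fixK σ)) :
    RegU p F E := by
  intro σ hσ hσ1 h hadd hsmul hsymm hnd R hR hRh hsc
  have U : HF σ h := ⟨hσ, hσ1, hadd, hsmul, hsymm⟩
  have C : Ctx p R {LinearMap.id} h (fun x => h x x) :=
    { pF := hpF
      five := hp
      pg := hR
      comm := by rintro J rfl h _ x; rfl
      βl := hadd
      βr := U.add_right
      βG := hRh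
      NG := fun r hr x => hRh r hr x x
      Nadd := fun x y hxy hyx => by
        change h (x + y) (x + y) = h x x + h y y
        rw [U.add, U.add_right, U.add_right, hxy, hyx, add_zero, zero_add] }
  have hnd' : ∀ x ∈ (⊤ : Submodule F E), (∀ y ∈ (⊤ : Submodule F E), h x y = 0) → x = 0 :=
    fun x _ hx => hnd x fun y => hx y trivial
  have hKc := hK σ hσ
  have hbase : ∀ (H : Subgroup (E ≃ₗ[F] E)) (W : Submodule F E), Base R {LinearMap.id} h H W →
      ∀ c ∈ fixK σ, c ≠ 0 → ∃ x ∈ W, x ≠ 0 ∧ (∀ J ∈ ({LinearMap.id} : Set (E →ₗ[F] E)), J x ≠ 0) ∧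
        (fun x => h x x) x = c := by
    intro H W Bs c hc hc0
    obtain ⟨x, hx, hxx⟩ := U.exists_val Bs.ne Bs.nd hc0 hc
    have hx0 : x ≠ 0 := by
      rintro rfl
      rw [U.zero_left] at hxx
      exact hc0 hxx.symm
    exact ⟨x, hx, hx0, by rintro J rfl; exact hx0, hxx⟩
  obtain ⟨V₀, W, T⟩ := exists_top C hnd
  by_cases hW : W = ⊥
  · obtain ⟨v, -, hv, hvv⟩ := U.exists_iso (W := ⊤) (by rw [finrank_top]; omega) hnd'
    have h1 := T.eq_one_of_bot hW
    exact ⟨v, hv, hvv, fun h hh _ => h1 h hh, fun z hz hz1 => absurd (h1 z hz) hz1⟩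
  · have A0 := T.adm hW
    by_cases hV : V₀ = ⊥
    · have hWt := top_of_bot (p := p) T hV
      have h4 : 4 ≤ Module.finrank F W := by rw [hWt, finrank_top]; exact hE
      obtain ⟨x, hx, hN⟩ := top_zero3 C (fun H W A => bot_id A.ne) (fixK σ) hKc hbase A0 (fun _ => by
        obtain ⟨x, hx, hx0, hxx⟩ := U.exists_iso (by omega) A0.nd
        exact ⟨x, hx, hx0, by rintro J rfl; exact hx0, hxx⟩) (Or.inr (by
        rintro J rfl
        rw [Submodule.map_id]; exact h4))
      refine ⟨0 + x, by rw [zero_add]; exact hx.ne_zero (p := p) A0, by rw [zero_add]; exact hN,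
        T.reg_of V₀.zero_mem hx.reg, T.avoid_of_good V₀.zero_mem hx rfl (Or.inr (by omega))⟩
    · obtain ⟨v₀, hv₀, hvv⟩ := U.exists_noniso hV T.nd0
      have hv0 : v₀ ≠ 0 := by rintro rfl; exact hvv (U.zero_left 0)
      obtain ⟨x, hx, hN⟩ := prescribed C (fixK σ) hKc hbase R W A0 (- h v₀ v₀)
        ((fixK σ).neg_mem (U.fixed v₀)) (neg_ne_zero.2 hvv)
      refine ⟨v₀ + x, ?_, ?_, T.reg_of hv₀ hx.reg, T.avoid_of_ne hv₀ hv0 hx.mem⟩
      · intro h0
        apply hv0
        apply T.dis v₀ hv₀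
        rw [eq_neg_of_add_eq_zero_left h0]
        exact W.neg_mem hx.mem
      · have h1 := C.Nadd v₀ x (T.orth v₀ hv₀ x hx.mem).1 (T.orth v₀ hv₀ x hx.mem).2
        have h2 : h (v₀ + x) (v₀ + x) = h v₀ v₀ + h x x := h1
        have h3 : h x x = - h v₀ v₀ := hN
        rw [h2, h3, add_neg_cancel]

theorem card_le_fixK_sq {F : Type*} [Field F] [Finite F] (σ : F ≃+* F) (hσ : ∀ a, σ (σ a) = a) :
    Nat.card F ≤ Nat.card (fixK σ) ^ 2 := by
  classical
  by_cases h1 : ∃ θ, σ θ ≠ θ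
  · obtain ⟨θ, hθ⟩ := h1
    have hd : θ - σ θ ≠ 0 := sub_ne_zero.2 (Ne.symm hθ)
    have hu : ∀ a : F, σ ((a - σ a) / (θ - σ θ)) = (a - σ a) / (θ - σ θ) := by
      intro a
      rw [map_div₀, map_sub, map_sub, hσ, hσ, ← neg_sub a, ← neg_sub θ, neg_div_neg_eq]
    have hv : ∀ a : F, σ (a - (a - σ a) / (θ - σ θ) * θ) = a - (a - σ a) / (θ - σ θ) * θ := by
      intro a
      rw [map_sub, map_mul, hu]
      have h2 : (a - σ a) / (θ - σ θ) * (θ - σ θ) = a - σ a := div_mul_cancel₀ _ hd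
      linear_combination h2
    let f : F → fixK σ × fixK σ := fun a => (⟨_, hu a⟩, ⟨_, hv a⟩)
    have hf : Function.Injective f := by
      intro a b hab
      have h3 := congrArg (fun x => (x.1 : F)) hab
      have h4 := congrArg (fun x => (x.2 : F)) hab
      simp only [f] at h3 h4
      rw [h3] at h4
      exact sub_left_inj.1 h4
    have := Nat.card_le_card_of_injective f hf
    rwa [Nat.card_prod, ← pow_two] at this
  · push Not at h1
    have h2 : Nat.card F ≤ Nat.card (fixK σ) :=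
      Nat.card_le_card_of_injective (fun a : F => (⟨a, h1 a⟩ : fixK σ)) fun a b h => congrArg Subtype.val h
    have h3 : 0 < Nat.card (fixK σ) := Nat.card_pos
    calc Nat.card F ≤ Nat.card (fixK σ) := h2
      _ ≤ Nat.card (fixK σ) ^ 2 := Nat.le_self_pow (by norm_num) _

/-- **RegU** for `|F| = q ^ 2`, `q ≥ 4`. -/
theorem regU' (p : ℕ) [Fact p.Prime] (hp : 3 ≤ p) (F : Type*) [Field F] [Finite F] (E : Type*)
    [AddCommGroup E] [Module F E] [Finite E] (hpF : (p : F) ≠ 0) (hE : 4 ≤ Module.finrank F E)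
    {q : ℕ} (hF : Nat.card F = q ^ 2) (hq : 4 ≤ q) : RegU p F E :=
  regU p hp F E hpF hE fun σ hσ => by
    have h1 := card_le_fixK_sq σ hσ
    rw [hF] at h1
    exact hq.trans ((Nat.pow_le_pow_iff_left (by norm_num)).1 h1)

end Cfsg.Agent.H903.SylRegT
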