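import Cfsg.Agent.S0107
import Cfsg.Agent.Transfer.Residual
import Cfsg.Agent.Lib.DihedralRecog

/-!
# Groups without subgroups of index two whose central involution has a dihedral centraliser
-/

set_option autoImplicit false
open Cfsg

namespace Cfsg.Agent.H903.DihSimple

/-- no subgroup of index two means `O^2(G) = G` -/
theorem pResidual_eq_top {G : Type*} [Group G] [Finite G] (h : ∀ H : Subgroup G, H.index ≠ 2) :
    Cfsg.pResidual 2 G = ⊤ := by
  have hn := Cfsg.Agent.Transfer.Residual.pResidual_normal (G := G) 2
  obtain ⟨k, hk⟩ := Cfsg.Agent.Transfer.Residual.exists_index_pResidual_eq_pow (G := G) 2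
  rcases Nat.eq_zero_or_pos k with rfl | hk0
  · rw [pow_zero, Subgroup.index_eq_one] at hk
    exact hk
  · exfalso
    have hc : Nat.card (G ⧸ Cfsg.pResidual 2 G) = 2 ^ k := by
      rw [← Subgroup.index_eq_card]; exact hk
    obtain ⟨Q, hQ⟩ := Sylow.exists_subgroup_card_pow_prime 2
      (show 2 ^ (k - 1) ∣ Nat.card (G ⧸ Cfsg.pResidual 2 G) by
        rw [hc]; exact pow_dvd_pow 2 (by omega))
    have hi : Q.index = 2 := by
      have h1 := Q.card_mul_index
      rw [hQ, hc] at h1
      have h2 : 2 ^ k = 2 ^ (k - 1) * 2 := by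
        rw [← pow_succ]; congr 1; omega
      rw [h2] at h1
      exact Nat.eq_of_mul_eq_mul_left (by positivity) h1
    apply h (Q.comap (QuotientGroup.mk' (Cfsg.pResidual 2 G)))
    rw [Subgroup.index_comap_of_surjective _ (QuotientGroup.mk'_surjective _)]
    exact hi

/-- An involution acting without fixed points on a normal subgroup of odd order inverts it. -/
theorem invert {G : Type*} [Group G] [Finite G] (N : Subgroup G) [N.Normal] (v : G)
    (hv : v * v = 1) (hfix : ∀ n ∈ N, v * n = n * v → n = 1) :
    ∀ n ∈ N, v * n * v⁻¹ = n⁻¹ := by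
  let φ : N →* N := (MulAut.conjNormal v : MulAut N).toMonoidHom
  have hφ : ∀ n : N, ((φ n : N) : G) = v * n * v⁻¹ := fun n => rfl
  have h1 : MonoidHom.FixedPointFree φ := by
    intro n hn
    apply Subtype.ext
    apply hfix n n.2
    have := congrArg Subtype.val hn
    rw [hφ] at this
    calc v * (n : G) = (v * n * v⁻¹) * v := by group
      _ = n * v := by rw [this]
  have h2 : Function.Involutive φ := by
    intro n
    apply Subtype.ext
    rw [hφ, hφ]
    calc v * (v * (n : G) * v⁻¹) * v⁻¹ = (v * v) * n * (v * v)⁻¹ := by group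
      _ = n := by rw [hv]; simp
  have h3 := h1.coe_eq_inv_of_involutive h2
  intro n hn
  have := congrFun h3 ⟨n, hn⟩
  have h4 := congrArg Subtype.val this
  rw [hφ] at h4
  simpa using h4

/-- A Klein four-group all of whose involutions act without fixed points on a normal subgroup
forces it to be trivial. -/
theorem eq_bot_of_four {G : Type*} [Group G] [Finite G] (N : Subgroup G) [N.Normal] (a b : G)
    (ha : a * a = 1) (hb : b * b = 1)
    (ha' : ∀ n ∈ N, a * n = n * a → n = 1) (hb' : ∀ n ∈ N, b * n = n * b → n = 1)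
    (hc' : ∀ n ∈ N, (a * b) * n = n * (a * b) → n = 1) : N = ⊥ := by
  rw [Subgroup.eq_bot_iff_forall]
  intro n hn
  apply hc' n hn
  have h1 := invert N a ha ha' n hn
  have h2 := invert N b hb hb' n hn
  have h3 := invert N a ha ha' _ (N.inv_mem hn)
  have : (a * b) * n * (a * b)⁻¹ = n := by
    calc (a * b) * n * (a * b)⁻¹ = a * (b * n * b⁻¹) * a⁻¹ := by group
      _ = n := by rw [h2, h3, inv_inv]
  calc (a * b) * n = ((a * b) * n * (a * b)⁻¹) * (a * b) := by group
    _ = n * (a * b) := by rw [this]

theorem dih_central : ∀ x : DihedralGroup 4, (∀ y, x * y = y * x) → x ≠ 1 → x = DihedralGroup.r 2 := by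
  decide

/-- Group without subgroup of index two, `C_G(α)` dihedral of order `8` for a `2`-central involution. -/
theorem isSimpleGroup {G : Type*} [Group G] [Finite G] (hG : ∀ H : Subgroup G, H.index ≠ 2)
    (α : G) (hα : orderOf α = 2) (S : Sylow 2 G) (hαS : α ∈ (S : Subgroup G))
    (hαc : ∀ s ∈ (S : Subgroup G), s * α = α * s)
    (e : ↥(Subgroup.centralizer ({α} : Set G)) ≃* DihedralGroup 4) :
    IsSimpleGroup G ∧ ¬ IsMulCommutative G := by
  classical
  have hcardC : Nat.card (Subgroup.centralizer ({α} : Set G)) = 8 := by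
    rw [Nat.card_congr e.toEquiv, DihedralGroup.nat_card]
  have hCp : IsPGroup 2 (Subgroup.centralizer ({α} : Set G)) :=
    IsPGroup.of_card (n := 3) (by rw [hcardC]; norm_num)
  have hSC : Subgroup.centralizer ({α} : Set G) = (S : Subgroup G) := by
    apply S.is_maximal' hCp
    intro s hs
    rw [Subgroup.mem_centralizer_singleton_iff]
    exact hαc s hs
  have eS : (S : Subgroup G) ≃* DihedralGroup 4 := (MulEquiv.subgroupCongr hSC.symm).trans e
  have hres := pResidual_eq_top hG
  have hconj := Cfsg.Agent.S0107.result S 2 (le_refl 2) ⟨eS⟩ hres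
  have hαα : α * α = 1 := by rw [← pow_two, ← hα]; exact pow_orderOf_eq_one α
  have hα1 : α ≠ 1 := by
    intro h; rw [h, orderOf_one] at hα; exact absurd hα (by norm_num)
  have hCmem : ∀ g : G, α * g = g * α → g ∈ (S : Subgroup G) := by
    intro g hg
    rw [← hSC, Subgroup.mem_centralizer_singleton_iff]
    exact hg.symm
  have hSmem : ∀ g ∈ (S : Subgroup G), α * g = g * α := fun g hg => (hαc g hg).symm
  -- the normaliser of S is S
  have hNS : Subgroup.normalizer ((S : Subgroup G) : Set G) ≤ (S : Subgroup G) := by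
    intro g hg
    apply hCmem
    have h1 : g * α * g⁻¹ ∈ (S : Subgroup G) := (Subgroup.mem_normalizer_iff.1 hg α).1 hαS
    have h2 : ∀ s ∈ (S : Subgroup G), (g * α * g⁻¹) * s = s * (g * α * g⁻¹) := by
      intro s hs
      have h3 : g⁻¹ * s * g ∈ (S : Subgroup G) := by
        rw [Subgroup.mem_normalizer_iff.1 hg]
        have : g * (g⁻¹ * s * g) * g⁻¹ = s := by group
        rw [this]; exact hs
      have h4 := hSmem _ h3
      calc (g * α * g⁻¹) * s = g * (α * (g⁻¹ * s * g)) * g⁻¹ := by group
        _ = g * ((g⁻¹ * s * g) * α) * g⁻¹ := by rw [h4]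
        _ = s * (g * α * g⁻¹) := by group
    have h5 : eS ⟨g * α * g⁻¹, h1⟩ = DihedralGroup.r 2 := by
      apply dih_central
      · intro y
        obtain ⟨⟨s, hs⟩, rfl⟩ := eS.surjective y
        rw [← map_mul, ← map_mul]
        congr 1
        exact Subtype.ext (h2 s hs)
      · intro h
        rw [← map_one eS] at h
        have h6 := congrArg Subtype.val (eS.injective h)
        apply hα1
        have h7 : g * α * g⁻¹ = 1 := h6
        have : α = g⁻¹ * (g * α * g⁻¹) * g := by group
        rw [this, h7]; simp
    have h6 : eS ⟨α, hαS⟩ = DihedralGroup.r 2 := by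
      apply dih_central
      · intro y
        obtain ⟨⟨s, hs⟩, rfl⟩ := eS.surjective y
        rw [← map_mul, ← map_mul]
        congr 1
        exact Subtype.ext (hSmem s hs)
      · intro h
        rw [← map_one eS] at h
        exact hα1 (congrArg Subtype.val (eS.injective h))
    have h7 : g * α * g⁻¹ = α := by
      have := eS.injective (h5.trans h6.symm)
      exact congrArg Subtype.val this
    calc α * g = (g * α * g⁻¹) * g := by rw [h7]
      _ = g * α := by group
  -- fixed points of involutions on odd normal subgroups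
  have hfix : ∀ N : Subgroup G, N.Normal → Odd (Nat.card N) → ∀ v : G, orderOf v = 2 →
      ∀ n ∈ N, v * n = n * v → n = 1 := by
    intro N hN hodd v hv n hn hvn
    obtain ⟨g, hg⟩ := hconj v α hv hα
    have h1 : g * n * g⁻¹ ∈ N := hN.conj_mem n hn g
    have h2 : g * n * g⁻¹ ∈ (S : Subgroup G) := by
      apply hCmem
      rw [← hg]
      calc g * v * g⁻¹ * (g * n * g⁻¹) = g * (v * n) * g⁻¹ := by group
        _ = g * (n * v) * g⁻¹ := by rw [hvn]
        _ = (g * n * g⁻¹) * (g * v * g⁻¹) := by group
    have h3 : orderOf (g * n * g⁻¹) ∣ 8 := by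
      rw [← hcardC, hSC, ← Subgroup.orderOf_mk _ h2]
      exact orderOf_dvd_natCard _
    have h4 : orderOf (g * n * g⁻¹) ∣ Nat.card N := by
      rw [← Subgroup.orderOf_mk _ h1]
      exact orderOf_dvd_natCard _
    have h5 : Nat.Coprime 8 (Nat.card N) := by
      have : Nat.Coprime 2 (Nat.card N) := by
        rw [Nat.coprime_two_left]; exact hodd
      exact Nat.Coprime.pow_left 3 this
    have h6 : orderOf (g * n * g⁻¹) = 1 := Nat.eq_one_of_dvd_coprimes h5 h3 h4
    rw [orderOf_eq_one_iff] at h6
    have : n = g⁻¹ * (g * n * g⁻¹) * g := by group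
    rw [this, h6]; simp
  -- a second involution of S
  have hb2 : orderOf ((eS.symm (DihedralGroup.sr 0) : (S : Subgroup G)) : G) = 2 := by
    rw [Subgroup.orderOf_coe, MulEquiv.orderOf_eq, DihedralGroup.orderOf_sr]
  have hinv : ∀ i, orderOf ((eS.symm (DihedralGroup.sr i) : (S : Subgroup G)) : G) = 2 := by
    intro i
    rw [Subgroup.orderOf_coe, MulEquiv.orderOf_eq, DihedralGroup.orderOf_sr]
  have hnc : ¬ IsMulCommutative G := by
    intro h
    have h1 : eS (eS.symm (DihedralGroup.sr 0) * eS.symm (DihedralGroup.r 1)) =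
        eS (eS.symm (DihedralGroup.r 1) * eS.symm (DihedralGroup.sr 0)) := by
      congr 1
      apply Subtype.ext
      exact h.is_comm.comm _ _
    simp only [map_mul, MulEquiv.apply_symm_apply] at h1
    exact absurd h1 (by decide)
  refine ⟨?_, hnc⟩
  have hnt : Nontrivial G := ⟨⟨α, 1, hα1⟩⟩
  refine ⟨fun N hN => ?_⟩
  rcases Nat.even_or_odd (Nat.card N) with hev | hodd
  · right
    have h2 : 2 ∣ Nat.card N := hev.two_dvd
    obtain ⟨n, hn⟩ := exists_prime_orderOf_dvd_card' 2 h2
    have hn' : orderOf (n : G) = 2 := by rw [Subgroup.orderOf_coe]; exact hn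
    have hall : ∀ v : G, orderOf v = 2 → v ∈ N := by
      intro v hv
      obtain ⟨g, hg⟩ := hconj n v hn' hv
      rw [← hg]
      exact hN.conj_mem n n.2 g
    have hSN : (S : Subgroup G) ≤ N := by
      intro s hs
      have key : ∀ x : DihedralGroup 4, ((eS.symm x : (S : Subgroup G)) : G) ∈ N := by
        intro x
        match x with
        | DihedralGroup.sr i => exact hall _ (hinv i)
        | DihedralGroup.r i =>
          have : (DihedralGroup.r i : DihedralGroup 4) = DihedralGroup.sr 0 * DihedralGroup.sr i := by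
            simp
          rw [this, map_mul, Subgroup.coe_mul]
          exact N.mul_mem (hall _ (hinv 0)) (hall _ (hinv i))
      have := key (eS ⟨s, hs⟩)
      simpa using this
    have h3 := Sylow.normalizer_sup_eq_top' S hSN
    rw [← h3, eq_comm, sup_eq_right]
    exact hNS.trans hSN
  · left
    set b : G := ((eS.symm (DihedralGroup.sr 0) : (S : Subgroup G)) : G) with hb
    have hbS : b ∈ (S : Subgroup G) := (eS.symm (DihedralGroup.sr 0)).2
    have hbb : b * b = 1 := by rw [← pow_two, ← hb2]; exact pow_orderOf_eq_one b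
    have hbα : α * b = b * α := hSmem b hbS
    have hne : α * b ≠ 1 := by
      intro h
      have h1 : b = α := by
        calc b = α * α * b := by rw [hαα]; simp
          _ = α * (α * b) := by group
          _ = α := by rw [h]; simp
      have h2 : eS.symm (DihedralGroup.sr 0) * eS.symm (DihedralGroup.r 1) =
          eS.symm (DihedralGroup.r 1) * eS.symm (DihedralGroup.sr 0) := by
        apply Subtype.ext
        change b * _ = _ * b
        rw [h1]
        exact hSmem _ (eS.symm (DihedralGroup.r 1)).2
      rw [← map_mul, ← map_mul] at h2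
      exact absurd (eS.symm.injective h2) (by decide)
    have hc2 : orderOf (α * b) = 2 := by
      apply orderOf_eq_prime
      · rw [pow_two]
        calc α * b * (α * b) = α * (b * α) * b := by group
          _ = α * (α * b) * b := by rw [hbα]
          _ = (α * α) * (b * b) := by group
          _ = 1 := by rw [hαα, hbb]; simp
      · exact hne
    exact eq_bot_of_four N α b hαα hbb (hfix N hN hodd α hα) (hfix N hN hodd b hb2)
      (hfix N hN hodd (α * b) hc2)

end Cfsg.Agent.H903.DihSimple
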