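/-
helper903: reduction of `MeetIn p T` to a quotient `C / K` of a subgroup `C` of index prime to `p` by a normal
`p`-subgroup `K` which has a conjugate meeting a Sylow `p`-subgroup trivially (S5760).
-/
import Mathlib
import Cfsg.Agent.H68.MeetBase

set_option autoImplicit false

namespace Cfsg.Agent.H903.MeetQuot

open Subgroup Cfsg.Agent.H68.MeetB
open scoped Pointwise

variable {p : ℕ} {T : Type*} [Group T]

/-- a `p`-subgroup is met trivially by a subgroup of index prime to `p` -/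
theorem exists_avoid {Q : Type*} [Group Q] [Finite Q] [Fact p.Prime] (h : MeetIn p Q) {R : Subgroup Q}
    (hR : IsPGroup p R) : ∃ S : Sylow p Q, (S : Subgroup Q) ⊓ R = ⊥ := by
  obtain ⟨S, hS⟩ := hR.exists_le_sylow
  obtain ⟨x, hx⟩ := h S S.isPGroup'
  refine ⟨MulAut.conj x • S, ?_⟩
  rw [eq_bot_iff]
  rintro y ⟨hy, hy'⟩
  rw [mem_bot]
  have h1 : y ∈ (S : Subgroup Q) := hS hy'
  have hy2 : y ∈ MulAut.conj x • (S : Subgroup Q) := hy
  obtain ⟨s, hs, rfl⟩ := (mem_smul_pointwise_iff_exists _ _ _).1 hy2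
  have h2 : MulAut.conj x • s = x * s * x⁻¹ := rfl
  rw [h2] at h1 ⊢
  rw [hx s hs h1]
  simp

/-- **Reduction to `C / K`.** `C` has index prime to `p`, `f : C → Q` is surjective with kernel a `p`-group `K`,
`MeetIn p Q`, and for every `p`-subgroup `R` of `T` some conjugate of `K` meets `R` trivially. -/
theorem of_quot [Finite T] [Fact p.Prime] {C : Subgroup T} (hC : ¬ p ∣ C.index) {Q : Type*} [Group Q]
    (f : C →* Q) (hf : Function.Surjective f) (hK : IsPGroup p f.ker) (h : MeetIn p Q)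
    (hg : ∀ R : Subgroup T, IsPGroup p R → ∃ g : T, ∀ y : C, f y = 1 → g * (y : T) * g⁻¹ ∈ R → (y : T) = 1) :
    MeetIn p T := by
  classical
  have : Finite Q := Finite.of_surjective f hf
  obtain ⟨P⟩ : Nonempty (Sylow p T) := inferInstance
  obtain ⟨g, hg⟩ := hg P P.isPGroup'
  -- the conjugate of `P` meeting the kernel trivially
  let P' : Sylow p T := MulAut.conj g⁻¹ • P
  have hmem : ∀ y : T, y ∈ (P' : Subgroup T) ↔ g * y * g⁻¹ ∈ (P : Subgroup T) := by
    intro y
    have h1 : y ∈ MulAut.conj g⁻¹ • (P : Subgroup T) ↔ g * y * g⁻¹ ∈ (P : Subgroup T) := by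
      rw [mem_pointwise_smul_iff_inv_smul_mem]
      have : (MulAut.conj g⁻¹)⁻¹ • y = g * y * g⁻¹ := by
        rw [map_inv, inv_inv]
        rfl
      rw [this]
    exact h1
  let D : Subgroup C := (P' : Subgroup T).subgroupOf C
  have hD : IsPGroup p D := P'.isPGroup'.comap_of_injective _ C.subtype_injective
  obtain ⟨S₀, hS₀⟩ := exists_avoid h (hD.map f)
  let S₁ : Subgroup C := (S₀ : Subgroup Q).comap f
  have hS₁ : IsPGroup p S₁ := by
    exact S₀.isPGroup'.comap_of_ker_isPGroup f hK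
  have hi₁ : ¬ p ∣ S₁.index := by
    rw [index_comap_of_surjective _ hf]
    exact S₀.not_dvd_index
  let S : Subgroup T := S₁.map C.subtype
  have hS : IsPGroup p S := hS₁.map _
  have hi : ¬ p ∣ S.index := by
    rw [index_map_subtype]
    intro h1
    rcases (Fact.out : p.Prime).dvd_mul.1 h1 with h2 | h2
    · exact hi₁ h2
    · exact hC h2
  have hmeet : ∀ y ∈ S, y ∈ (P' : Subgroup T) → y = 1 := by
    rintro _ ⟨y, hy, rfl⟩ hyP
    have h1 : f y ∈ (S₀ : Subgroup Q) := hy
    have h2 : f y ∈ D.map f := mem_map_of_mem f (mem_subgroupOf.2 hyP)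
    have h3 : f y = 1 := by
      have : f y ∈ (S₀ : Subgroup Q) ⊓ D.map f := ⟨h1, h2⟩
      rwa [hS₀, mem_bot] at this
    exact hg y h3 ((hmem _).1 hyP)
  obtain ⟨t, ht⟩ := MulAction.exists_smul_eq T (hS.toSylow hi) P'
  refine MeetIn.of_one S hS hi ⟨t, fun y hy hty => ?_⟩
  have h1 : t * y * t⁻¹ ∈ (P' : Subgroup T) := by
    rw [← ht, Sylow.smul_def]
    refine (mem_smul_pointwise_iff_exists _ _ _).2 ⟨y, hy, rfl⟩
  have h2 := hmeet _ hty h1
  have h3 : y = t⁻¹ * (t * y * t⁻¹) * t := by group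
  rw [h3, h2]
  simp

/-- a normal closure argument: a subgroup not containing all conjugates of `z` misses one of them -/
theorem exists_not_mem_of_simple [IsSimpleGroup T] {R : Subgroup T} (hR : R ≠ ⊤) {z : T} (hz : z ≠ 1) :
    ∃ g : T, g * z * g⁻¹ ∉ R := by
  by_contra hcon
  push Not at hcon
  have h1 : normalClosure {z} ≤ R := by
    rw [normalClosure, closure_le]
    intro y hy
    rw [Group.mem_conjugatesOfSet_iff] at hy
    obtain ⟨a, ha, hc⟩ := hy
    rw [Set.mem_singleton_iff] at ha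
    subst ha
    obtain ⟨c, rfl⟩ := isConj_iff.1 hc
    exact hcon c
  rcases (normalClosure_normal (s := ({z} : Set T))).eq_bot_or_eq_top with h2 | h2
  · apply hz
    have : z ∈ normalClosure ({z} : Set T) := subset_normalClosure rfl
    rwa [h2, mem_bot] at this
  · exact hR (top_le_iff.1 (h2 ▸ h1))

/-- **Central reduction.** `C` has index prime to `p`, `f : C → Q` is surjective with kernel of order `p`, and
`MeetIn p Q`; `T` is simple, not a `p`-group. -/
theorem of_quot_prime [Finite T] [Fact p.Prime] [IsSimpleGroup T] (hT : ¬ IsPGroup p T) {C : Subgroup T}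
    (hC : ¬ p ∣ C.index) {Q : Type*} [Group Q]
    (f : C →* Q) (hf : Function.Surjective f) (hK : Nat.card f.ker = p) (h : MeetIn p Q) : MeetIn p T := by
  have hpp : p.Prime := Fact.out
  refine of_quot hC f hf (IsPGroup.of_card (n := 1) (by rw [hK, pow_one])) h fun R hR => ?_
  have hcyc : IsCyclic f.ker := isCyclic_of_prime_card hK
  obtain ⟨z, hz⟩ := hcyc.exists_generator
  have hz1 : ((z : C) : T) ≠ 1 := by
    intro h1
    have h2 : z = 1 := Subtype.ext (Subtype.ext h1)
    have h3 : f.ker = ⊥ := by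
      rw [eq_bot_iff]
      intro y hy
      have h4 := hz ⟨y, hy⟩
      rw [h2, mem_zpowers_iff] at h4
      obtain ⟨k, hk⟩ := h4
      rw [one_zpow] at hk
      rw [mem_bot]
      exact (congrArg Subtype.val hk).symm
    rw [h3, card_bot] at hK
    exact hpp.one_lt.ne hK
  have hR' : R ≠ ⊤ := by
    rintro rfl
    exact hT (hR.of_injective (Subgroup.topEquiv (G := T)).symm.toMonoidHom (Subgroup.topEquiv (G := T)).symm.injective)
  obtain ⟨g, hg⟩ := exists_not_mem_of_simple hR' hz1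
  refine ⟨g, fun y hy hyR => ?_⟩
  by_contra hy1
  apply hg
  -- `z` is a power of `y`
  have h1 : (⟨y, hy⟩ : f.ker) ≠ 1 := by
    intro h2
    apply hy1
    have := congrArg (fun a : f.ker => ((a : C) : T)) h2
    simpa using this
  have h2 : zpowers (⟨y, hy⟩ : f.ker) = ⊤ := zpowers_eq_top_of_prime_card hK h1
  have h3 : z ∈ zpowers (⟨y, hy⟩ : f.ker) := h2 ▸ mem_top z
  obtain ⟨k, hk⟩ := mem_zpowers_iff.1 h3
  have h4 : ((z : C) : T) = (y : T) ^ k := by
    have := congrArg (fun a : f.ker => ((a : C) : T)) hk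
    simpa using this.symm
  rw [h4, ← conj_zpow]
  exact R.zpow_mem hyR k

/-- **Automorphisms.** `Meet p T` follows from `MeetIn p (P Inn T)` for all `p`-subgroups `P` of `Aut T`. -/
theorem meet_of_sup (h : ∀ P : Subgroup (MulAut T), IsPGroup p P →
      MeetIn p ↥(P ⊔ (MulAut.conj : T →* MulAut T).range)) : Cfsg.Agent.H903.SylMeet.Meet p T := by
  intro P hP
  have hle : P ≤ P ⊔ (MulAut.conj : T →* MulAut T).range := le_sup_left
  obtain ⟨⟨x, hx⟩, hxP⟩ := h P hP (P.subgroupOf _) (hP.comap_of_injective _ (Subgroup.subtype_injective _))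
  have hN : ((MulAut.conj : T →* MulAut T).range).Normal := ⟨by
    rintro _ ⟨t, rfl⟩ a
    exact ⟨a t, by rw [Cfsg.Agent.H903.SylMeet.conj_apply_aut]⟩⟩
  obtain ⟨a, ha, b, ⟨t, rfl⟩, rfl⟩ := (mem_sup_of_normal_right (s := P)).1 hx
  refine ⟨t, fun y hy hty => ?_⟩
  have h1 := hxP ⟨y, hle hy⟩ (mem_subgroupOf.2 hy) (by
    rw [mem_subgroupOf]
    change a * MulAut.conj t * y * (a * MulAut.conj t)⁻¹ ∈ P
    have : a * MulAut.conj t * y * (a * MulAut.conj t)⁻¹ = a * (MulAut.conj t * y * (MulAut.conj t)⁻¹) * a⁻¹ := by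
      group
    rw [this]
    exact P.mul_mem (P.mul_mem ha hty) (P.inv_mem ha))
  exact congrArg Subtype.val h1

end Cfsg.Agent.H903.MeetQuot
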