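/-
helper903: S5760 / S2484, the final steps.
-/
import Mathlib
import Cfsg.Agent.H68.MeetBase

set_option autoImplicit false

namespace Cfsg.Agent.H903.SylIn

open Subgroup Cfsg.Agent.H903.SylMeet Cfsg.Agent.H68.MeetB

variable {p : ℕ} {T : Type*} [Group T]

theorem meetIn_of_meet (hinj : Function.Injective (MulAut.conj : T →* MulAut T)) (h : Meet p T) : MeetIn p T := by
  intro R hR
  obtain ⟨x, hx⟩ := h (R.map MulAut.conj) (hR.map _)
  refine ⟨x, fun y hy hxy => hinj ?_⟩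
  rw [map_one]
  refine hx _ (mem_map_of_mem _ hy) ?_
  rw [← map_inv, ← map_mul, ← map_mul]
  exact mem_map_of_mem _ hxy

/-- the form of S5760 -/
theorem exists_inf_map (h : MeetIn p T) (H : Subgroup T) (hH : IsPGroup p H) :
    ∃ x : T, H ⊓ H.map (MulAut.conj x).toMonoidHom = ⊥ := by
  obtain ⟨x, hx⟩ := h H hH
  refine ⟨x, ?_⟩
  rw [eq_bot_iff]
  rintro y ⟨hy, hy'⟩
  obtain ⟨z, hz, rfl⟩ := hy'
  have h1 : x * z * x⁻¹ ∈ H := hy
  have h2 := hx z hz h1
  subst h2
  simp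

open scoped Pointwise in
/-- the form of S2484 -/
theorem almost_simple_smul {G : Type*} [Group G] (N : Subgroup G) [N.Normal]
    (hC : Subgroup.centralizer (N : Set G) = ⊥) (h : Meet p N) (H : Subgroup G)
    (hH : IsPGroup p H) : ∃ x : G, H ⊓ MulAut.conj x • H = ⊥ := by
  obtain ⟨x, hx⟩ := almost_simple N hC h H hH
  exact ⟨x, hx⟩

end Cfsg.Agent.H903.SylIn
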