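/-
helper903: S2484, classical groups, p = 3 (assembly).
-/
import Mathlib
import Cfsg.Agent.H903.SylMeet
import Cfsg.Agent.UGT.U2.Rec.Congr
import Cfsg.Agent.SporadicStructure.PsuMatch
import Cfsg.Agent.H743.MeetPslThree
import Cfsg.Agent.H868.MeetOddPSL
import Cfsg.Agent.H868.MeetOddPSp
import Cfsg.Agent.H868.MeetOddPSU
import Cfsg.Agent.H868.MeetOddOmega
import Cfsg.Agent.H126.SepThree
import Cfsg.Agent.H124.Sy.MeetPSLTwo
import Cfsg.Agent.H728.Syl3.SpTwo
import Cfsg.Agent.H108.MeetU.Main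
import Cfsg.Agent.H621.Meet.PSLThree
import Cfsg.Agent.H458.Meet3PSp
import Cfsg.Agent.H31.M3Main
import Cfsg.Agent.H178.MeetAlt.Three
import Cfsg.Agent.H127.MeetU3B
import Cfsg.Agent.H206.Meet3PSL
import Cfsg.Agent.H479.SepSU3
import Cfsg.Agent.H579.MpoEight
import Cfsg.Agent.H579.MpoMainT
import Cfsg.Agent.H127.MeetL3
import Cfsg.Agent.H885.Tri.Main
import Cfsg.Agent.H3.MeetD4

set_option autoImplicit false

namespace Cfsg.Agent.H903.Syl3Class

open Cfsg Cfsg.Agent.H903.SylMeet Cfsg.Agent.UGT.U2.Rec.Congr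

/-! ### change of the field -/

theorem exists_zmod {F : Type} [Field F] [Fintype F] (h : Fintype.card F = 2) : Nonempty (F ≃+* ZMod 2) := by
  have : Fact (Nat.Prime 2) := ⟨Nat.prime_two⟩
  exact ⟨(ZMod.ringEquivOfPrime F Nat.prime_two h).symm⟩

theorem psl_congr {F K : Type} [Field F] [Field K] (σ : F ≃+* K) (n : ℕ) :
    Nonempty (Matrix.ProjectiveSpecialLinearGroup (Fin n) F ≃* Matrix.ProjectiveSpecialLinearGroup (Fin n) K) :=
  quot_center (Cfsg.Agent.SporadicStructure.PsuMatch.slCongr σ n)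

theorem mem_symplectic {F K : Type} [Field F] [Field K] (σ : F ≃+* K) (m : ℕ)
    {A : Matrix (Fin m ⊕ Fin m) (Fin m ⊕ Fin m) F} (hA : A ∈ Matrix.symplecticGroup (Fin m) F) :
    A.map σ ∈ Matrix.symplecticGroup (Fin m) K :=
  SymplecticGroup.map_mem hA σ

def spCongr {F K : Type} [Field F] [Field K] (σ : F ≃+* K) (m : ℕ) :
    Matrix.symplecticGroup (Fin m) F ≃* Matrix.symplecticGroup (Fin m) K where
  toFun A := ⟨A.1.map σ, mem_symplectic σ m A.2⟩
  invFun A := ⟨A.1.map σ.symm, mem_symplectic σ.symm m A.2⟩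
  left_inv A := by
    apply Subtype.ext
    ext i j
    simp
  right_inv A := by
    apply Subtype.ext
    ext i j
    simp
  map_mul' A B := by
    apply Subtype.ext
    exact Matrix.map_mul

theorem psp_congr {F K : Type} [Field F] [Field K] (σ : F ≃+* K) (m : ℕ) : Nonempty (PSp m F ≃* PSp m K) :=
  quot_center (spCongr σ m)

theorem pomega_plus_congr {F K : Type} [Field F] [Field K] (σ : F ≃+* K) (m : ℕ) :
    Nonempty (POmega F (quadFormPlus m F) ≃* POmega K (quadFormPlus m K)) :=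
  nonempty_POmega σ fun v => by simp [quadFormPlus, map_sum, map_mul]

theorem pomega_minus_congr {F K : Type} [Field F] [Field K] (σ : F ≃+* K) (m : ℕ) (a b : F) :
    Nonempty (POmega F (quadFormMinus m F a b) ≃* POmega K (quadFormMinus m K (σ a) (σ b))) :=
  nonempty_POmega σ fun v => by simp [quadFormMinus, map_sum, map_mul, map_add, map_pow]

/-! ### the fields -/

/-- trichotomy for a finite field and `p = 3` -/
theorem field_cases (F : Type) [Field F] [Fintype F] :
    CharP F 3 ∨ ((3 : F) ≠ 0 ∧ Fintype.card F = 2) ∨ ((3 : F) ≠ 0 ∧ 4 ≤ Fintype.card F) := by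
  by_cases h3 : (3 : F) = 0
  · left
    exact (CharP.charP_iff_prime_eq_zero Nat.prime_three).2 (by exact_mod_cast h3)
  · right
    have h1 : 1 < Fintype.card F := Fintype.one_lt_card
    by_cases h2 : Fintype.card F = 2
    · exact Or.inl ⟨h3, h2⟩
    · refine Or.inr ⟨h3, ?_⟩
      have h4 : Fintype.card F ≠ 3 := by
        intro h
        apply h3
        have := Nat.cast_card_eq_zero F
        rw [h] at this
        exact_mod_cast this
      omega

/-! ### the rows -/

section rows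

variable {T : Type*} [Group T]

theorem alt (h : IsAlternating T) : Meet 3 T := by
  obtain ⟨n, hn, ⟨e⟩⟩ := h
  exact Meet.congr e.symm (Cfsg.Agent.H178.MeetAlt.meet3_alt hn)

theorem psl (h : IsPSL T) : Meet 3 T := by
  have : Fact (Nat.Prime 3) := ⟨Nat.prime_three⟩
  obtain ⟨F, _, _, n, hn, h2, ⟨e⟩⟩ := h
  refine Meet.congr e.symm ?_
  by_cases hn2 : n = 2
  · subst hn2
    exact Cfsg.Agent.H743.MeetPslThree.meet3_PSL2 (h2 rfl)
  rcases field_cases F with hc | ⟨h3, hF⟩ | ⟨h3, hF⟩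
  · refine Cfsg.Agent.H868.MeetOddPSL.meet_PSL le_rfl hn h2 ?_
    exact Cfsg.Agent.H126.SepThree.sepSL_char le_rfl (by simpa using hn)
  · by_cases hn3 : n = 3
    · subst hn3
      exact Cfsg.Agent.H621.MeetPSLThree.meet3_PSL3_ab h3 (by rw [hF]; norm_num)
    · obtain ⟨σ⟩ := exists_zmod hF
      obtain ⟨e'⟩ := psl_congr σ n
      exact Meet.congr e'.symm (Cfsg.Agent.H124.Sy.meet3_PSL_two_four (by omega))
  · by_cases hn3 : n = 3
    · subst hn3
      by_cases hd : 3 ∣ Fintype.card F - 1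
      · exact Cfsg.Agent.H127.MeetL3.meet3_PSL3 hd
      · exact Cfsg.Agent.H621.MeetPSLThree.meet3_PSL3_ab h3 hd
    · exact Cfsg.Agent.H206.Meet3PSL.meet3_PSL_cross hF h3 (by omega)

theorem psp (h : IsPSp T) : Meet 3 T := by
  have : Fact (Nat.Prime 3) := ⟨Nat.prime_three⟩
  obtain ⟨F, _, _, m, hm, h2, ⟨e⟩⟩ := h
  refine Meet.congr e.symm ?_
  rcases field_cases F with hc | ⟨h3, hF⟩ | ⟨h3, hF⟩
  · exact Cfsg.Agent.H868.MeetOddPSp.meet_PSp le_rfl hm h2 (Cfsg.Agent.H126.SepThree.sepSp_char le_rfl hm)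
  · obtain ⟨σ⟩ := exists_zmod hF
    obtain ⟨e'⟩ := psp_congr σ m
    refine Meet.congr e'.symm (Cfsg.Agent.H728.Syl3.meet3_PSp_two ?_)
    by_contra hm3
    have := h2 (by omega)
    omega
  · exact Cfsg.Agent.H458.Meet3PSp.meet3_PSp_cross hF h3 hm

theorem psu (h : IsPSU T) : Meet 3 T := by
  have : Fact (Nat.Prime 3) := ⟨Nat.prime_three⟩
  obtain ⟨F, _, _, n, q, hF, hn, h2, ⟨e⟩⟩ := h
  refine Meet.congr e.symm ?_
  have hcard : 1 < q ^ 2 := hF ▸ Fintype.one_lt_card
  have hq2 : 2 ≤ q := by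
    by_contra hcon
    have : q = 0 ∨ q = 1 := by omega
    rcases this with rfl | rfl <;> norm_num at hcard
  rcases field_cases F with hc | ⟨h3, hF2⟩ | ⟨h3, hF4⟩
  · exact Cfsg.Agent.H868.MeetOddPSU.meet_PSU le_rfl hF hn h2 (Cfsg.Agent.H126.SepThree.sepSU_char le_rfl hF hn)
  · exfalso
    rw [hF] at hF2
    nlinarith
  · by_cases hn3 : n = 3
    · subst hn3
      by_cases hd : 3 ∣ q + 1
      · exact Cfsg.Agent.H127.MeetU3.meet3_PSU3 hF hd (fun hq => h2 ⟨rfl, hq⟩)
      · exact Cfsg.Agent.H479.SepSU3.meet3_PSU3_ab hF h3 hd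
    · by_cases hq : q = 2
      · subst hq
        exact Cfsg.Agent.H108.MeetU.meet3_PSU_two hF (by omega)
      · have hq3 : q ≠ 3 := by
          rintro rfl
          apply h3
          have := Nat.cast_card_eq_zero F
          rw [hF] at this
          have h9 : (3 : F) ^ 2 = 0 := by exact_mod_cast this
          exact pow_eq_zero_iff (two_ne_zero) |>.1 h9
        exact Cfsg.Agent.H479.SepSU3.meet3_PSU_cross hF (by omega) h3 (by omega)

theorem pomega_odd (h : IsPOmegaOdd T) : Meet 3 T := by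
  have : Fact (Nat.Prime 3) := ⟨Nat.prime_three⟩
  obtain ⟨F, _, _, m, hm, ho, ⟨e⟩⟩ := h
  refine Meet.congr e.symm ?_
  rcases field_cases F with hc | ⟨h3, hF⟩ | ⟨h3, hF⟩
  · exact Cfsg.Agent.H868.MeetOddOmega.meet_POmega_odd le_rfl hm ho (Cfsg.Agent.H126.SepThree.sepO_char_odd le_rfl hm)
  · rw [hF] at ho
    exact absurd ho (by decide)
  · exact Cfsg.Agent.H579.Mpo.meet3_POmega_odd_cross le_rfl (by rw [Nat.card_eq_fintype_card]; exact hF)
      (by exact_mod_cast h3) hm ho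

theorem pomega_plus (hO : ∀ (F : Type) [Field F] [Fintype F], Fintype.card F = 3 →
      ¬ Nonempty (T ≃* POmega F (quadFormPlus 4 F)))
    (h : IsPOmegaPlus T) : Meet 3 T := by
  have : Fact (Nat.Prime 3) := ⟨Nat.prime_three⟩
  obtain ⟨F, _, _, m, hm, ⟨e⟩⟩ := h
  by_cases h4 : m = 4
  · subst h4
    refine Meet.congr e.symm ?_
    rcases field_cases F with hc | h23
    · have h1 : 3 < Fintype.card F := by
        have h0 : Fintype.card F ≠ 3 := fun h => hO F h ⟨e⟩
        have h2 : 3 ≤ Fintype.card F := by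
          have h5 : 3 ∣ Fintype.card F := (CharP.cast_eq_zero_iff F 3 _).1 (Nat.cast_card_eq_zero F)
          exact Nat.le_of_dvd Fintype.card_pos h5
        omega
      exact Cfsg.Agent.H3.MeetD4.meet3_D4_char h1
    · apply Cfsg.Agent.H885.Tri.meet3_D4_cross
      intro hd
      have h3 : (3 : F) ≠ 0 := by
        rcases h23 with ⟨h3, _⟩ | ⟨h3, _⟩ <;> exact h3
      apply h3
      obtain ⟨r, hr⟩ := CharP.exists F
      obtain ⟨n, hrp, hcard⟩ := FiniteField.card F r
      rw [hcard] at hd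
      have h1 := (Nat.prime_dvd_prime_iff_eq Nat.prime_three hrp).1 (Nat.prime_three.dvd_of_dvd_pow hd)
      subst h1
      have := CharP.cast_eq_zero F 3
      exact_mod_cast this
  · refine Meet.congr e.symm ?_
    rcases field_cases F with hc | ⟨h3, hF⟩ | ⟨h3, hF⟩
    · exact Cfsg.Agent.H868.MeetOddOmega.meet_POmega_plus le_rfl (by omega)
        (Cfsg.Agent.H126.SepThree.sepO_char_plus le_rfl (by omega))
    · obtain ⟨σ⟩ := exists_zmod hF
      obtain ⟨e'⟩ := pomega_plus_congr σ m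
      exact Meet.congr e'.symm (Cfsg.Agent.H31.M3Main.meet3_POmega_two_plus (by omega))
    · exact Cfsg.Agent.H579.Eight.meet3_POmega_plus_cross le_rfl (by rw [Nat.card_eq_fintype_card]; exact hF)
        (by exact_mod_cast h3) (by omega)

theorem pomega_minus (h : IsPOmegaMinus T) : Meet 3 T := by
  have : Fact (Nat.Prime 3) := ⟨Nat.prime_three⟩
  obtain ⟨F, _, _, m, a, b, hm, hab, ⟨e⟩⟩ := h
  refine Meet.congr e.symm ?_
  rcases field_cases F with hc | ⟨h3, hF⟩ | ⟨h3, hF⟩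
  · exact Cfsg.Agent.H868.MeetOddOmega.meet_POmega_minus le_rfl (by omega) a b hab
      (Cfsg.Agent.H126.SepThree.sepO_char_minus le_rfl (by omega) hab)
  · obtain ⟨σ⟩ := exists_zmod hF
    obtain ⟨e'⟩ := pomega_minus_congr σ (m - 1) a b
    refine Meet.congr e'.symm (Cfsg.Agent.H31.M3Main.meet3_POmega_two_minus (by omega) _ _ ?_)
    intro z₁ z₂ hz
    obtain ⟨w₁, rfl⟩ := σ.surjective z₁
    obtain ⟨w₂, rfl⟩ := σ.surjective z₂
    have h1 : σ (w₁ ^ 2 + a * w₁ * w₂ + b * w₂ ^ 2) = 0 := by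
      rw [← hz]
      simp only [map_add, map_mul, map_pow]
    have h2 := hab w₁ w₂ (by rwa [map_eq_zero_iff σ σ.injective] at h1)
    rw [h2.1, h2.2, map_zero]
    exact ⟨rfl, rfl⟩
  · exact Cfsg.Agent.H579.Eight.meet3_POmega_minus_cross le_rfl (by rw [Nat.card_eq_fintype_card]; exact hF)
      (by exact_mod_cast h3) (by omega) a b hab

end rows

end Cfsg.Agent.H903.Syl3Class
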