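/-
helper903: S5762, exceptional groups (assembly of the rows of helper172, helper185, helper743).
-/
import Mathlib
import Cfsg.Agent.H172.SIChev
import Cfsg.Agent.H172.SITw
import Cfsg.Agent.H172.SIE6
import Cfsg.Agent.H172.SI2E6
import Cfsg.Agent.H185.MeetChev
import Cfsg.Agent.H185.MeetTw
import Cfsg.Agent.H743.MeetTw
import Cfsg.Agent.H743.MeetTwF4
import Cfsg.Agent.H743.MeetTits

set_option autoImplicit false

namespace Cfsg.Agent.H903.SylExc

open Cfsg Cfsg.Lie Cfsg.Agent.H903.SylMeet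

variable {p : ℕ} [Fact p.Prime]

/-- If `p` divides `|F|`, then `p` is the characteristic. -/
theorem charP_of_dvd {F : Type*} [Field F] [Fintype F] (h : p ∣ Fintype.card F) : CharP F p := by
  obtain ⟨r, hr⟩ := CharP.exists F
  haveI := hr
  obtain ⟨n, hrp, hcard⟩ := FiniteField.card F r
  rw [hcard] at h
  have h1 := (Nat.prime_dvd_prime_iff_eq (Fact.out : p.Prime) hrp).1 ((Fact.out : p.Prime).dvd_of_dvd_pow h)
  rw [h1]
  exact hr

theorem chev (hp : 5 ≤ p) (D : ChevalleyDatum) (hD : D ∈ [chevG2, chevF4, chevE6, chevE7, chevE8])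
    {F : Type} [Field F] [Fintype F] {T : Type*} [Group T] (e : T ≃* D.group F)
    (hc : ¬ p ∣ Fintype.card F → Meet p ↥(D.group F)) : Meet p T := by
  refine Meet.congr e.symm ?_
  by_cases hd : p ∣ Fintype.card F
  · haveI := charP_of_dvd hd
    exact Cfsg.Agent.H185.MeetChev.char_chev D hD hp
  · exact hc hd

/-- **All exceptional groups**, `p ≥ 5`. -/
theorem meet_exc {T : Type*} [Group T] [Finite T] [IsSimpleGroup T] (hp : 5 ≤ p)
    (h : IsExceptionalLieType T) : Meet p T := by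
  rcases h with h | h | h | h | h | h | h | h | h | h | h
  · obtain ⟨F, _, _, hF, ⟨e⟩⟩ := h
    exact chev hp chevG2 (by simp) e fun hd => Cfsg.Agent.H172.SI.cross_G2 hF hp hd
  · obtain ⟨F, _, _, ⟨e⟩⟩ := h
    exact chev hp chevF4 (by simp) e fun hd => Cfsg.Agent.H172.SI.cross_F4 hp hd
  · obtain ⟨F, _, _, ⟨e⟩⟩ := h
    exact chev hp chevE6 (by simp) e fun hd => Cfsg.Agent.H172.SI.cross_E6 hp hd
  · obtain ⟨F, _, _, ⟨e⟩⟩ := h
    exact chev hp chevE7 (by simp) e fun hd => Cfsg.Agent.H172.SI.cross_E7 hp hd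
  · obtain ⟨F, _, _, ⟨e⟩⟩ := h
    exact chev hp chevE8 (by simp) e fun hd => Cfsg.Agent.H172.SI.cross_E8 hp hd
  · obtain ⟨K, _, _, q, hq, hK, ⟨e⟩⟩ := h
    refine Meet.congr e.symm ?_
    by_cases hd : p ∣ q
    · exact Cfsg.Agent.H185.MeetTw.char_2E6 q hq hK hp hd
    · exact Cfsg.Agent.H172.SI.cross_2E6 q hq hK hp hd
  · obtain ⟨K, _, _, q, hq, hK, ⟨e⟩⟩ := h
    refine Meet.congr e.symm ?_
    by_cases hd : p ∣ q
    · exact Cfsg.Agent.H185.MeetTw.char_3D4 q hq hK hp hd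
    · exact Cfsg.Agent.H172.SI.cross_3D4 q hq hK hp hd
  · exact Cfsg.Agent.H743.MeetTw.meet_Sz h hp
  · exact Cfsg.Agent.H743.MeetTw.meet_Ree h hp
  · exact Cfsg.Agent.H743.MeetTwF4.meet_2F4 h hp
  · exact Cfsg.Agent.H743.MeetTits.meet_Tits h hp

end Cfsg.Agent.H903.SylExc
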