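/-
helper903: S2484, exceptional groups, p = 3 (assembly).
-/
import Mathlib
import Cfsg.Agent.H903.SylExc
import Cfsg.Agent.H172.S3Main
import Cfsg.Agent.H172.S3Tw
import Cfsg.Agent.H172.S3FinF4
import Cfsg.Agent.H172.S3FinG2
import Cfsg.Agent.H172.S3FinTD4
import Cfsg.Agent.H185.MeetAll
import Cfsg.Agent.H523.Three
import Cfsg.Agent.H523.ThreeE7
import Cfsg.Agent.H743.MeetTwThree
import Cfsg.Agent.H743.MeetTitsThree
import Cfsg.Agent.H743.MeetTwF4Three

set_option autoImplicit false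

namespace Cfsg.Agent.H903.Syl3Exc

open Cfsg Cfsg.Lie Cfsg.Agent.H903.SylMeet

theorem chev (D : ChevalleyDatum) (hD : D ∈ [chevG2, chevF4, chevE6, chevE7, chevE8])
    {F : Type} [Field F] [Fintype F] {T : Type*} [Group T] (e : T ≃* D.group F)
    (hc : ¬ 3 ∣ Fintype.card F → Meet 3 ↥(D.group F)) : Meet 3 T := by
  have : Fact (Nat.Prime 3) := ⟨Nat.prime_three⟩
  refine Meet.congr e.symm ?_
  by_cases hd : 3 ∣ Fintype.card F
  · have := SylExc.charP_of_dvd hd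
    exact Cfsg.Agent.H185.MeetAll.char3_chev D hD
  · exact hc hd

/-- **All exceptional groups**, `p = 3`. -/
theorem meet3_exc {T : Type*} [Group T] [Finite T] [IsSimpleGroup T]
    (h2E6 : ∀ (K : Type) [Field K] [Fintype K], Fintype.card K = 4 → (T ≃* ↥(twistedE6 K 2)) → Meet 3 T)
    (h : IsExceptionalLieType T) : Meet 3 T := by
  rcases h with h | h | h | h | h | h | h | h | h | h | h
  · obtain ⟨F, _, _, hF, ⟨e⟩⟩ := h
    exact chev chevG2 (by simp) e (fun hd => Cfsg.Agent.H172.S3.cross3_G2 hF hd)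
  · obtain ⟨F, _, _, ⟨e⟩⟩ := h
    exact chev chevF4 (by simp) e Cfsg.Agent.H172.S3.cross3_F4
  · obtain ⟨F, _, _, ⟨e⟩⟩ := h
    exact chev chevE6 (by simp) e Cfsg.Agent.H523.Three.cross3_E6
  · obtain ⟨F, _, _, ⟨e⟩⟩ := h
    exact chev chevE7 (by simp) e Cfsg.Agent.H523.Three.cross3_E7
  · obtain ⟨F, _, _, ⟨e⟩⟩ := h
    exact chev chevE8 (by simp) e Cfsg.Agent.H523.Three.cross3_E8
  · obtain ⟨K, _, _, q, hq, hK, ⟨e⟩⟩ := h
    by_cases hd : 3 ∣ q
    · exact Meet.congr e.symm (Cfsg.Agent.H185.MeetAll.char3_2E6 q hq hK hd)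
    · by_cases h2 : q = 2
      · subst h2
        exact h2E6 K (by rw [hK]; norm_num) e
      · exact Meet.congr e.symm (Cfsg.Agent.H523.Three.cross3_2E6_of q hq hK hd h2)
  · obtain ⟨K, _, _, q, hq, hK, ⟨e⟩⟩ := h
    refine Meet.congr e.symm ?_
    by_cases hd : 3 ∣ q
    · exact Cfsg.Agent.H185.MeetAll.char3_3D4 q hq hK hd
    · exact Cfsg.Agent.H172.S3.cross3_3D4 q hq hK hd
  · exact Cfsg.Agent.H743.MeetTwThree.meet3_Sz h
  · exact Cfsg.Agent.H743.MeetTwThree.meet3_Ree h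
  · exact Cfsg.Agent.H743.MeetTwF4Three.meet3_2F4 h
  · exact Cfsg.Agent.H743.MeetTitsThree.meet3_Tits h

end Cfsg.Agent.H903.Syl3Exc
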