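/-
helper903: S2484, sporadic groups, p = 3 (assembly).
-/
import Mathlib
import Cfsg.Agent.H232.MeetCo1
import Cfsg.Agent.H232.MeetFi22
import Cfsg.Agent.H232.MeetFi23
import Cfsg.Agent.H232.MeetFi24
import Cfsg.Agent.H232.MeetMcL
import Cfsg.Agent.H47.Meet3Ab
import Cfsg.Agent.H47.Meet3He
import Cfsg.Agent.H47.Meet3J2
import Cfsg.Agent.H47.Meet3J3
import Cfsg.Agent.H47.Meet3J4
import Cfsg.Agent.H47.Meet3Mat
import Cfsg.Agent.H47.Meet3ON
import Cfsg.Agent.H47.Meet3Ru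
import Cfsg.Agent.H68.MeetBabyThree
import Cfsg.Agent.H68.MeetHNThree
import Cfsg.Agent.H68.MeetLyThree
import Cfsg.Agent.H68.MeetMonThree
import Cfsg.Agent.H68.MeetThThree
import Cfsg.Agent.H768.Meet.Suz
import Cfsg.Agent.H866.MeetCoTh

set_option autoImplicit false

namespace Cfsg.Agent.H903.Syl3Spor

open Cfsg Cfsg.Agent.H903.SylMeet Cfsg.Agent.H68.MeetB

variable {G : Type*} [Group G] [Finite G] [IsSimpleGroup G]

/-- **All sporadic groups**, `p = 3`. -/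
theorem spor (h : IsSporadicGroup G) : Meet 3 G := by
  rcases h with h | h | h | h | h | h | h | h | h | h | h | h | h | h | h | h | h | h | h | h | h | h | h | h | h | h
  · exact Cfsg.Agent.H47.MeetS.meet3_M11 h
  · exact Cfsg.Agent.H47.MeetS.meet3_M12 h
  · exact Cfsg.Agent.H47.MeetS.meet3_M22 h
  · exact Cfsg.Agent.H47.MeetS.meet3_M23 h
  · exact Cfsg.Agent.H47.MeetS.meet3_M24 h
  · exact Cfsg.Agent.H47.MeetS.meet3_J1 h
  · exact Cfsg.Agent.H47.MeetS.meet3_J2 h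
  · exact Cfsg.Agent.H47.MeetS.meet3_J3 h
  · exact Cfsg.Agent.H47.MeetS.meet3_J4 h
  · exact Cfsg.Agent.H232.MeetCo1.meet3_Co1 h
  · exact Cfsg.Agent.H232.MeetMcL.meet3_Co2 h
  · exact Cfsg.Agent.H866.MeetCoTh.meet3_Co3 h
  · exact Cfsg.Agent.H232.MeetMcL.meet3_McL h
  · exact Cfsg.Agent.H47.MeetS.meet3_HS h
  · exact Cfsg.Agent.H768.Meet.SuzRow.meet3_Suz h
  · exact Cfsg.Agent.H47.MeetS.meet3_He h
  · exact Cfsg.Agent.H47.MeetS.meet3_Ru h
  · exact Cfsg.Agent.H47.MeetS.meet3_ON h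
  · exact Cfsg.Agent.H68.MeetLyThree.meet3_Ly h
  · exact Cfsg.Agent.H232.MeetFi22.meet3_Fi22 h
  · exact Cfsg.Agent.H232.MeetFi23.meet3_Fi23 h
  · exact Cfsg.Agent.H232.MeetFi24.meet3_Fi24 h
  · exact Cfsg.Agent.H68.MeetHNThree.meet3_HN h
  · exact Cfsg.Agent.H68.MeetThThree.meet3_Th h
  · exact Cfsg.Agent.H68.MeetBabyThree.meet3_B h
  · exact Cfsg.Agent.H68.MeetMonThree.meet3_M h

end Cfsg.Agent.H903.Syl3Spor
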