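/-
helper903: S5762, classical and alternating groups (assembly).
-/
import Mathlib
import Cfsg.Agent.H903.SylRegL
import Cfsg.Agent.H903.SylRegO
import Cfsg.Agent.H903.SylRegU
import Cfsg.Agent.H178.MeetAlt.Main
import Cfsg.Agent.H743.MeetPSL2
import Cfsg.Agent.H897.MeetPSL
import Cfsg.Agent.H513.MeetPSp
import Cfsg.Agent.H177.MeetPSU
import Cfsg.Agent.H152.MeetOmega
import Cfsg.Agent.H126.SepMain
import Cfsg.Agent.H126.SepSpSU
import Cfsg.Agent.H126.SepOrth
import Cfsg.Agent.H206.SepSL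
import Cfsg.Agent.H458.SepSp
import Cfsg.Agent.H479.SepSU
import Cfsg.Agent.H579.MpoMain

set_option autoImplicit false

namespace Cfsg.Agent.H903.SylClass

open Cfsg Cfsg.Agent.H903.SylMeet Cfsg.Agent.H903.SylReg

variable {p : ℕ} [Fact p.Prime]

theorem not_dvd_card {F : Type*} [Field F] [Fintype F] (h : (p : F) ≠ 0) : ¬ p ∣ Fintype.card F := by
  intro hd
  apply h
  rw [← map_natCast (RingHom.id F)]
  obtain ⟨r, hr⟩ := CharP.exists F
  haveI := hr
  obtain ⟨n, hrp, hcard⟩ := FiniteField.card F r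
  rw [hcard] at hd
  have h1 := (Nat.prime_dvd_prime_iff_eq (Fact.out : p.Prime) hrp).1 ((Fact.out : p.Prime).dvd_of_dvd_pow hd)
  rw [h1]
  simp

theorem alt (hp : 5 ≤ p) {T : Type*} [Group T] (h : IsAlternating T) : Meet p T := by
  obtain ⟨n, hn, ⟨e⟩⟩ := h
  exact Meet.congr e.symm (Cfsg.Agent.H178.MeetAlt.meet_alt hp hn)

theorem psl (hp : 5 ≤ p) {T : Type*} [Group T] (h : IsPSL T) : Meet p T := by
  obtain ⟨F, _, _, n, hn, h2, ⟨e⟩⟩ := h
  refine Meet.congr e.symm ?_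
  by_cases hpF : (p : F) = 0
  · haveI : CharP F p := (CharP.charP_iff_prime_eq_zero (Fact.out : p.Prime)).2 hpF
    exact Cfsg.Agent.H897.MeetPSL.meet_PSL hp hn h2
      (Cfsg.Agent.H126.SepMain.sepSL_char hp (by rw [Module.finrank_fin_fun]; exact hn))
  · by_cases hn2 : n = 2
    · subst hn2
      exact Cfsg.Agent.H743.MeetPSL2.cross_PSL2 (h2 rfl) hp (not_dvd_card hpF)
    · exact Cfsg.Agent.H897.MeetPSL.meet_PSL hp hn h2
        (Cfsg.Agent.H206.SepCross.sepSL_cross hp hpF (by rw [Module.finrank_fin_fun]; omega)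
          (regSL p hp F _ hpF (by rw [Module.finrank_fin_fun]; omega)))

theorem psp (hp : 5 ≤ p) {T : Type*} [Group T] (h : IsPSp T) : Meet p T := by
  obtain ⟨F, _, _, m, hm, h2, ⟨e⟩⟩ := h
  refine Meet.congr e.symm (Cfsg.Agent.H513.MeetPSp.meet_PSp hp hm h2 ?_)
  by_cases hpF : (p : F) = 0
  · haveI : CharP F p := (CharP.charP_iff_prime_eq_zero (Fact.out : p.Prime)).2 hpF
    exact Cfsg.Agent.H126.SepSpSU.sepSp_char hp hm
  · exact Cfsg.Agent.H458.SepSp.sepSp_cross hp hpF hm (regSp p hp F _ hpF (by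
      rw [Module.finrank_fintype_fun_eq_card]; simp; omega))

theorem psu (hp : 5 ≤ p) {T : Type*} [Group T] (h : IsPSU T) : Meet p T := by
  obtain ⟨F, _, _, n, q, hF, hn, h2, ⟨e⟩⟩ := h
  refine Meet.congr e.symm (Cfsg.Agent.H177.MeetPSU.meet_PSU hp hF hn h2 ?_)
  by_cases hpF : (p : F) = 0
  · haveI : CharP F p := (CharP.charP_iff_prime_eq_zero (Fact.out : p.Prime)).2 hpF
    exact Cfsg.Agent.H126.SepSpSU.sepSU_char hp hF hn
  · exact Cfsg.Agent.H479.SepSU.sepSU_cross hp hF hpF hn (regU p hp F _ hpF (by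
      rw [Module.finrank_fin_fun]; exact hn))

theorem pomega_odd (hp : 5 ≤ p) {T : Type*} [Group T] (h : IsPOmegaOdd T) : Meet p T := by
  obtain ⟨F, _, _, m, hm, ho, ⟨e⟩⟩ := h
  refine Meet.congr e.symm ?_
  by_cases hpF : (p : F) = 0
  · haveI : CharP F p := (CharP.charP_iff_prime_eq_zero (Fact.out : p.Prime)).2 hpF
    exact Cfsg.Agent.H152.MeetOmega.meet_POmega_odd hm ho
      (Cfsg.Agent.H126.SepOrth.sepO_char_odd hp hm)
  · exact Cfsg.Agent.H579.Mpo.meet_POmega_odd_cross hp hpF hm ho (regO p hp F _ hpF (by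
      rw [Module.finrank_fintype_fun_eq_card]; simp; omega))

theorem pomega_plus (hp : 5 ≤ p) {T : Type*} [Group T] (h : IsPOmegaPlus T) : Meet p T := by
  obtain ⟨F, _, _, m, hm, ⟨e⟩⟩ := h
  refine Meet.congr e.symm ?_
  by_cases hpF : (p : F) = 0
  · haveI : CharP F p := (CharP.charP_iff_prime_eq_zero (Fact.out : p.Prime)).2 hpF
    exact Cfsg.Agent.H152.MeetOmega.meet_POmega_plus hp hm
      (Cfsg.Agent.H126.SepOrth.sepO_char_plus hp (by omega))
  · exact Cfsg.Agent.H579.Mpo.meet_POmega_plus_cross hp hpF hm (regO p hp F _ hpF (by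
      rw [Module.finrank_fintype_fun_eq_card]; simp; omega))

theorem pomega_minus (hp : 5 ≤ p) {T : Type*} [Group T] (h : IsPOmegaMinus T) : Meet p T := by
  obtain ⟨F, _, _, m, a, b, hm, hab, ⟨e⟩⟩ := h
  refine Meet.congr e.symm ?_
  by_cases hpF : (p : F) = 0
  · haveI : CharP F p := (CharP.charP_iff_prime_eq_zero (Fact.out : p.Prime)).2 hpF
    exact Cfsg.Agent.H152.MeetOmega.meet_POmega_minus (by omega) a b hab
      (Cfsg.Agent.H126.SepOrth.sepO_char_minus hp (by omega) hab)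
  · exact Cfsg.Agent.H579.Mpo.meet_POmega_minus_cross hp hpF (by omega) a b hab
      (regO p hp F _ hpF (by
        rw [Module.finrank_fintype_fun_eq_card]; simp; omega))

end Cfsg.Agent.H903.SylClass
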