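/-
helper903: S5762, sporadic groups (assembly of the rows of helper47 and helper68).
-/
import Mathlib
import Cfsg.Agent.H47.MeetAb
import Cfsg.Agent.H47.MeetCo
import Cfsg.Agent.H47.MeetM
import Cfsg.Agent.H47.MeetFi
import Cfsg.Agent.H47.MeetJ4
import Cfsg.Agent.H47.MeetONan
import Cfsg.Agent.H47.MeetHe
import Cfsg.Agent.H68.MeetHS
import Cfsg.Agent.H68.MeetMcL
import Cfsg.Agent.H68.MeetRu
import Cfsg.Agent.H68.MeetLy
import Cfsg.Agent.H68.MeetTh
import Cfsg.Agent.H68.MeetMon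
import Cfsg.Agent.H68.MeetHN
import Cfsg.Agent.H68.MeetBaby

set_option autoImplicit false

namespace Cfsg.Agent.H903.SylSpor

open Cfsg Cfsg.Agent.H903.SylMeet Cfsg.Agent.NotCT

theorem mem_of_dvd {p : ℕ} (hp : p.Prime) (L : List (ℕ × ℕ)) (hL : ∀ x ∈ L, x.1.Prime)
    (h : p ∣ (L.map fun x => x.1 ^ x.2).prod) : ∃ x ∈ L, p = x.1 := by
  induction L with
  | nil => exact absurd (by simpa using h) hp.one_lt.ne'
  | cons a L ih =>
    rw [List.map_cons, List.prod_cons, hp.dvd_mul] at h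
    rcases h with h | h
    · refine ⟨a, List.mem_cons_self, ?_⟩
      exact (Nat.prime_dvd_prime_iff_eq hp (hL a List.mem_cons_self)).1 (hp.dvd_of_dvd_pow h)
    · obtain ⟨x, hx, he⟩ := ih (fun x hx => hL x (List.mem_cons_of_mem _ hx)) h
      exact ⟨x, List.mem_cons_of_mem _ hx, he⟩

theorem cube {p N : ℕ} (hp : p.Prime) (h5 : 5 ≤ p) (L : List (ℕ × ℕ)) (S : List ℕ)
    (hN : (L.map fun x => x.1 ^ x.2).prod = N) (hL : ∀ x ∈ L, x.1.Prime)
    (hS : ∀ x ∈ L, x.1 < 5 ∨ x.1 ∈ S ∨ N % x.1 ^ 3 ≠ 0) (h : p ^ 3 ∣ N) : p ∈ S := by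
  obtain ⟨x, hx, rfl⟩ := mem_of_dvd hp L hL (hN ▸ (dvd_pow_self p (by norm_num)).trans h)
  rcases hS x hx with h1 | h1 | h1
  · omega
  · exact h1
  · exact absurd (Nat.mod_eq_zero_of_dvd h) h1

variable {G : Type*} [Group G] [Finite G] [IsSimpleGroup G] {p : ℕ} [Fact p.Prime]

theorem cube_m11 (h : Spor.IsoM11 G) (hp : 5 ≤ p) (hc : p ^ 3 ∣ Nat.card G) : p ∈ ([] : List ℕ) := by
  rw [Orders.m11 h] at hc
  refine cube (Fact.out : p.Prime) hp [(2, 4), (3, 2), (5, 1), (11, 1)] [] (by norm_num) ?_ (by decide) hc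
  simp only [List.forall_mem_cons, List.not_mem_nil, false_imp_iff, implies_true, and_true]
  norm_num

theorem cube_m12 (h : Spor.IsoM12 G) (hp : 5 ≤ p) (hc : p ^ 3 ∣ Nat.card G) : p ∈ ([] : List ℕ) := by
  rw [Orders.m12 h] at hc
  refine cube (Fact.out : p.Prime) hp [(2, 6), (3, 3), (5, 1), (11, 1)] [] (by norm_num) ?_ (by decide) hc
  simp only [List.forall_mem_cons, List.not_mem_nil, false_imp_iff, implies_true, and_true]
  norm_num

theorem cube_m22 (h : Spor.IsoM22 G) (hp : 5 ≤ p) (hc : p ^ 3 ∣ Nat.card G) : p ∈ ([] : List ℕ) := by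
  rw [Orders.m22 h] at hc
  refine cube (Fact.out : p.Prime) hp [(2, 7), (3, 2), (5, 1), (7, 1), (11, 1)] [] (by norm_num) ?_ (by decide) hc
  simp only [List.forall_mem_cons, List.not_mem_nil, false_imp_iff, implies_true, and_true]
  norm_num

theorem cube_m23 (h : Spor.IsoM23 G) (hp : 5 ≤ p) (hc : p ^ 3 ∣ Nat.card G) : p ∈ ([] : List ℕ) := by
  rw [Orders.m23 h] at hc
  refine cube (Fact.out : p.Prime) hp [(2, 7), (3, 2), (5, 1), (7, 1), (11, 1), (23, 1)] [] (by norm_num) ?_ (by decide) hc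
  simp only [List.forall_mem_cons, List.not_mem_nil, false_imp_iff, implies_true, and_true]
  norm_num

theorem cube_m24 (h : Spor.IsoM24 G) (hp : 5 ≤ p) (hc : p ^ 3 ∣ Nat.card G) : p ∈ ([] : List ℕ) := by
  rw [Orders.m24 h] at hc
  refine cube (Fact.out : p.Prime) hp [(2, 10), (3, 3), (5, 1), (7, 1), (11, 1), (23, 1)] [] (by norm_num) ?_ (by decide) hc
  simp only [List.forall_mem_cons, List.not_mem_nil, false_imp_iff, implies_true, and_true]
  norm_num

theorem cube_j1 (h : Spor.IsoJ1 G) (hp : 5 ≤ p) (hc : p ^ 3 ∣ Nat.card G) : p ∈ ([] : List ℕ) := by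
  rw [Orders.j1 h] at hc
  refine cube (Fact.out : p.Prime) hp [(2, 3), (3, 1), (5, 1), (7, 1), (11, 1), (19, 1)] [] (by norm_num) ?_ (by decide) hc
  simp only [List.forall_mem_cons, List.not_mem_nil, false_imp_iff, implies_true, and_true]
  norm_num

theorem cube_j2 (h : Spor.IsoJ2 G) (hp : 5 ≤ p) (hc : p ^ 3 ∣ Nat.card G) : p ∈ ([] : List ℕ) := by
  rw [Orders.j2 h] at hc
  refine cube (Fact.out : p.Prime) hp [(2, 7), (3, 3), (5, 2), (7, 1)] [] (by norm_num) ?_ (by decide) hc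
  simp only [List.forall_mem_cons, List.not_mem_nil, false_imp_iff, implies_true, and_true]
  norm_num

theorem cube_j3 (h : Spor.IsoJ3 G) (hp : 5 ≤ p) (hc : p ^ 3 ∣ Nat.card G) : p ∈ ([] : List ℕ) := by
  rw [Orders.j3 h] at hc
  refine cube (Fact.out : p.Prime) hp [(2, 7), (3, 5), (5, 1), (17, 1), (19, 1)] [] (by norm_num) ?_ (by decide) hc
  simp only [List.forall_mem_cons, List.not_mem_nil, false_imp_iff, implies_true, and_true]
  norm_num

theorem cube_j4 (h : Spor.IsoJ4 G) (hp : 5 ≤ p) (hc : p ^ 3 ∣ Nat.card G) : p ∈ ([11] : List ℕ) := by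
  rw [Orders.j4 h] at hc
  refine cube (Fact.out : p.Prime) hp [(2, 21), (3, 3), (5, 1), (7, 1), (11, 3), (23, 1), (29, 1), (31, 1), (37, 1), (43, 1)] [11] (by norm_num) ?_ (by decide) hc
  simp only [List.forall_mem_cons, List.not_mem_nil, false_imp_iff, implies_true, and_true]
  norm_num

theorem cube_co1 (h : Spor.IsoCo1 G) (hp : 5 ≤ p) (hc : p ^ 3 ∣ Nat.card G) : p ∈ ([5] : List ℕ) := by
  rw [Orders.co1 h] at hc
  refine cube (Fact.out : p.Prime) hp [(2, 21), (3, 9), (5, 4), (7, 2), (11, 1), (13, 1), (23, 1)] [5] (by norm_num) ?_ (by decide) hc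
  simp only [List.forall_mem_cons, List.not_mem_nil, false_imp_iff, implies_true, and_true]
  norm_num

theorem cube_co2 (h : Spor.IsoCo2 G) (hp : 5 ≤ p) (hc : p ^ 3 ∣ Nat.card G) : p ∈ ([5] : List ℕ) := by
  rw [Orders.co2 h] at hc
  refine cube (Fact.out : p.Prime) hp [(2, 18), (3, 6), (5, 3), (7, 1), (11, 1), (23, 1)] [5] (by norm_num) ?_ (by decide) hc
  simp only [List.forall_mem_cons, List.not_mem_nil, false_imp_iff, implies_true, and_true]
  norm_num

theorem cube_co3 (h : Spor.IsoCo3 G) (hp : 5 ≤ p) (hc : p ^ 3 ∣ Nat.card G) : p ∈ ([5] : List ℕ) := by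
  rw [Orders.co3 h] at hc
  refine cube (Fact.out : p.Prime) hp [(2, 10), (3, 7), (5, 3), (7, 1), (11, 1), (23, 1)] [5] (by norm_num) ?_ (by decide) hc
  simp only [List.forall_mem_cons, List.not_mem_nil, false_imp_iff, implies_true, and_true]
  norm_num

theorem cube_mcl (h : Spor.IsoMcL G) (hp : 5 ≤ p) (hc : p ^ 3 ∣ Nat.card G) : p ∈ ([5] : List ℕ) := by
  rw [Orders.mcl h] at hc
  refine cube (Fact.out : p.Prime) hp [(2, 7), (3, 6), (5, 3), (7, 1), (11, 1)] [5] (by norm_num) ?_ (by decide) hc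
  simp only [List.forall_mem_cons, List.not_mem_nil, false_imp_iff, implies_true, and_true]
  norm_num

theorem cube_hs (h : Spor.IsoHS G) (hp : 5 ≤ p) (hc : p ^ 3 ∣ Nat.card G) : p ∈ ([5] : List ℕ) := by
  rw [Orders.hs h] at hc
  refine cube (Fact.out : p.Prime) hp [(2, 9), (3, 2), (5, 3), (7, 1), (11, 1)] [5] (by norm_num) ?_ (by decide) hc
  simp only [List.forall_mem_cons, List.not_mem_nil, false_imp_iff, implies_true, and_true]
  norm_num

theorem cube_suz (h : Spor.IsoSuz G) (hp : 5 ≤ p) (hc : p ^ 3 ∣ Nat.card G) : p ∈ ([] : List ℕ) := by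
  rw [Orders.suz h] at hc
  refine cube (Fact.out : p.Prime) hp [(2, 13), (3, 7), (5, 2), (7, 1), (11, 1), (13, 1)] [] (by norm_num) ?_ (by decide) hc
  simp only [List.forall_mem_cons, List.not_mem_nil, false_imp_iff, implies_true, and_true]
  norm_num

theorem cube_he (h : Spor.IsoHe G) (hp : 5 ≤ p) (hc : p ^ 3 ∣ Nat.card G) : p ∈ ([7] : List ℕ) := by
  rw [Orders.he h] at hc
  refine cube (Fact.out : p.Prime) hp [(2, 10), (3, 3), (5, 2), (7, 3), (17, 1)] [7] (by norm_num) ?_ (by decide) hc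
  simp only [List.forall_mem_cons, List.not_mem_nil, false_imp_iff, implies_true, and_true]
  norm_num

theorem cube_ru (h : Spor.IsoRu G) (hp : 5 ≤ p) (hc : p ^ 3 ∣ Nat.card G) : p ∈ ([5] : List ℕ) := by
  rw [Orders.ru h] at hc
  refine cube (Fact.out : p.Prime) hp [(2, 14), (3, 3), (5, 3), (7, 1), (13, 1), (29, 1)] [5] (by norm_num) ?_ (by decide) hc
  simp only [List.forall_mem_cons, List.not_mem_nil, false_imp_iff, implies_true, and_true]
  norm_num

theorem cube_on (h : Spor.IsoON G) (hp : 5 ≤ p) (hc : p ^ 3 ∣ Nat.card G) : p ∈ ([7] : List ℕ) := by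
  rw [Orders.on h] at hc
  refine cube (Fact.out : p.Prime) hp [(2, 9), (3, 4), (5, 1), (7, 3), (11, 1), (19, 1), (31, 1)] [7] (by norm_num) ?_ (by decide) hc
  simp only [List.forall_mem_cons, List.not_mem_nil, false_imp_iff, implies_true, and_true]
  norm_num

theorem cube_ly (h : Spor.IsoLy G) (hp : 5 ≤ p) (hc : p ^ 3 ∣ Nat.card G) : p ∈ ([5] : List ℕ) := by
  rw [Orders.ly h] at hc
  refine cube (Fact.out : p.Prime) hp [(2, 8), (3, 7), (5, 6), (7, 1), (11, 1), (31, 1), (37, 1), (67, 1)] [5] (by norm_num) ?_ (by decide) hc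
  simp only [List.forall_mem_cons, List.not_mem_nil, false_imp_iff, implies_true, and_true]
  norm_num

theorem cube_fi22 (h : Spor.IsoFi22 G) (hp : 5 ≤ p) (hc : p ^ 3 ∣ Nat.card G) : p ∈ ([] : List ℕ) := by
  rw [Orders.fi22 h] at hc
  refine cube (Fact.out : p.Prime) hp [(2, 17), (3, 9), (5, 2), (7, 1), (11, 1), (13, 1)] [] (by norm_num) ?_ (by decide) hc
  simp only [List.forall_mem_cons, List.not_mem_nil, false_imp_iff, implies_true, and_true]
  norm_num

theorem cube_fi23 (h : Spor.IsoFi23 G) (hp : 5 ≤ p) (hc : p ^ 3 ∣ Nat.card G) : p ∈ ([] : List ℕ) := by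
  rw [Orders.fi23 h] at hc
  refine cube (Fact.out : p.Prime) hp [(2, 18), (3, 13), (5, 2), (7, 1), (11, 1), (13, 1), (17, 1), (23, 1)] [] (by norm_num) ?_ (by decide) hc
  simp only [List.forall_mem_cons, List.not_mem_nil, false_imp_iff, implies_true, and_true]
  norm_num

theorem cube_fi24 (h : Spor.IsoFi24' G) (hp : 5 ≤ p) (hc : p ^ 3 ∣ Nat.card G) : p ∈ ([7] : List ℕ) := by
  rw [Orders.fi24 h] at hc
  refine cube (Fact.out : p.Prime) hp [(2, 21), (3, 16), (5, 2), (7, 3), (11, 1), (13, 1), (17, 1), (23, 1), (29, 1)] [7] (by norm_num) ?_ (by decide) hc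
  simp only [List.forall_mem_cons, List.not_mem_nil, false_imp_iff, implies_true, and_true]
  norm_num

theorem cube_hn (h : Spor.IsoHN G) (hp : 5 ≤ p) (hc : p ^ 3 ∣ Nat.card G) : p ∈ ([5] : List ℕ) := by
  rw [Orders.hn h] at hc
  refine cube (Fact.out : p.Prime) hp [(2, 14), (3, 6), (5, 6), (7, 1), (11, 1), (19, 1)] [5] (by norm_num) ?_ (by decide) hc
  simp only [List.forall_mem_cons, List.not_mem_nil, false_imp_iff, implies_true, and_true]
  norm_num

theorem cube_th (h : Spor.IsoTh G) (hp : 5 ≤ p) (hc : p ^ 3 ∣ Nat.card G) : p ∈ ([5] : List ℕ) := by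
  rw [Orders.th h] at hc
  refine cube (Fact.out : p.Prime) hp [(2, 15), (3, 10), (5, 3), (7, 2), (13, 1), (19, 1), (31, 1)] [5] (by norm_num) ?_ (by decide) hc
  simp only [List.forall_mem_cons, List.not_mem_nil, false_imp_iff, implies_true, and_true]
  norm_num

theorem cube_b (h : Spor.IsoB G) (hp : 5 ≤ p) (hc : p ^ 3 ∣ Nat.card G) : p ∈ ([5] : List ℕ) := by
  rw [Orders.b h] at hc
  refine cube (Fact.out : p.Prime) hp [(2, 41), (3, 13), (5, 6), (7, 2), (11, 1), (13, 1), (17, 1), (19, 1), (23, 1), (31, 1), (47, 1)] [5] (by norm_num) ?_ (by decide) hc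
  simp only [List.forall_mem_cons, List.not_mem_nil, false_imp_iff, implies_true, and_true]
  norm_num

theorem cube_m (h : Spor.IsoM G) (hp : 5 ≤ p) (hc : p ^ 3 ∣ Nat.card G) : p ∈ ([5, 7, 13] : List ℕ) := by
  rw [Orders.m h] at hc
  refine cube (Fact.out : p.Prime) hp [(2, 46), (3, 20), (5, 9), (7, 6), (11, 2), (13, 3), (17, 1), (19, 1), (23, 1), (29, 1), (31, 1), (41, 1), (47, 1), (59, 1), (71, 1)] [5, 7, 13] (by norm_num) ?_ (by decide) hc
  simp only [List.forall_mem_cons, List.not_mem_nil, false_imp_iff, implies_true, and_true]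
  norm_num

/-- **All sporadic groups**, `p ≥ 5`. -/
theorem meet_spor (hp : 5 ≤ p) (h : IsSporadicGroup G) : Meet p G := by
  by_cases hc : p ^ 3 ∣ Nat.card G
  swap
  · exact Cfsg.Agent.H47.MeetS.meet_spor_abelian hp h hc
  rcases h with h | h | h | h | h | h | h | h | h | h | h | h | h | h | h | h | h | h | h | h | h | h | h | h | h | h
  · exact absurd (cube_m11 h hp hc) List.not_mem_nil
  · exact absurd (cube_m12 h hp hc) List.not_mem_nil
  · exact absurd (cube_m22 h hp hc) List.not_mem_nil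
  · exact absurd (cube_m23 h hp hc) List.not_mem_nil
  · exact absurd (cube_m24 h hp hc) List.not_mem_nil
  · exact absurd (cube_j1 h hp hc) List.not_mem_nil
  · exact absurd (cube_j2 h hp hc) List.not_mem_nil
  · exact absurd (cube_j3 h hp hc) List.not_mem_nil
  · obtain rfl : p = 11 := by simpa using cube_j4 h hp hc
    exact Cfsg.Agent.H47.MeetS.meet11_J4 h
  · obtain rfl : p = 5 := by simpa using cube_co1 h hp hc
    exact Cfsg.Agent.H47.MeetS.meet5_Co1 h
  · obtain rfl : p = 5 := by simpa using cube_co2 h hp hc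
    exact Cfsg.Agent.H47.MeetS.meet5_Co2 h
  · obtain rfl : p = 5 := by simpa using cube_co3 h hp hc
    exact Cfsg.Agent.H47.MeetS.meet5_Co3 h
  · obtain rfl : p = 5 := by simpa using cube_mcl h hp hc
    exact Cfsg.Agent.H68.MeetMcL.meet5_McL h
  · obtain rfl : p = 5 := by simpa using cube_hs h hp hc
    exact Cfsg.Agent.H68.MeetHS.meet5_HS h
  · exact absurd (cube_suz h hp hc) List.not_mem_nil
  · obtain rfl : p = 7 := by simpa using cube_he h hp hc
    exact Cfsg.Agent.H47.MeetS.meet7_He h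
  · obtain rfl : p = 5 := by simpa using cube_ru h hp hc
    exact Cfsg.Agent.H68.MeetRu.meet5_Ru h
  · obtain rfl : p = 7 := by simpa using cube_on h hp hc
    exact Cfsg.Agent.H47.MeetS.meet7_ON h
  · obtain rfl : p = 5 := by simpa using cube_ly h hp hc
    exact Cfsg.Agent.H68.MeetLy.meet5_Ly h
  · exact absurd (cube_fi22 h hp hc) List.not_mem_nil
  · exact absurd (cube_fi23 h hp hc) List.not_mem_nil
  · obtain rfl : p = 7 := by simpa using cube_fi24 h hp hc
    exact Cfsg.Agent.H47.MeetS.meet7_Fi24 h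
  · obtain rfl : p = 5 := by simpa using cube_hn h hp hc
    exact Cfsg.Agent.H68.MeetHN.meet5_HN h
  · obtain rfl : p = 5 := by simpa using cube_th h hp hc
    exact Cfsg.Agent.H68.MeetTh.meet5_Th h
  · obtain rfl : p = 5 := by simpa using cube_b h hp hc
    exact Cfsg.Agent.H68.MeetBaby.meet5_B h
  · have hs := cube_m h hp hc
    simp only [List.mem_cons, List.not_mem_nil, or_false] at hs
    rcases hs with rfl | rfl | rfl
    · exact Cfsg.Agent.H68.MeetMon.meet5_M h
    · exact Cfsg.Agent.H47.MeetS.Mon.meet7_M h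
    · exact Cfsg.Agent.H47.MeetS.Mon.meet13_M h

end Cfsg.Agent.H903.SylSpor
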