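/-
helper903: S5762, assembly over the list of known simple groups.
-/
import Mathlib
import Cfsg.Agent.H903.SylMeet
import Cfsg.Agent.H903.SylClass
import Cfsg.Agent.H903.SylExc
import Cfsg.Agent.H903.SylSpor

set_option autoImplicit false

namespace Cfsg.Agent.H903.SylFin

open Cfsg Cfsg.Lie Cfsg.Agent.H903.SylMeet

/-- **Main theorem** for known simple groups. -/
theorem meet_known {p : ℕ} [Fact p.Prime] {T : Type*} [Group T] [Finite T] [IsSimpleGroup T] (hp : 5 ≤ p)
    (hT : ¬ IsMulCommutative T) (h : IsKnownSimple' T) : Meet p T := by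
  rcases h with h | h | h | h | h | h | h | h | h | h
  · exfalso
    apply hT
    haveI : Fact (Nat.card T).Prime := ⟨h⟩
    haveI := isCyclic_of_prime_card (α := T) rfl
    exact ⟨⟨fun a b => (IsCyclic.commGroup (α := T)).mul_comm a b⟩⟩
  · exact SylClass.alt hp h
  · exact SylClass.psl hp h
  · exact SylClass.psp hp h
  · exact SylClass.psu hp h
  · exact SylClass.pomega_odd hp h
  · exact SylClass.pomega_plus hp h
  · exact SylClass.pomega_minus hp h
  · exact SylExc.meet_exc hp h
  · exact SylSpor.meet_spor hp h

end Cfsg.Agent.H903.SylFin
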