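/-
helper903: S2484, assembly over the list of known simple groups (p = 3).
-/
import Mathlib
import Cfsg.Agent.H903.SylMeet
import Cfsg.Agent.H903.SylFin
import Cfsg.Agent.H903.Syl3Class
import Cfsg.Agent.H903.Syl3Exc
import Cfsg.Agent.H903.Syl3Spor
import Cfsg.Agent.H523.ThreeTw

set_option autoImplicit false

namespace Cfsg.Agent.H903.Syl3Fin

open Cfsg Cfsg.Lie Cfsg.Agent.H903.SylMeet

/-- **Main theorem** for known simple groups, `p = 3`. -/
theorem meet3_known_of {T : Type*} [Group T] [Finite T] [IsSimpleGroup T]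
    (h2E6 : ∀ (K : Type) [Field K] [Fintype K], Fintype.card K = 4 → (T ≃* ↥(twistedE6 K 2)) → Meet 3 T)
    (hO : ∀ (F : Type) [Field F] [Fintype F], Fintype.card F = 3 →
      ¬ Nonempty (T ≃* POmega F (quadFormPlus 4 F)))
    (hT : ¬ IsMulCommutative T) (h : IsKnownSimple' T) : Meet 3 T := by
  rcases h with h | h | h | h | h | h | h | h | h | h
  · exfalso
    apply hT
    have : Fact (Nat.card T).Prime := ⟨h⟩
    have := isCyclic_of_prime_card (α := T) rfl
    exact ⟨⟨fun a b => (IsCyclic.commGroup (α := T)).mul_comm a b⟩⟩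
  · exact Syl3Class.alt h
  · exact Syl3Class.psl h
  · exact Syl3Class.psp h
  · exact Syl3Class.psu h
  · exact Syl3Class.pomega_odd h
  · exact Syl3Class.pomega_plus hO h
  · exact Syl3Class.pomega_minus h
  · exact Syl3Exc.meet3_exc h2E6 h
  · exact Syl3Spor.spor h

/-- **Main theorem**, no exceptions. -/
theorem meet3_known {T : Type*} [Group T] [Finite T] [IsSimpleGroup T]
    (hO : ∀ (F : Type) [Field F] [Fintype F], Fintype.card F = 3 →
      ¬ Nonempty (T ≃* POmega F (quadFormPlus 4 F)))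
    (hT : ¬ IsMulCommutative T) (h : IsKnownSimple' T) : Meet 3 T :=
  meet3_known_of (fun K _ _ hK e => Meet.congr e.symm
    (Cfsg.Agent.H523.Three.cross3_2E6 2 Nat.prime_two.isPrimePow (by rw [hK]; norm_num) (by norm_num))) hO hT h

end Cfsg.Agent.H903.Syl3Fin
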